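import Groth.Agent.Hensel.EtaleResidueExt
import Mathlib.RingTheory.AdjoinRoot
import Mathlib.RingTheory.RootsOfUnity.PrimitiveRoots
import Mathlib.RingTheory.UniqueFactorizationDomain.Basic
import Mathlib.RingTheory.Localization.FractionRing

/-! # Algebra of cyclic covers: eigen-coefficients of integral elements -/

universe u

namespace Groth.Agent.H44Cyc

open Polynomial

variable {A K : Type u} [CommRing A] [Field K] [Algebra A K]

/-- The coordinates of an integral element of `K[T]/(T^N - f)` in the eigenbasis are integral. -/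
theorem coeff_isIntegral {N : ℕ} (hN : 0 < N) (hNA : IsUnit (N : A)) {ζ : A}
    (hζ : IsPrimitiveRoot (algebraMap A K ζ) N) (f : A) (c : Fin N → K)
    (hy : IsIntegral A (∑ j : Fin N, algebraMap K (AdjoinRoot (X ^ N - C (algebraMap A K f))) (c j) *
      AdjoinRoot.root (X ^ N - C (algebraMap A K f)) ^ (j : ℕ))) (j : Fin N) :
    IsIntegral A (c j ^ N * algebraMap A K f ^ (j : ℕ)) := by
  classical
  let P : K[X] := X ^ N - C (algebraMap A K f)
  let T : AdjoinRoot P := AdjoinRoot.root P
  let ι : K →+* AdjoinRoot P := algebraMap K (AdjoinRoot P)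
  have hT : T ^ N = ι (algebraMap A K f) := by
    have h := AdjoinRoot.eval₂_root P
    rw [eval₂_sub, eval₂_X_pow, eval₂_C, sub_eq_zero] at h
    exact h
  let z : K := algebraMap A K ζ
  have hzN : z ^ N = 1 := hζ.pow_eq_one
  -- the automorphisms
  have hroot : ∀ i : ℕ, P.eval₂ ι (ι (z ^ i) * T) = 0 := fun i => by
    rw [eval₂_sub, eval₂_X_pow, eval₂_C, mul_pow, ← map_pow, ← pow_mul, mul_comm i, pow_mul, hzN, one_pow,
      map_one, one_mul, hT, sub_self]
  let σ : ℕ → (AdjoinRoot P →ₐ[A] AdjoinRoot P) := fun i =>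
    { toRingHom := AdjoinRoot.lift ι (ι (z ^ i) * T) (hroot i)
      commutes' := fun a => by
        show AdjoinRoot.lift ι _ (hroot i) (algebraMap A (AdjoinRoot P) a) = _
        rw [IsScalarTower.algebraMap_apply A K (AdjoinRoot P), AdjoinRoot.algebraMap_eq, AdjoinRoot.lift_of]
        rfl }
  have hσι : ∀ i (r : K), σ i (ι r) = ι r := fun i r => by
    show AdjoinRoot.lift ι _ (hroot i) (AdjoinRoot.of P r) = _
    rw [AdjoinRoot.lift_of]
  have hσT : ∀ i, σ i T = ι (z ^ i) * T := fun i => by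
    show AdjoinRoot.lift ι _ (hroot i) (AdjoinRoot.root P) = _
    rw [AdjoinRoot.lift_root]
  let y : AdjoinRoot P := ∑ l : Fin N, ι (c l) * T ^ (l : ℕ)
  have hyi : IsIntegral A y := hy
  have hsum : IsIntegral A (∑ i ∈ Finset.range N, algebraMap A (AdjoinRoot P) (ζ ^ (i * (N - j))) * σ i y) :=
    IsIntegral.sum _ fun i _ => isIntegral_algebraMap.mul (hyi.map (σ i))
  have heq : ∑ i ∈ Finset.range N, algebraMap A (AdjoinRoot P) (ζ ^ (i * (N - j))) * σ i y =
      algebraMap A (AdjoinRoot P) N * (ι (c j) * T ^ (j : ℕ)) := by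
    have h1 : ∀ i, algebraMap A (AdjoinRoot P) (ζ ^ (i * (N - j))) * σ i y =
        ∑ l : Fin N, ι (c l * (z ^ (N - j + l)) ^ i) * T ^ (l : ℕ) := fun i => by
      rw [show y = ∑ l : Fin N, ι (c l) * T ^ (l : ℕ) from rfl, map_sum, Finset.mul_sum]
      refine Finset.sum_congr rfl fun l _ => ?_
      rw [map_mul, map_pow (σ i), hσι, hσT, mul_pow, IsScalarTower.algebraMap_apply A K (AdjoinRoot P),
        map_pow (algebraMap A K)]
      simp only [ι, ← map_pow, ← mul_assoc, ← map_mul]
      congr 2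
      rw [map_pow, show algebraMap A K ζ = z from rfl]
      ring
    simp only [h1]
    rw [Finset.sum_comm]
    have h2 : ∀ l : Fin N, ∑ i ∈ Finset.range N, ι (c l * (z ^ (N - j + l)) ^ i) * T ^ (l : ℕ) =
        if l = j then algebraMap A (AdjoinRoot P) N * (ι (c j) * T ^ (j : ℕ)) else 0 := fun l => by
      rw [← Finset.sum_mul, ← map_sum, ← Finset.mul_sum]
      split_ifs with h
      · subst h
        rw [Nat.sub_add_cancel l.2.le, hzN]
        simp only [one_pow, Finset.sum_const, Finset.card_range, nsmul_eq_mul, mul_one, map_mul, map_natCast]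
        ring
      · have hne : z ^ (N - j + l) ≠ 1 := fun hw => by
          have hd := hζ.dvd_of_pow_eq_one _ hw
          refine h (Fin.ext ?_)
          obtain ⟨m, hm⟩ := hd
          have := l.2
          have := j.2
          rcases m with _ | _ | m
          · omega
          · rw [zero_add, mul_one] at hm
            omega
          · rw [mul_add, mul_add, mul_one] at hm
            omega
        have hgs : ∑ i ∈ Finset.range N, (z ^ (N - j + l)) ^ i = 0 := by
          have h0 := geom_sum_mul (z ^ (N - j + l)) N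
          rw [show (z ^ (N - j + l)) ^ N = 1 by rw [← pow_mul, mul_comm, pow_mul, hzN, one_pow], sub_self] at h0
          exact (mul_eq_zero.1 h0).resolve_right (sub_ne_zero.2 hne)
        rw [hgs, mul_zero, map_zero, zero_mul]
    simp only [h2, Finset.sum_ite_eq', Finset.mem_univ, if_true]
  rw [heq] at hsum
  obtain ⟨v, hv⟩ := hNA.exists_left_inv
  have hterm : IsIntegral A (ι (c j) * T ^ (j : ℕ)) := by
    have := (isIntegral_algebraMap (R := A) (A := AdjoinRoot P) (x := v)).mul hsum
    rwa [← mul_assoc, ← map_mul, hv, map_one, one_mul] at this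
  have hpow := hterm.pow N
  rw [mul_pow, ← pow_mul, mul_comm (j : ℕ) N, pow_mul, hT, ← map_pow, ← map_pow, ← map_mul] at hpow
  have : Nontrivial (AdjoinRoot P) := AdjoinRoot.nontrivial P (fun h0 => by
    have hdeg : P.natDegree = N := natDegree_X_pow_sub_C
    have := natDegree_eq_zero_iff_degree_le_zero.2 h0.le
    omega)
  have hinj : Function.Injective ι := RingHom.injective ι
  exact (isIntegral_algHom_iff (IsScalarTower.toAlgHom A K (AdjoinRoot P)) hinj).1 hpow

/-- In a factorial domain a fraction whose `N`-th power times a product of distinct primes with exponents less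
than `N` is integral, is itself integral. -/
theorem dvd_of_pow_dvd_mul_prod {R : Type u} [CommRing R] [IsDomain R] [UniqueFactorizationMonoid R] {ι : Type*}
    (s : Finset ι) (g : ι → R) (e : ι → ℕ) (hg : ∀ l ∈ s, Prime (g l))
    (hne : ∀ l ∈ s, ∀ l' ∈ s, l ≠ l' → ¬ Associated (g l) (g l')) {N : ℕ} (hN : N ≠ 0) (he : ∀ l ∈ s, e l < N)
    {a b : R}
    (hb : b ≠ 0) (h : b ^ N ∣ a ^ N * ∏ l ∈ s, g l ^ e l) : b ∣ a := by
  classical
  obtain ⟨a', b', c, hcop, rfl, rfl⟩ := UniqueFactorizationMonoid.exists_reduced_factors' a b hb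
  refine mul_dvd_mul_left c ?_
  rw [mul_pow, mul_pow, mul_assoc] at h
  have hc : c ^ N ≠ 0 := pow_ne_zero _ fun h0 => hb (by rw [h0, zero_mul])
  have h' := (mul_dvd_mul_iff_left hc).1 h
  have hbu : IsUnit b' := by
    by_contra hnu
    have hb0 : b' ≠ 0 := fun h0 => hb (by rw [h0, mul_zero])
    obtain ⟨p, hp, hpb⟩ := WfDvdMonoid.exists_irreducible_factor hnu hb0
    have hpp : Prime p := UniqueFactorizationMonoid.irreducible_iff_prime.1 hp
    have hna : ¬ p ∣ a' := fun hpa => hp.not_isUnit (hcop hpa hpb)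
    have hd : p ^ N ∣ ∏ l ∈ s, g l ^ e l := by
      refine hpp.pow_dvd_of_dvd_mul_left N ?_ ((pow_dvd_pow_of_dvd hpb N).trans h')
      exact fun hh => hna (hpp.dvd_of_dvd_pow hh)
    obtain ⟨l, hl, hpl⟩ := hpp.exists_mem_finset_dvd ((dvd_pow_self p hN).trans hd)
    have hass : Associated p (g l) := hpp.associated_of_dvd (hg l hl) (hpp.dvd_of_dvd_pow hpl)
    rw [← Finset.mul_prod_erase s _ hl] at hd
    have hrest : ¬ p ∣ ∏ l' ∈ s.erase l, g l' ^ e l' := fun hh => by
      obtain ⟨l', hl', hpl'⟩ := hpp.exists_mem_finset_dvd hh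
      obtain ⟨hne', hl's⟩ := Finset.mem_erase.1 hl'
      exact hne l' hl's l hl hne'
        ((hpp.associated_of_dvd (hg l' hl's) (hpp.dvd_of_dvd_pow hpl')).symm.trans hass)
    have hd' : p ^ N ∣ g l ^ e l := hpp.pow_dvd_of_dvd_mul_right N hrest hd
    have hd'' : p ^ N ∣ p ^ e l := (hass.pow_pow (n := e l)).dvd_iff_dvd_right.2 hd'
    have := (pow_dvd_pow_iff hpp.ne_zero hpp.not_isUnit).1 hd''
    exact absurd (he l hl) (by omega)
  exact hbu.dvd

/-- `T^N = f` is étale when `N f` is a unit. -/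
theorem etale_X_pow_sub_C {N : ℕ} (hN : 0 < N) (hNA : IsUnit (N : A)) {f : A} (hf : IsUnit f) :
    Algebra.Etale A (AdjoinRoot (X ^ N - C f : A[X])) := by
  refine Hensel.etale_adjoinRoot (monic_X_pow_sub_C f hN.ne') ?_
  have hT : AdjoinRoot.root (X ^ N - C f : A[X]) ^ N = algebraMap A _ f := by
    have h := AdjoinRoot.eval₂_root (X ^ N - C f : A[X])
    rw [eval₂_sub, eval₂_X_pow, eval₂_C, sub_eq_zero] at h
    exact h
  have hu : IsUnit (AdjoinRoot.root (X ^ N - C f : A[X])) := (isUnit_pow_iff hN.ne').1 (hT ▸ hf.map _)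
  rw [derivative_sub, derivative_X_pow, derivative_C, sub_zero, map_mul, aeval_C, map_pow, aeval_X]
  exact (hNA.map _).mul (hu.pow _)

end Groth.Agent.H44Cyc
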