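import Groth.Agent.CycCovLib.Cyclic

/-! # The explicit model of the normalisation of a cyclic cover branched along a regular divisor

The argument is the one of `CycCovLib.main`, keeping the isomorphism with the model.
-/

universe u

namespace Groth.Agent.H44Cyc

open Polynomial CycCovLib

variable {B : Type u} [CommRing B] {g : ℕ} {u : Bˣ} {m i : ℕ} {f : B}
variable {K : Type u} [CommRing K] [Algebra B K]

set_option maxHeartbeats 1000000 in
theorem exists_model [IsDomain B] [IsRegularRing B] [IsRegularRing (B ⧸ Ideal.span {f})]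
    (N α : ℕ) (hN : 0 < N) (hNB : IsUnit (N : B)) (hf : f ≠ 0)
    [Algebra (AdjoinRoot (X ^ N - C ((u : B) * f ^ α) : B[X])) K]
    [IsScalarTower B (AdjoinRoot (X ^ N - C ((u : B) * f ^ α) : B[X])) K]
    [IsLocalization.Away (algebraMap B (AdjoinRoot (X ^ N - C ((u : B) * f ^ α) : B[X])) f) K]
    (A : Subalgebra B K)
    (hA : A = Algebra.adjoin B (Set.range fun j : Fin N =>
      algebraMap (AdjoinRoot (X ^ N - C ((u : B) * f ^ α) : B[X])) K
          (AdjoinRoot.root (X ^ N - C ((u : B) * f ^ α) : B[X]) ^ (j : ℕ)) *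
        IsLocalization.Away.invSelf (S := K)
          (algebraMap B (AdjoinRoot (X ^ N - C ((u : B) * f ^ α) : B[X])) f) ^ ((j : ℕ) * α / N))) :
    ∃ (g m i₀ : ℕ) (_ : N = g * m) (_ : g = Nat.gcd N α) (_ : 0 < g) (_ : 0 < m),
      Nonempty (DD g u m i₀ f ≃ₐ[B] A) := by
  classical
  -- numerology
  obtain ⟨m, hmN⟩ := Nat.gcd_dvd_left N α
  obtain ⟨β, hβα⟩ := Nat.gcd_dvd_right N α
  generalize hgdef : Nat.gcd N α = g at hmN hβα
  have hg : 0 < g := hgdef ▸ Nat.gcd_pos_of_pos_left _ hN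
  have hm : 0 < m := Nat.pos_of_ne_zero fun h => by simp [h] at hmN; omega
  have hcop : Nat.Coprime m β := by
    have h := hgdef
    rw [hmN, hβα, Nat.gcd_mul_left] at h
    exact Nat.eq_of_mul_eq_mul_left hg (by rw [h, mul_one])
  obtain ⟨i₀, j₀, hbez⟩ : ∃ (i₀ : ℕ) (j₀ : ℤ), (i₀ : ℤ) * β - m * j₀ = 1 := by
    obtain ⟨a, b, hab⟩ := (Nat.isCoprime_iff_coprime.2 hcop : IsCoprime (m : ℤ) (β : ℤ))
    have hm' : (m : ℤ) ≠ 0 := by exact_mod_cast hm.ne'
    refine ⟨(b % m).toNat, -a - (b / m) * β, ?_⟩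
    rw [Int.toNat_of_nonneg (Int.emod_nonneg _ hm')]
    linear_combination hab + (β : ℤ) * Int.emod_add_mul_ediv b m
  have hgB : IsUnit (g : B) := isUnit_of_dvd_unit ⟨(m : B), by rw [hmN, Nat.cast_mul]⟩ hNB
  have hmB : IsUnit (m : B) :=
    isUnit_of_dvd_unit ⟨(g : B), by rw [hmN, Nat.cast_mul, mul_comm]⟩ hNB
  -- units in `K`
  have hFu : IsUnit (algebraMap B K f) := by
    rw [IsScalarTower.algebraMap_apply B (AdjoinRoot (X ^ N - C ((u : B) * f ^ α) : B[X])) K]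
    exact IsLocalization.Away.algebraMap_isUnit _
  obtain ⟨F, hF⟩ := hFu
  obtain ⟨U, hU⟩ := u.isUnit.map (algebraMap B K)
  let t : K := algebraMap (AdjoinRoot (X ^ N - C ((u : B) * f ^ α) : B[X])) K (AdjoinRoot.root (X ^ N - C ((u : B) * f ^ α) : B[X]))
  have htN : t ^ N = (U : K) * (F : K) ^ α := by
    have h := AdjoinRoot.eval₂_root (X ^ N - C ((u : B) * f ^ α) : B[X])
    rw [eval₂_sub, eval₂_X_pow, eval₂_C, sub_eq_zero] at h
    simp only [t, ← map_pow]
    rw [h, ← AdjoinRoot.algebraMap_eq, ← IsScalarTower.algebraMap_apply, map_mul, map_pow, hU, hF]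
  obtain ⟨T, hT⟩ : IsUnit t := (isUnit_pow_iff hN.ne').1 (htN ▸ U.isUnit.mul (F.isUnit.pow α))
  have hTN : T ^ (N : ℤ) = U * F ^ (α : ℤ) := by
    rw [zpow_natCast, zpow_natCast]; ext; simp [hT, htN]
  have hinv : IsLocalization.Away.invSelf (S := K) (algebraMap B (AdjoinRoot (X ^ N - C ((u : B) * f ^ α) : B[X])) f) =
      ((F⁻¹ : Kˣ) : K) := by
    apply F.isUnit.mul_left_cancel
    rw [Units.mul_inv, hF, IsScalarTower.algebraMap_apply B (AdjoinRoot (X ^ N - C ((u : B) * f ^ α) : B[X])) K,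
      IsLocalization.Away.mul_invSelf]
  have hZ : (N : ℤ) = g * m := by exact_mod_cast hmN
  have hZ' : (α : ℤ) = g * β := by exact_mod_cast hβα
  have hUA : ∀ l : ℤ, ((U ^ l : Kˣ) : K) ∈ A := fun l => by
    have : U = Units.map (algebraMap B K : B →* K) u := Units.ext hU
    rw [this, ← map_zpow]
    exact A.algebraMap_mem _
  have hFA : ∀ n : ℕ, ((F ^ (n : ℤ) : Kˣ) : K) ∈ A := fun n => by
    rw [zpow_natCast, Units.val_pow_eq_pow_val, hF]
    exact pow_mem (A.algebraMap_mem _) _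
  have hgen : ∀ r d : ℕ, algebraMap (AdjoinRoot (X ^ N - C ((u : B) * f ^ α) : B[X])) K
      (AdjoinRoot.root (X ^ N - C ((u : B) * f ^ α) : B[X]) ^ r) *
      IsLocalization.Away.invSelf (S := K)
        (algebraMap B (AdjoinRoot (X ^ N - C ((u : B) * f ^ α) : B[X])) f) ^ d =
      ((T ^ (r : ℤ) * F ^ (-(d : ℤ)) : Kˣ) : K) := fun r d => by
    rw [hinv, map_pow, show algebraMap _ K (AdjoinRoot.root _) = (T : K) from hT.symm,
      zpow_natCast, zpow_neg, zpow_natCast, ← inv_pow, Units.val_mul, Units.val_pow_eq_pow_val,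
      Units.val_pow_eq_pow_val]
  have hmem : ∀ a e : ℤ, e * N ≤ a * α → ((T ^ a * F ^ (-e) : Kˣ) : K) ∈ A := by
    intro a e hle
    have hN' : (0 : ℤ) < N := by exact_mod_cast hN
    have hdiv := Int.emod_add_mul_ediv a N
    set l := a / N
    obtain ⟨r, hr⟩ : ∃ r : ℕ, (r : ℤ) = a % N :=
      ⟨(a % N).toNat, Int.toNat_of_nonneg (Int.emod_nonneg _ hN'.ne')⟩
    have hrN : r < N := by
      have := Int.emod_lt_of_pos a hN'; omega
    rw [← hr] at hdiv
    obtain ⟨n, hn⟩ : ∃ n : ℕ, (n : ℤ) = ((r * α / N : ℕ) : ℤ) + α * l - e := by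
      refine ⟨_, Int.toNat_of_nonneg ?_⟩
      have h1 : ((r * α : ℕ) : ℤ) < (N : ℤ) * ((r * α / N : ℕ) : ℤ) + N := by
        exact_mod_cast (by
          have := Nat.lt_div_mul_add (a := r * α) hN
          linarith [mul_comm (r * α / N) N] : r * α < N * (r * α / N) + N)
      push_cast at h1 ⊢
      by_contra hneg
      have : ((r : ℤ) * α / N + α * l - e) ≤ -1 := by omega
      nlinarith
    have he : T ^ (r : ℤ) * F ^ (-((r * α / N : ℕ) : ℤ)) * (U ^ l * F ^ (n : ℤ)) = T ^ a * F ^ (-e) := by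
      have h2 : U = T ^ (N : ℤ) * F ^ (-(α : ℤ)) := by rw [hTN]; simp [zpow_neg]
      rw [h2, mono_zpow, mul_assoc (T ^ ((N : ℤ) * l)), ← zpow_add, mono_mul, hn]
      congr 2 <;> linarith
    rw [← he, Units.val_mul, Units.val_mul _ (F ^ (n : ℤ))]
    refine mul_mem ?_ (mul_mem (hUA l) (hFA n))
    rw [hA]
    exact Algebra.subset_adjoin ⟨⟨r, hrN⟩, hgen r _⟩
  -- the map from the explicit model
  let w : Kˣ := T ^ (m : ℤ) * F ^ (-(β : ℤ))
  let s : Kˣ := T ^ (i₀ : ℤ) * F ^ (-j₀)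
  have hwA : (w : K) ∈ A := hmem _ _ (by rw [hZ, hZ']; exact le_of_eq (by ring))
  have hsA : (s : K) ∈ A := hmem _ _ (by
    rw [hZ, hZ', ← sub_nonneg, show (i₀ : ℤ) * (g * β) - j₀ * (g * m) = g * ((i₀ : ℤ) * β - m * j₀) by ring, hbez]
    simp)
  have hwg : w ^ (g : ℤ) = U := by
    rw [mono_zpow, show (m : ℤ) * g = N by rw [hZ, mul_comm], show -(β : ℤ) * g = -α by rw [hZ']; ring,
      hTN]
    simp [zpow_neg]
  have hsm : s ^ (m : ℤ) = w ^ (i₀ : ℤ) * F := by
    conv_rhs => rw [mono_zpow, mul_assoc, ← zpow_add_one]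
    rw [mono_zpow, mul_comm (i₀ : ℤ) m]
    congr 2
    linarith
  let Φ₁ : CC g u →ₐ[B] K := AdjoinRoot.liftAlgHom _ (Algebra.ofId B K) (w : K) (by
    rw [eval₂_sub, eval₂_X_pow, eval₂_C, sub_eq_zero]
    rw [← Units.val_pow_eq_pow_val, ← zpow_natCast, hwg, hU]; rfl)
  have hΦ₁ : Φ₁ (AdjoinRoot.root _) = (w : K) := AdjoinRoot.liftAlgHom_root _ _ _ _
  let Φ : DD g u m i₀ f →ₐ[B] K := AdjoinRoot.liftAlgHom _ Φ₁ (s : K) (by
    rw [eval₂_sub, eval₂_X_pow, eval₂_C, sub_eq_zero]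
    change _ = Φ₁ _
    rw [map_mul, map_pow, hΦ₁, AlgHom.commutes, ← hF]
    have := congrArg Units.val hsm
    simpa using this)
  have hΦs : Φ (S g u m i₀ f) = (s : K) := AdjoinRoot.liftAlgHom_root _ _ _ _
  have hΦw : Φ (W g u m i₀ f) = (w : K) :=
    (AdjoinRoot.liftAlgHom_of _ _ _ _ _).trans hΦ₁
  -- range
  have hrange : Φ.range = A := by
    apply le_antisymm
    · rintro _ ⟨x, rfl⟩
      change Φ x ∈ A
      exact induction_DD (p := fun x => Φ x ∈ A)
        (fun x y hx hy => by rw [map_add Φ]; exact add_mem hx hy)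
        (fun x y hx hy => by rw [map_mul Φ]; exact mul_mem hx hy)
        (fun b => by rw [Φ.commutes]; exact A.algebraMap_mem b)
        (by rw [hΦw]; exact hwA) (by rw [hΦs]; exact hsA) x
    · rw [hA, Algebra.adjoin_le_iff]
      rintro _ ⟨j, rfl⟩
      set a := (j : ℕ) * α / N with ha
      obtain ⟨r, hr⟩ : ∃ r : ℕ, (r : ℤ) = (j : ℕ) * β - m * a := by
        refine ⟨_, Int.toNat_of_nonneg ?_⟩
        have h := Nat.div_mul_le_self ((j : ℕ) * α) N
        rw [← ha] at h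
        have h' : (a : ℤ) * (g * m) ≤ (j : ℕ) * (g * β) := by rw [← hZ, ← hZ']; exact_mod_cast h
        nlinarith
      obtain ⟨W', hW⟩ := ((isUnit_root (u := u) hg).map (algebraMap (CC g u) (DD g u m i₀ f)))
      let q : ℤ := i₀ * a - (j : ℕ) * j₀
      refine ⟨((W' ^ q : (DD g u m i₀ f)ˣ) : DD g u m i₀ f) * (S g u m i₀ f) ^ r, ?_⟩
      have hWmap : Units.map (Φ : DD g u m i₀ f →* K) W' = w := Units.ext (by
        rw [Units.coe_map]; exact (congrArg Φ hW).trans hΦw)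
      have he : w ^ q * s ^ (r : ℤ) = T ^ ((j : ℕ) : ℤ) * F ^ (-(a : ℤ)) := by
        rw [mono_zpow, mono_zpow, mono_mul]
        congr 2
        · simp only [q, hr]; linear_combination ((j : ℕ) : ℤ) * hbez
        · simp only [q, hr]; linear_combination -(a : ℤ) * hbez
      change Φ _ = _
      rw [map_mul, map_pow, hΦs]
      have h3 : Φ ((W' ^ q : (DD g u m i₀ f)ˣ) : DD g u m i₀ f) = ((w ^ q : Kˣ) : K) := by
        rw [← hWmap, ← map_zpow]; rfl
      rw [h3, ← Units.val_pow_eq_pow_val, ← Units.val_mul, ← zpow_natCast, he]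
      exact (hgen _ _).symm
  -- injectivity
  obtain ⟨L, _, _, _, _, F', hF', hLinj⟩ : ∃ (L : Type u) (_ : CommRing L) (_ : Algebra B L)
      (_ : Algebra (DD g u m i₀ f) L) (_ : IsScalarTower B (DD g u m i₀ f) L),
      ∃ F' : Lˣ, (F' : L) = algebraMap B L f ∧
        Function.Injective (algebraMap (DD g u m i₀ f) L) := exists_loc hg hm hf
  obtain ⟨w', s', U', hw', hs', hU', hwg', hsm'⟩ :=
    exists_units (u := u) (i := i₀) hg hm L F' hF'
  let T' : Lˣ := s' ^ (β : ℤ) * w' ^ (-j₀)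
  have hTN' : T' ^ (N : ℤ) = U' * F' ^ (α : ℤ) := by
    rw [mono_zpow, hZ, show (β : ℤ) * (g * m) = m * (g * β) by ring, zpow_mul s', hsm', mul_zpow,
      ← zpow_mul, mul_assoc, mul_comm (F' ^ _), ← mul_assoc, ← zpow_add,
      show (i₀ : ℤ) * (g * β) + -j₀ * (g * m) = g * 1 by linear_combination (g : ℤ) * hbez,
      mul_one, hwg', hZ']
  let Ψ₁ : AdjoinRoot (X ^ N - C ((u : B) * f ^ α) : B[X]) →ₐ[B] L := AdjoinRoot.liftAlgHom _ (Algebra.ofId B L) (T' : L) (by
    rw [eval₂_sub, eval₂_X_pow, eval₂_C, sub_eq_zero]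
    have := congrArg Units.val hTN'
    rw [zpow_natCast, zpow_natCast] at this
    simpa [hU', hF', Algebra.ofId_apply] using this)
  let Ψ : K →+* L := IsLocalization.lift (M := Submonoid.powers (algebraMap B (AdjoinRoot (X ^ N - C ((u : B) * f ^ α) : B[X])) f))
    (g := (Ψ₁ : AdjoinRoot (X ^ N - C ((u : B) * f ^ α) : B[X]) →+* L)) (by
      rintro ⟨_, n, rfl⟩
      rw [map_pow, RingHom.coe_coe, AlgHom.commutes, ← hF']
      exact F'.isUnit.pow n)
  have hΨB : ∀ b, Ψ (algebraMap B K b) = algebraMap B L b := fun b => by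
    rw [IsScalarTower.algebraMap_apply B (AdjoinRoot (X ^ N - C ((u : B) * f ^ α) : B[X])) K, IsLocalization.lift_eq]
    exact Ψ₁.commutes b
  have hΨT : Units.map (Ψ : K →* L) T = T' := Units.ext (by
    rw [Units.coe_map]
    refine ((congrArg Ψ hT).trans
      (IsLocalization.lift_eq _ _)).trans ?_
    simp only [Ψ₁, t, RingHom.coe_coe, AdjoinRoot.liftAlgHom_root])
  have hΨF : Units.map (Ψ : K →* L) F = F' := Units.ext (by
    rw [Units.coe_map]; exact (congrArg Ψ hF).trans ((hΨB f).trans hF'.symm))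
  have hΨw : Units.map (Ψ : K →* L) w = w' := by
    rw [map_mul, map_zpow, map_zpow, hΨT, hΨF, mono_zpow, mul_comm (β : ℤ) m, zpow_mul, hsm',
      mul_zpow, ← zpow_mul, mul_assoc (w' ^ _), mul_comm (F' ^ _), ← mul_assoc, ← zpow_add,
      show (i₀ : ℤ) * β + -j₀ * m = 1 by linear_combination hbez]
    simp [zpow_neg]
  have hΨs : Units.map (Ψ : K →* L) s = s' := by
    rw [map_mul, map_zpow, map_zpow, hΨT, hΨF, mono_zpow,
      show (β : ℤ) * i₀ = 1 + m * j₀ by linear_combination hbez, zpow_add, zpow_mul, hsm', mul_zpow,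
      zpow_one, ← zpow_mul]
    rw [show -j₀ * (i₀ : ℤ) = -((i₀ : ℤ) * j₀) by ring, zpow_neg, zpow_neg]
    simp [mul_assoc, mul_comm, mul_left_comm]
  have hcomp : ∀ x, Ψ (Φ x) = algebraMap (DD g u m i₀ f) L x :=
    ringHom_ext_DD (φ := Ψ.comp (Φ : DD g u m i₀ f →+* K)) (ψ := algebraMap (DD g u m i₀ f) L)
      (fun b => by
        rw [RingHom.comp_apply, RingHom.coe_coe, Φ.commutes, hΨB,
          ← IsScalarTower.algebraMap_apply B (DD g u m i₀ f) L])
      (((congrArg Ψ hΦw).trans (congrArg Units.val hΨw)).trans hw')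
      (((congrArg Ψ hΦs).trans (congrArg Units.val hΨs)).trans hs')
  have hΦinj : Function.Injective Φ := fun a b h => hLinj (by rw [← hcomp, ← hcomp, h])
  let e : DD g u m i₀ f ≃ₐ[B] A := (AlgEquiv.ofInjective Φ hΦinj).trans (Subalgebra.equivOfEq _ _ hrange)
  exact ⟨g, m, i₀, hmN, rfl, hg, hm, ⟨e⟩⟩

end Groth.Agent.H44Cyc
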