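import Groth.Agent.H44Cyc.CovData
import Groth.Agent.H44Cyc.Model

/-! # The cover over a neighbourhood of a single branch component -/

universe u

namespace Groth.Agent.H44Cyc

open Polynomial CycCovLib

set_option linter.style.haveILetI false

variable {A R : Type u} [CommRing A] [CommRing R] {φ : A →+* R} {N α : ℕ} {f : A} {t : R}

/-- Over a single regular branch component the functions are the explicit model. -/
theorem CovData.exists_model_equiv [IsDomain A] [IsIntegrallyClosed A] [IsRegularRing A] (hc : CovData φ N f t)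
    (hN : 0 < N) (hNA : IsUnit (N : A)) {ζ : A} (hζ : IsPrimitiveRoot ζ N) {h : A} (hh : h ≠ 0)
    [IsRegularRing (A ⧸ Ideal.span {h})] (u : Aˣ) (hf : f = (u : A) * h ^ α)
    (hmax : ∀ (j : Fin N) (a b : A), b ≠ 0 → b ^ N ∣ a ^ N * f ^ (j : ℕ) → b ∣ a * h ^ ((j : ℕ) * α / N)) :
    ∃ (g m i₀ : ℕ) (_ : N = g * m) (_ : g = Nat.gcd N α) (_ : 0 < g) (_ : 0 < m) (ρ : DD g u m i₀ h ≃+* R),
      ∀ a, ρ (algebraMap A _ a) = φ a := by
  classical
  subst hf
  letI : Algebra A R := φ.toAlgebra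
  have hdiv : ∀ j : Fin N, (h ^ ((j : ℕ) * α / N)) ^ N ∣ ((u : A) * h ^ α) ^ (j : ℕ) := fun j => by
    rw [mul_pow, ← pow_mul, ← pow_mul]
    exact dvd_mul_of_dvd_right (pow_dvd_pow _ ((Nat.div_mul_le_self _ _).trans_eq (Nat.mul_comm _ _))) _
  obtain ⟨E, hE, hbij⟩ := hc.exists_basis hN hNA hζ _ (fun j => pow_ne_zero _ hh) hdiv hmax
  let P : A[X] := X ^ N - C ((u : A) * h ^ α)
  have hP : P.Monic := monic_X_pow_sub_C _ hN.ne'
  let ev : AdjoinRoot P →ₐ[A] R := AdjoinRoot.liftAlgHom P (Algebra.ofId A R) t (by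
    rw [eval₂_sub, eval₂_X_pow, eval₂_C, hc.root]
    exact sub_self _)
  have hevinj : Function.Injective ev := by
    rw [injective_iff_map_eq_zero]
    intro z hz
    obtain ⟨Q, rfl⟩ := AdjoinRoot.mk_surjective z
    rw [← AdjoinRoot.mk_leftInverse hP (AdjoinRoot.mk P Q), AdjoinRoot.modByMonicHom_mk] at hz ⊢
    have hdeg : (Q %ₘ P).degree < N := (degree_modByMonic_lt _ hP).trans_eq (degree_X_pow_sub_C hN _)
    generalize Q %ₘ P = Q' at hdeg hz
    have hc0 := hc.inj (fun j => Q'.coeff j) <| by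
      refine Eq.trans ?_ hz
      simp only [ev, AdjoinRoot.liftAlgHom_mk]
      rw [eval₂_eq_sum, sum_over_range' _ (fun n => by simp) N ?_, Finset.sum_range]
      · rfl
      · rcases eq_or_ne Q' 0 with h0 | h0
        · rw [h0, natDegree_zero]; exact hN
        · exact (natDegree_lt_iff_degree_lt h0).2 hdeg
    have : Q' = 0 := by
      ext l
      rcases lt_or_ge l N with hl | hl
      · rw [coeff_zero]; exact congrFun hc0 ⟨l, hl⟩
      · rw [coeff_zero]; exact coeff_eq_zero_of_degree_lt (hdeg.trans_le (by exact_mod_cast hl))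
    rw [this, map_zero]
  let Rh := Localization.Away (algebraMap A R h)
  let κ : R →ₐ[A] Rh := IsScalarTower.toAlgHom A R Rh
  have hκ : Function.Injective κ := IsLocalization.injective Rh (M := Submonoid.powers (algebraMap A R h))
    (Submonoid.powers_le.2 (mem_nonZeroDivisors_iff_right.2 fun x hx => hc.nzd h hh x (by rwa [mul_comm] at hx)))
  let a₀ : AdjoinRoot P := algebraMap A (AdjoinRoot P) h
  let K := Localization.Away a₀
  let Ψ₀ : K →+* Rh := IsLocalization.lift (M := Submonoid.powers a₀) (g := (κ.comp ev : AdjoinRoot P →+* Rh))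
    fun ⟨_, n, hn⟩ => by
      subst hn
      rw [map_pow, RingHom.coe_coe, AlgHom.comp_apply, ev.commutes]
      exact (IsLocalization.Away.algebraMap_isUnit (S := Rh) (algebraMap A R h)).pow n
  let Ψ : K →ₐ[A] Rh :=
    { toRingHom := Ψ₀
      commutes' := fun a => by
        show Ψ₀ (algebraMap A K a) = _
        rw [IsScalarTower.algebraMap_apply A (AdjoinRoot P) K, IsLocalization.lift_eq]
        exact (κ.comp ev).commutes a }
  have hΨeq : ∀ z, Ψ (algebraMap (AdjoinRoot P) K z) = κ (ev z) := fun z => IsLocalization.lift_eq _ _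
  have hΨinj : Function.Injective Ψ := by
    rw [injective_iff_map_eq_zero]
    intro x hx
    obtain ⟨⟨z, s⟩, hzs⟩ := IsLocalization.surj (Submonoid.powers a₀) x
    have h1 : κ (ev z) = 0 := by rw [← hΨeq, ← hzs, map_mul, hx, zero_mul]
    have h2 : z = 0 := hevinj (hκ (by rw [h1, map_zero, map_zero]))
    rw [h2, map_zero] at hzs
    exact (IsLocalization.map_units K s).mul_left_eq_zero.1 hzs
  let 𝒜 : Subalgebra A K := Algebra.adjoin A (Set.range fun j : Fin N =>
    algebraMap (AdjoinRoot P) K (AdjoinRoot.root P ^ (j : ℕ)) *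
      IsLocalization.Away.invSelf (S := K) a₀ ^ ((j : ℕ) * α / N))
  have hgen : ∀ j : Fin N, Ψ (algebraMap (AdjoinRoot P) K (AdjoinRoot.root P ^ (j : ℕ)) *
      IsLocalization.Away.invSelf (S := K) a₀ ^ ((j : ℕ) * α / N)) = κ (E j) := fun j => by
    let q := (j : ℕ) * α / N
    refine ((IsLocalization.Away.algebraMap_isUnit (S := Rh) (algebraMap A R h)).pow q).mul_left_cancel ?_
    have h1 : Ψ (algebraMap (AdjoinRoot P) K a₀) ^ q * Ψ (IsLocalization.Away.invSelf (S := K) a₀) ^ q = 1 := by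
      rw [← mul_pow, ← map_mul, IsLocalization.Away.mul_invSelf, map_one, one_pow]
    have h2 : Ψ (algebraMap (AdjoinRoot P) K a₀) = algebraMap R Rh (algebraMap A R h) := by
      rw [hΨeq, ev.commutes]; rfl
    rw [h2] at h1
    rw [map_mul Ψ, map_pow Ψ, hΨeq, map_pow ev, AdjoinRoot.liftAlgHom_root]
    calc (algebraMap R Rh) ((algebraMap A R) h) ^ q *
          (κ (t ^ (j : ℕ)) * Ψ (IsLocalization.Away.invSelf a₀) ^ q) =
        κ (t ^ (j : ℕ)) * ((algebraMap R Rh) ((algebraMap A R) h) ^ q *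
          Ψ (IsLocalization.Away.invSelf a₀) ^ q) := by ring
      _ = algebraMap R Rh (algebraMap A R h) ^ q * κ (E j) := by
        rw [h1, mul_one, ← hE j, map_mul κ]
        refine congrArg (· * κ (E j)) ?_
        show κ (algebraMap A R (h ^ q)) = _
        rw [map_pow, map_pow]
        rfl
  have himage : 𝒜.map Ψ = κ.range := by
    rw [AlgHom.map_adjoin, ← Set.range_comp]
    apply le_antisymm
    · rw [Algebra.adjoin_le_iff]
      rintro _ ⟨j, rfl⟩
      exact ⟨E j, (hgen j).symm⟩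
    · rintro _ ⟨x, rfl⟩
      obtain ⟨a, rfl⟩ := hbij.2 x
      show κ (∑ j, φ (a j) * E j) ∈ _
      rw [map_sum]
      refine sum_mem fun j _ => ?_
      rw [map_mul, show κ (φ (a j)) = algebraMap A Rh (a j) from κ.commutes (a j)]
      exact mul_mem (Subalgebra.algebraMap_mem _ _) (Algebra.subset_adjoin ⟨j, hgen j⟩)
  obtain ⟨g, m, i₀, hNgm, hg, hg0, hm0, ⟨e⟩⟩ :=
    exists_model (B := A) (u := u) (f := h) (K := K) N α hN hNA hh 𝒜 rfl
  let ρ : DD g u m i₀ h ≃ₐ[A] R := e.trans ((Subalgebra.equivMapOfInjective 𝒜 Ψ hΨinj).trans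
    ((Subalgebra.equivOfEq _ _ himage).trans (AlgEquiv.ofInjective κ hκ).symm))
  exact ⟨g, m, i₀, hNgm, hg, hg0, hm0, ρ.toRingEquiv, fun a => ρ.commutes a⟩

/-- The preimage of the component is a regular divisor with the expected multiplicity. -/
theorem CovData.branch [IsDomain A] [IsIntegrallyClosed A] [IsRegularRing A] (hc : CovData φ N f t)
    (hN : 0 < N) (hNA : IsUnit (N : A)) {ζ : A} (hζ : IsPrimitiveRoot ζ N) {h : A} (hh : h ≠ 0)
    [IsRegularRing (A ⧸ Ideal.span {h})] (u : Aˣ) (hf : f = (u : A) * h ^ α)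
    (hmax : ∀ (j : Fin N) (a b : A), b ≠ 0 → b ^ N ∣ a ^ N * f ^ (j : ℕ) → b ∣ a * h ^ ((j : ℕ) * α / N)) :
    IsRegularRing R ∧ ∃ S v : R, IsUnit v ∧ φ h = v * S ^ (N / Nat.gcd N α) ∧ (Ideal.span {S}).IsRadical := by
  obtain ⟨g, m, i₀, hNgm, hg, hg0, hm0, ρ, hρ⟩ := hc.exists_model_equiv hN hNA hζ hh u hf hmax
  have hgA : IsUnit (g : A) := isUnit_of_dvd_unit ⟨(m : A), by rw [hNgm, Nat.cast_mul]⟩ hNA
  have hmA : IsUnit (m : A) := isUnit_of_dvd_unit ⟨(g : A), by rw [hNgm, Nat.cast_mul, mul_comm]⟩ hNA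
  haveI : IsRegularRing (DD g u m i₀ h) := isRegularRing_DD hg0 hgA hm0 hmA hh
  refine ⟨IsRegularRing.of_ringEquiv ρ, ρ (S g u m i₀ h), ?_⟩
  obtain ⟨w, hw⟩ := ((isUnit_root (u := u) hg0).map (algebraMap (CC g u) (DD g u m i₀ h))).pow i₀
  refine ⟨ρ ((w⁻¹ : (DD g u m i₀ h)ˣ) : DD g u m i₀ h), (Units.isUnit _).map ρ, ?_, ?_⟩
  · rw [← hρ, ← map_pow, ← map_mul, show N / Nat.gcd N α = m by rw [← hg, hNgm, Nat.mul_div_cancel_left _ hg0]]
    refine congrArg ρ ?_
    rw [S_pow, ← mul_assoc, ← hw, Units.inv_mul, one_mul]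
  · obtain ⟨θ, hθ, hker⟩ := exists_quot_DD (u := u) (i := i₀) (f := h) hg0 hm0
    haveI := isRegularRing_CC (u := u) hg0 hgA
    haveI := isRegularRing_CC_quot (u := u) (f := h) hg0 hgA
    haveI := isReduced_of_isRegularRing (CC g u ⧸ Ideal.span {algebraMap A (CC g u) h})
    intro x hx
    obtain ⟨n, hn⟩ := hx
    obtain ⟨d, rfl⟩ := ρ.surjective x
    obtain ⟨c, hc'⟩ := Ideal.mem_span_singleton.1 hn
    have hd : d ^ n ∈ RingHom.ker θ := hker ▸ Ideal.mem_span_singleton.2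
      ⟨ρ.symm c, ρ.injective (by rw [map_pow ρ, map_mul ρ, ρ.apply_symm_apply]; exact hc')⟩
    have h0 : θ d = 0 := IsReduced.eq_zero _ ⟨n, by rw [← map_pow]; exact RingHom.mem_ker.1 hd⟩
    obtain ⟨e, he⟩ := Ideal.mem_span_singleton.1 (hker ▸ RingHom.mem_ker.2 h0 : d ∈ Ideal.span {S g u m i₀ h})
    exact Ideal.mem_span_singleton.2 ⟨ρ e, by rw [he, map_mul ρ]⟩

end Groth.Agent.H44Cyc
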