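import Groth.Agent.AModX.Res
import Mathlib.CategoryTheory.Preadditive.Biproducts

/-! # Coproducts of modules recognised locally on sections -/

universe u

open CategoryTheory CategoryTheory.Limits AlgebraicGeometry TopologicalSpace Opposite

set_option backward.isDefEq.respectTransparency false
set_option linter.style.haveILetI false

namespace Groth.Agent.H44Cyc

open Groth.Agent.AModX

variable {X : Scheme.{u}} {ι : Type} [Fintype ι] {M : ι → X.Modules} {P : X.Modules} (c : ∀ i, M i ⟶ P)

/-- The sum of the maps on sections. -/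
noncomputable def sumApp (V : X.Opens) (a : ∀ i, Γ(M i, V)) : Γ(P, V) := ∑ i, (c i).app V (a i)

theorem sumApp_res {V W : X.Opens} (h : W ≤ V) (a : ∀ i, Γ(M i, V)) :
    res P h (sumApp c V a) = sumApp c W fun i => res (M i) h (a i) := by
  simp only [sumApp, map_sum, app_res]

/-- Bijectivity on a basis of affine opens recognises a coproduct. -/
theorem exists_isColimit_of_basis
    (h : ∀ (p : X) (V : X.Opens), p ∈ V → ∃ W : X.affineOpens, p ∈ W.1 ∧ W.1 ≤ V ∧
      Function.Bijective (sumApp c W.1)) :
    Nonempty (IsColimit (Cofan.mk P c)) := by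
  classical
  have hbasis : ∀ {V : X.Opens} (p : X), p ∈ V → ∃ W : X.affineOpens, p ∈ W.1 ∧ W.1 ≤ V ∧
      Function.Bijective (sumApp c W.1) := fun {V} p hp => h p V hp
  have hinj : ∀ V, Function.Injective (sumApp c V) := fun V a b hab => by
    funext i
    refine eq_of_locally _ _ fun p hp => ?_
    obtain ⟨W, hpW, hle, hW⟩ := hbasis p hp
    refine ⟨W.1, hle, hpW, congrFun (hW.1 (a₁ := fun i => res (M i) hle (a i))
      (a₂ := fun i => res (M i) hle (b i)) ?_) i⟩
    rw [← sumApp_res, ← sumApp_res, hab]
  have hsurj : ∀ V, Function.Surjective (sumApp c V) := fun V y => by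
    choose W hpW hle hW using fun p : V => hbasis (V := V) p.1 p.2
    choose a ha using fun p => (hW p).2 (res P (hle p) y)
    have hg : ∀ i, ∃ s : Γ(M i, V), ∀ p, res (M i) (hle p) s = a p i := fun i => by
      obtain ⟨s, hs, -⟩ := existsUnique_glue (M := M i) (fun p => (W p).1) hle (fun p hp => ⟨⟨p, hp⟩, hpW _⟩)
        (fun p => a p i) fun p q => by
          refine congrFun (hinj ((W p).1 ⊓ (W q).1) (a₁ := fun i => res (M i) inf_le_left (a p i))
            (a₂ := fun i => res (M i) inf_le_right (a q i)) ?_) i
          rw [← sumApp_res, ← sumApp_res, ha, ha, res_res, res_res]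
      exact ⟨s, hs⟩
    choose s hs using hg
    refine ⟨s, eq_of_locally _ _ fun p hp => ⟨(W ⟨p, hp⟩).1, hle _, hpW _, ?_⟩⟩
    rw [sumApp_res]
    simp only [hs, ha]
  have hbij : ∀ V, Function.Bijective (sumApp c V) := fun V => ⟨hinj V, hsurj V⟩
  have hadd : ∀ V a b, sumApp c V (a + b) = sumApp c V a + sumApp c V b := fun V a b => by
    simp only [sumApp, Pi.add_apply, map_add, Finset.sum_add_distrib]
  have hsmul : ∀ (V : X.Opens) (r : Γ(X, V)) a, sumApp c V (fun i => r • a i) = r • sumApp c V a := fun V r a => by
    simp only [sumApp, Scheme.Modules.Hom.app_smul, Finset.smul_sum]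
  have hzero : ∀ V, sumApp c V 0 = 0 := fun V => by simp only [sumApp, Pi.zero_apply, map_zero, Finset.sum_const_zero]
  choose q hq using fun (V : X.Opens) (y : Γ(P, V)) => (hbij V).2 y
  let π : ∀ i, P ⟶ M i := fun i =>
    { val := PresheafOfModules.homMk
        { app := fun V => AddCommGrpCat.ofHom (AddMonoidHom.mk' (fun y => q V.unop y i)
            fun y y' => congrFun (hinj V.unop (show sumApp c V.unop (q V.unop (y + y')) =
              sumApp c V.unop (q V.unop y + q V.unop y') by rw [hadd, hq, hq, hq])) i)
          naturality := fun V W f => by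
            ext y
            refine congrFun (hinj W.unop (show sumApp c W.unop (q W.unop (res P f.unop.le y)) =
              sumApp c W.unop (fun i => res (M i) f.unop.le (q V.unop y i)) by
                rw [← sumApp_res, hq, hq])) i }
        fun V r y => congrFun (hinj V.unop (show sumApp c V.unop (q V.unop (r • y)) =
          sumApp c V.unop (fun i => (show Γ(X, V.unop) from r) • q V.unop y i) by
            rw [hsmul, hq, hq])) i }
  let b : Bicone M :=
    { pt := P
      π := π
      ι := c
      ι_π := fun i j => by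
        refine Scheme.Modules.hom_ext _ _ fun V => ?_
        ext a
        have hkey : q V ((c i).app V a) = Pi.single i a := hinj V (by
          rw [hq, sumApp, Finset.sum_eq_single i (fun l _ hl => by rw [Pi.single_eq_of_ne hl, map_zero])
            (fun hi => absurd (Finset.mem_univ i) hi), Pi.single_eq_same])
        show q V ((c i).app V a) j = _
        rw [hkey]
        split_ifs with hij
        · subst hij
          rw [Pi.single_eq_same]
          rfl
        · rw [Pi.single_eq_of_ne (Ne.symm hij)]
          rfl }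
  have htot : ∑ j : ι, b.π j ≫ b.ι j = 𝟙 b.pt := by
    refine Scheme.Modules.hom_ext _ _ fun V => ?_
    ext y
    have : ∀ t : Finset ι, (Scheme.Modules.Hom.app (∑ j ∈ t, b.π j ≫ b.ι j) V) y =
        ∑ j ∈ t, (c j).app V (q V y j) := fun t => by
      induction t using Finset.induction with
      | empty => rw [Finset.sum_empty, Finset.sum_empty]; rfl
      | insert a t ha ih =>
        rw [Finset.sum_insert ha, Finset.sum_insert ha, ← ih]
        rfl
    rw [this Finset.univ]
    exact hq V y
  exact ⟨(isBilimitOfTotal b htot).isColimit⟩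

theorem exists_isColimit_of_bijective
    (h : ∀ p : X, ∃ U : X.Opens, p ∈ U ∧ ∀ W : X.affineOpens, W.1 ≤ U → Function.Bijective (sumApp c W.1)) :
    Nonempty (IsColimit (Cofan.mk P c)) :=
  exists_isColimit_of_basis c fun p V hp => by
    obtain ⟨U, hpU, hU⟩ := h p
    obtain ⟨W, hW, hpW, hle⟩ := Opens.isBasis_iff_nbhd.mp X.isBasis_affineOpens
      (show p ∈ V ⊓ U from ⟨hp, hpU⟩)
    exact ⟨⟨W, hW⟩, hpW, hle.trans inf_le_left, hU ⟨W, hW⟩ (hle.trans inf_le_right)⟩

end Groth.Agent.H44Cyc
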