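import Groth.Agent.H44Cyc.CovData
import Mathlib.FieldTheory.IsAlgClosed.AlgebraicClosure
import Mathlib.RingTheory.Polynomial.Vieta

/-! # Irreducibility of `T^N - a` with enough roots of unity; domains of cover functions -/

universe u

namespace Groth.Agent.H44Cyc

open Polynomial

set_option linter.style.haveILetI false

/-- In presence of the `N`-th roots of unity `T^N - a` is irreducible unless `a` is a proper power. -/
theorem irreducible_X_pow_sub_C {K : Type u} [Field K] {N : ℕ} (hN : 0 < N) {z : K} (hz : IsPrimitiveRoot z N)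
    {a : K} (ha : ∀ p : ℕ, p.Prime → p ∣ N → ∀ b : K, b ^ p ≠ a) : Irreducible (X ^ N - C a : K[X]) := by
  classical
  have hmon : (X ^ N - C a : K[X]).Monic := monic_X_pow_sub_C a hN.ne'
  obtain ⟨q, hqmon, hqirr, hqdvd⟩ := exists_monic_irreducible_factor (X ^ N - C a : K[X])
    fun h => by
      have := natDegree_eq_zero_of_isUnit h
      rw [natDegree_X_pow_sub_C] at this
      omega
  have hle : q.natDegree ≤ N := (natDegree_le_of_dvd hqdvd hmon.ne_zero).trans_eq natDegree_X_pow_sub_C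
  rcases hle.lt_or_eq with hlt | heq
  swap
  · have h := eq_of_monic_of_dvd_of_natDegree_le hqmon hmon hqdvd (by rw [natDegree_X_pow_sub_C, heq])
    exact h ▸ hqirr
  exfalso
  let Ω := AlgebraicClosure K
  let i := algebraMap K Ω
  let d := q.natDegree
  have hd : 0 < d := hqirr.natDegree_pos
  have hroot : ∀ x ∈ (q.map i).roots, x ^ N = i a := fun x hx => by
    have h := (isRoot_of_mem_roots hx).dvd ((Polynomial.map_dvd i hqdvd))
    simpa [IsRoot, sub_eq_zero] using h
  have hsplit : (q.map i).Splits := IsAlgClosed.splits _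
  have hcard : Multiset.card (q.map i).roots = d := by
    rw [← Polynomial.Splits.natDegree_eq_card_roots hsplit, natDegree_map]
  obtain ⟨α, hα⟩ := Multiset.card_pos_iff_exists_mem.1 (hcard.symm ▸ hd)
  have haN : α ^ N = i a := hroot α hα
  obtain ⟨p₀, hp₀, hp₀N⟩ : ∃ p : ℕ, p.Prime ∧ p ∣ N := Nat.exists_prime_and_dvd (by omega)
  have ha0 : a ≠ 0 := fun h0 => ha p₀ hp₀ hp₀N 0 (by rw [zero_pow hp₀.ne_zero, h0])
  have hα0 : α ≠ 0 := fun h0 => ha0 ((map_eq_zero i).1 (by rw [← haN, h0, zero_pow hN.ne']))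
  haveI : NeZero N := ⟨hN.ne'⟩
  have hprod : ∀ M : Multiset Ω, (∀ x ∈ M, x ^ N = i a) → ∃ w : K, w ≠ 0 ∧ M.prod = i w * α ^ Multiset.card M := by
    intro M
    induction M using Multiset.induction with
    | empty => exact fun _ => ⟨1, one_ne_zero, by simp⟩
    | cons x M ih =>
      intro hM
      obtain ⟨w, hw, hMw⟩ := ih fun y hy => hM y (Multiset.mem_cons_of_mem hy)
      have hx := hM x (Multiset.mem_cons_self x M)
      obtain ⟨k, -, hk⟩ := (hz.map_of_injective i.injective).eq_pow_of_pow_eq_one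
        (show (x / α) ^ N = 1 by rw [div_pow, hx, haN, div_self ((map_ne_zero i).2 ha0)])
      refine ⟨z ^ k * w, mul_ne_zero (pow_ne_zero _ (hz.ne_zero hN.ne')) hw, ?_⟩
      rw [Multiset.prod_cons, hMw, Multiset.card_cons, map_mul, map_pow, pow_succ, hk]
      calc x * (i w * α ^ Multiset.card M) = x / α * α * (i w * α ^ Multiset.card M) := by
            rw [div_mul_cancel₀ _ hα0]
        _ = x / α * i w * (α ^ Multiset.card M * α) := by ring
  obtain ⟨w, hw, hwp⟩ := hprod _ hroot
  rw [hcard] at hwp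
  have hc : (q.map i).coeff 0 = (-1) ^ d * (q.map i).roots.prod := by
    rw [Polynomial.Splits.coeff_zero_eq_prod_roots_of_monic hsplit (hqmon.map i), natDegree_map]
  obtain ⟨c, hcα⟩ : ∃ c : K, α ^ d = i c := by
    refine ⟨(-1) ^ d * q.coeff 0 / w, ?_⟩
    rw [coeff_map, hwp] at hc
    rw [map_div₀, map_mul, hc, map_pow, map_neg, map_one, ← mul_assoc, ← mul_pow, neg_one_mul, neg_neg,
      one_pow, one_mul, mul_div_cancel_left₀ _ ((map_ne_zero i).2 hw)]
  -- hence a smaller power
  let g := Nat.gcd d N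
  have hgN : g ∣ N := Nat.gcd_dvd_right d N
  have hglt : g < N := (Nat.gcd_le_left N hd).trans_lt hlt
  obtain ⟨c', hc'⟩ : ∃ c' : K, α ^ g = i c' := by
    refine ⟨c ^ Nat.gcdA d N * a ^ Nat.gcdB d N, ?_⟩
    rw [map_mul, map_zpow₀, map_zpow₀, ← hcα, ← haN, ← zpow_natCast, ← zpow_natCast, ← zpow_natCast,
      ← zpow_mul, ← zpow_mul, ← zpow_add₀ hα0, ← Nat.gcd_eq_gcd_ab]
  obtain ⟨e, he⟩ := hgN
  obtain ⟨p, hp, hpe⟩ := Nat.exists_prime_and_dvd (n := e) (fun h1 => by rw [h1, mul_one] at he; omega)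
  obtain ⟨e', rfl⟩ := hpe
  refine ha p hp ⟨g * e', by rw [he]; ring⟩ (c' ^ e') (i.injective ?_)
  rw [map_pow, map_pow, ← hc', ← haN, he]
  ring

namespace CovData

variable {A R : Type u} [CommRing A] [IsDomain A] [CommRing R] {φ : A →+* R} {N : ℕ} {f : A} {t : R}

theorem nontrivial (h : CovData φ N f t) (hN : 0 < N) : Nontrivial R := by
  by_contra hR
  rw [not_nontrivial_iff_subsingleton] at hR
  exact one_ne_zero (congrFun (h.inj (fun _ => 1) (Subsingleton.elim _ _)) ⟨0, hN⟩)

/-- The functions form a domain when the polynomial is irreducible. -/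
theorem isDomain (h : CovData φ N f t) (hN : 0 < N)
    (hirr : Irreducible (X ^ N - C (algebraMap A (FractionRing A) f) : (FractionRing A)[X])) : IsDomain R := by
  classical
  haveI := h.nontrivial hN
  haveI : Fact (Irreducible (X ^ N - C (algebraMap A (FractionRing A) f) : (FractionRing A)[X])) := ⟨hirr⟩
  let K := FractionRing A
  let ev : A[X] →+* R := eval₂RingHom φ t
  have hker : ∀ Q : A[X], ev Q = 0 ↔ (X ^ N - C (algebraMap A K f)) ∣ Q.map (algebraMap A K) := fun Q => by
    have hmon := monic_X_pow_sub_C f hN.ne'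
    have hdeg : (Q %ₘ (X ^ N - C f)).degree < N :=
      (degree_modByMonic_lt _ hmon).trans_eq (degree_X_pow_sub_C hN f)
    have hev : ev Q = ev (Q %ₘ (X ^ N - C f)) := by
      conv_lhs => rw [← modByMonic_add_div Q (X ^ N - C f)]
      simp only [ev, map_add, map_mul, map_sub, map_pow, coe_eval₂RingHom, eval₂_X, eval₂_C, h.root, sub_self,
        zero_mul, add_zero]
    rw [hev, show (X ^ N - C (algebraMap A K f)) = (X ^ N - C f).map (algebraMap A K) by simp,
      ← modByMonic_eq_zero_iff_dvd (hmon.map _), ← map_modByMonic _ hmon,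
      Polynomial.map_eq_zero_iff (IsFractionRing.injective A K)]
    refine ⟨fun h0 => ?_, fun h0 => by rw [h0, map_zero]⟩
    generalize Q %ₘ (X ^ N - C f) = Q' at hdeg h0
    have hc := h.inj (fun j => Q'.coeff j) <| by
      refine Eq.trans ?_ h0
      simp only [ev, coe_eval₂RingHom]
      rw [eval₂_eq_sum, sum_over_range' _ (fun n => by simp) N ?_, Finset.sum_range]
      rcases eq_or_ne Q' 0 with hq | hq
      · rw [hq, natDegree_zero]; exact hN
      · exact (natDegree_lt_iff_degree_lt hq).2 hdeg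
    ext l
    rcases lt_or_ge l N with hl | hl
    · rw [coeff_zero]; exact congrFun hc ⟨l, hl⟩
    · rw [coeff_zero]; exact coeff_eq_zero_of_degree_lt (hdeg.trans_le (by exact_mod_cast hl))
  have hrep : ∀ x : R, ∃ b : A, b ≠ 0 ∧ ∃ Q : A[X], φ b * x = ev Q := fun x => by
    obtain ⟨b, hb, c, hc⟩ := h.gen x
    exact ⟨b, hb, ∑ j : Fin N, C (c j) * X ^ (j : ℕ), by rw [hc, map_sum]; simp [ev]⟩
  haveI : NoZeroDivisors R := ⟨fun {x y} hxy => by
    obtain ⟨b, hb, P, hP⟩ := hrep x
    obtain ⟨b', hb', Q, hQ⟩ := hrep y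
    have h0 : ev (P * Q) = 0 := by rw [map_mul, ← hP, ← hQ, mul_mul_mul_comm, hxy, mul_zero]
    rw [hker, Polynomial.map_mul] at h0
    rcases (hirr.prime.dvd_or_dvd h0) with h1 | h1
    · exact Or.inl (h.nzd b hb x (hP.trans ((hker P).2 h1)))
    · exact Or.inr (h.nzd b' hb' y (hQ.trans ((hker Q).2 h1)))⟩
  exact NoZeroDivisors.to_isDomain R

/-- A power gives zero divisors. -/
theorem not_isDomain (h : CovData φ N f t) (hN : 0 < N) {p : ℕ} (hp : 1 < p) (hpN : p ∣ N) {b : A}
    (hb : b ^ p = f) : ¬ IsDomain R := by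
  classical
  intro hd
  obtain ⟨m, rfl⟩ := hpN
  have hm : 0 < m := Nat.pos_of_mul_pos_left hN
  have hmN : m < p * m := lt_mul_left hm hp
  have hind : ∀ Q : A[X], Q.natDegree < p * m → eval₂ φ t Q = 0 → Q = 0 := fun Q hQ h0 => by
    have hc := h.inj (fun j => Q.coeff j) <| by
      refine Eq.trans ?_ h0
      rw [eval₂_eq_sum, sum_over_range' _ (fun n => by simp) (p * m) hQ, Finset.sum_range]
    ext l
    rcases lt_or_ge l (p * m) with hl | hl
    · rw [coeff_zero]; exact congrFun hc ⟨l, hl⟩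
    · rw [coeff_zero]; exact coeff_eq_zero_of_natDegree_lt (hQ.trans_le hl)
  have h1 : eval₂ φ t (X ^ m - C b) * eval₂ φ t (∑ l ∈ Finset.range p, (X ^ m) ^ l * C b ^ (p - 1 - l)) = 0 := by
    rw [← eval₂_mul, mul_comm, geom_sum₂_mul, eval₂_sub, ← pow_mul, eval₂_X_pow, eval₂_pow, eval₂_C,
      mul_comm m p, h.root, ← map_pow, hb, sub_self]
  rcases mul_eq_zero.1 h1 with h2 | h2
  · exact (monic_X_pow_sub_C b hm.ne').ne_zero (hind _ (natDegree_X_pow_sub_C.trans_lt hmN) h2)
  · have hne : (∑ l ∈ Finset.range p, (X ^ m) ^ l * C b ^ (p - 1 - l) : A[X]).coeff ((p - 1) * m) = 1 := by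
      simp only [finset_sum_coeff, ← C_pow, coeff_mul_C, ← pow_mul, coeff_X_pow]
      rw [Finset.sum_eq_single (p - 1)]
      · rw [if_pos (mul_comm _ _), Nat.sub_self, pow_zero, mul_one]
      · intro l _ hl
        rw [if_neg fun he => hl (Nat.eq_of_mul_eq_mul_right hm (by rw [he, mul_comm])), zero_mul]
      · intro hmem
        exact absurd (Finset.mem_range.2 (by omega)) hmem
    refine one_ne_zero (α := A) ?_
    rw [← hne, hind _ ?_ h2, coeff_zero]
    refine (natDegree_sum_le_of_forall_le _ _ fun l hl => ?_).trans_lt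
      (Nat.mul_lt_mul_of_pos_right (by omega : p - 1 < p) hm)
    rw [← C_pow, ← pow_mul]
    refine (natDegree_mul_C_le _ _).trans ?_
    rw [natDegree_X_pow, mul_comm]
    exact Nat.mul_le_mul_right m (by have := Finset.mem_range.1 hl; omega)

end CovData

end Groth.Agent.H44Cyc
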