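import Groth.Agent.H44Cyc.Divisor
import Groth.Agent.H44Cyc.Capelli

/-! # Irreducibility of the cover -/

universe u

open CategoryTheory AlgebraicGeometry TopologicalSpace Opposite Polynomial

set_option backward.isDefEq.respectTransparency false
set_option linter.style.haveILetI false
set_option linter.unusedSectionVars false

namespace Groth.Agent.H44Cyc

open Groth.Agent.AModX Groth.Agent.InvX

variable {X Y : Scheme.{u}} [IsIntegral X] {L : X.Modules} {N : ℕ}
  {s : Coh.structureModule X ⟶ CohB1.tensorPow L N} {π : Y ⟶ X} {R : CycCov.Root L N s π}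

omit [IsIntegral X] in
theorem nonempty_inf [IrreducibleSpace X] {U V : X.Opens} (hU : Nonempty U) (hV : Nonempty V) :
    Nonempty (U ⊓ V : X.Opens) := by
  obtain ⟨⟨p, hp⟩⟩ := hU
  obtain ⟨⟨q, hq⟩⟩ := hV
  obtain ⟨w, hw⟩ := nonempty_preirreducible_inter U.isOpen V.isOpen ⟨p, hp⟩ ⟨q, hq⟩
  exact ⟨⟨w, hw⟩⟩

/-- Restriction to a nonempty open is injective on sections of an invertible module. -/
theorem res_injective {M : X.Modules} (hM : PicF.IsInvertible M) {U V : X.Opens} (h : V ≤ U)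
    [hV : Nonempty V] : Function.Injective (res M h) := by
  refine (injective_iff_map_eq_zero _).2 fun z hz => eq_of_locally _ _ fun p hp => ?_
  obtain ⟨W, hpW, e, he⟩ := InvX.exists_frame hM p
  obtain ⟨g, hg⟩ := he.exists_coord (inf_le_right : U ⊓ W ≤ W) (res M inf_le_left z)
  refine ⟨U ⊓ W, inf_le_left, ⟨hp, hpW⟩, ?_⟩
  have hle : U ⊓ W ⊓ V ≤ U ⊓ W := inf_le_left
  haveI : Nonempty (U ⊓ W ⊓ V : X.Opens) := nonempty_inf ⟨⟨p, hp, hpW⟩⟩ hV
  have h0 : res M (hle.trans inf_le_left) z = 0 := by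
    rw [← res_res h inf_le_right, hz, map_zero]
  rw [← res_res inf_le_left hle, hg, res_smul, res_res] at h0
  have hg0 : resR hle g = 0 := (he _ (hle.trans inf_le_right)).1 (h0.trans (zero_smul _ _).symm)
  rw [hg, resR_injective hle (hg0.trans (map_zero _).symm), zero_smul, map_zero]

/-- The preimage of a nonempty open is dense. -/
theorem dense_preimage (hL : PicF.IsInvertible L) (hN : 0 < N) (hR : CycCov.IsCover R) (V : X.Opens)
    [hV : Nonempty V] : Dense ((π ⁻¹ᵁ V : Y.Opens) : Set Y) := by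
  haveI := isReduced_of_normal hR.2.1
  haveI := hR.1
  refine dense_iff_inter_open.2 fun O hO ⟨y, hy⟩ => ?_
  obtain ⟨U, hU, hyU, -⟩ := Opens.isBasis_iff_nbhd.mp X.isBasis_affineOpens (show π y ∈ (⊤ : X.Opens) from trivial)
  haveI := nonempty_inf (U := U) (V := V) ⟨⟨_, hyU⟩⟩ hV
  obtain ⟨⟨p, hpU, hpV⟩⟩ := (inferInstance : Nonempty (U ⊓ V : X.Opens))
  obtain ⟨h, hhV, hph⟩ := hU.exists_basicOpen_le ⟨p, hpV⟩ hpU
  have hh0 : h ≠ 0 := fun h0 => by
    rw [h0, Scheme.basicOpen_zero] at hph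
    exact hph
  have hπU : IsAffineOpen (π ⁻¹ᵁ U) := hU.preimage π
  obtain ⟨a, ha, hya⟩ := hπU.exists_basicOpen_le (V := ⟨O, hO⟩) ⟨y, hy⟩ hyU
  by_contra hne
  rw [Set.not_nonempty_iff_eq_empty] at hne
  have hbot : Y.basicOpen ((π.app U).hom h * a) = ⊥ := by
    refine eq_bot_iff.2 fun w hw => ?_
    rw [Scheme.basicOpen_mul, ← Scheme.preimage_basicOpen] at hw
    exact hne.subset (show w ∈ O ∩ (π ⁻¹ᵁ V : Y.Opens) from ⟨ha hw.2, hhV hw.1⟩)
  have hz := app_mul_eq_zero hL hN hR hh0 ((basicOpen_eq_bot_iff _).1 hbot)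
  rw [hz, Scheme.basicOpen_zero] at hya
  exact hya

theorem irreducibleSpace_of_isDomain (hL : PicF.IsInvertible L) (hN : 0 < N) (hR : CycCov.IsCover R)
    (U : X.affineOpens) [Nonempty U.1] [IsDomain Γ(Y, π ⁻¹ᵁ U.1)] : IrreducibleSpace Y := by
  haveI := hR.1
  have hπU : IsAffineOpen (π ⁻¹ᵁ U.1) := U.2.preimage π
  let S : Set Y := ((π ⁻¹ᵁ U.1 : Y.Opens) : Set Y)
  have hirr : IsIrreducible S := by
    have h : S = Set.range hπU.fromSpec := hπU.range_fromSpec.symm
    rw [h, ← Set.image_univ]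
    exact (IrreducibleSpace.isIrreducible_univ (PrimeSpectrum Γ(Y, π ⁻¹ᵁ U.1))).image _ hπU.fromSpec.continuous.continuousOn
  have hcl := hirr.closure
  rw [(dense_preimage hL hN hR U.1).closure_eq] at hcl
  haveI : PreirreducibleSpace Y := ⟨hcl.2⟩
  exact ⟨⟨hcl.1.some⟩⟩

theorem isDomain_of_irreducibleSpace (hR : CycCov.IsCover R) [IrreducibleSpace Y] {U : X.Opens}
    (hne : Nontrivial Γ(Y, π ⁻¹ᵁ U)) : IsDomain Γ(Y, π ⁻¹ᵁ U) := by
  haveI := isReduced_of_normal hR.2.1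
  haveI : IsIntegral Y := isIntegral_of_irreducibleSpace_of_isReduced Y
  obtain ⟨y, hy⟩ : ((π ⁻¹ᵁ U : Y.Opens) : Set Y).Nonempty := by
    by_contra hem
    rw [Set.not_nonempty_iff_eq_empty] at hem
    have : π ⁻¹ᵁ U = ⊥ := Opens.ext (hem.trans Opens.coe_bot.symm)
    haveI : Subsingleton Γ(Y, π ⁻¹ᵁ U) := by
      rw [this]
      exact CommRingCat.subsingleton_of_isTerminal Y.sheaf.isTerminalOfEmpty
    exact not_subsingleton Γ(Y, π ⁻¹ᵁ U) this
  haveI : Nonempty (π ⁻¹ᵁ U : Y.Opens) := ⟨⟨y, hy⟩⟩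
  infer_instance

theorem val_ofSect {M : X.Modules} (t : Γ(M, ⊤)) (U : X.Opens) :
    SecTwist.val (ofSect t) U = res M le_top t :=
  ((val_res (ofSect t) le_top).symm.trans (congrArg (res M le_top) (one_ofSect t)))

/-- If the equation is a power at the generic point then the section is a power. -/
theorem exists_root_section {k : Type u} [Field k] (φ : X ⟶ Spec (CommRingCat.of k)) [Smooth φ]
    (hL : PicF.IsInvertible L) (U₀ : X.affineOpens) [hU₀ : Nonempty U₀.1] {e₀ : Γ(L, U₀.1)} (he₀ : IsFrame e₀)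
    {f₀ : Γ(X, U₀.1)} (hf₀ : SecTwist.val s U₀.1 = f₀ • CycCov.lpow L U₀.1 e₀ N) {p m : ℕ} (hp : 0 < p)
    (hNpm : N = m * p) {b₀ : Γ(X, U₀.1)} (hb₀ : b₀ ^ p = f₀) :
    ∃ s' : Coh.structureModule X ⟶ CohB1.tensorPow L m,
      ∀ (U : X.affineOpens) (e : L.val.obj (op U.1)), CycCov.IsGen L U.1 e →
        ∀ a b : Γ(X, U.1), SecTwist.val s U.1 = a • CycCov.lpow L U.1 e N →
          SecTwist.val s' U.1 = b • CycCov.lpow L U.1 e m → a = b ^ p := by
  classical
  have hPm : PicF.IsInvertible (CohB1.tensorPow L m) := isInvertible_tensorPow hL m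
  -- comparison with the fixed frame on the overlap
  have hcomp : ∀ (U : X.Opens) [Nonempty U] (e : Γ(L, U)), e ≠ 0 → ∀ a : Γ(X, U),
      SecTwist.val s U = a • CycCov.lpow L U e N →
      ∃ c : Γ(X, U ⊓ U₀.1), c ≠ 0 ∧ res L inf_le_left e = c • res L inf_le_right e₀ ∧
        resR inf_le_left a * c ^ N = resR inf_le_right f₀ := fun U hU e hne a ha => by
    haveI := nonempty_inf hU hU₀
    obtain ⟨c, hc⟩ := he₀.exists_coord (inf_le_right : U ⊓ U₀.1 ≤ U₀.1) (res L inf_le_left e)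
    refine ⟨c, fun h0 => hne ?_, hc, ?_⟩
    · refine res_injective hL (inf_le_left : U ⊓ U₀.1 ≤ U) ?_
      rw [hc, h0, zero_smul, map_zero]
    · have h1 := (val_eq_res inf_le_left ha).symm.trans (val_eq_res (inf_le_right : U ⊓ U₀.1 ≤ U₀.1) hf₀)
      rw [lpow_eq, lpow_eq, hc, pw_smul] at h1
      exact (isFrame_pw (he₀.res inf_le_right) N).coord_unique le_rfl
        (by simp only [res_self]; exact (mul_smul _ _ _).trans h1)
  -- the local roots
  have hloc : ∀ x : X, ∃ (U : X.affineOpens) (t : Γ(CohB1.tensorPow L m, U.1)), x ∈ U.1 ∧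
      res _ (inf_le_left : U.1 ⊓ U₀.1 ≤ U.1) t =
        resR (inf_le_right : U.1 ⊓ U₀.1 ≤ U₀.1) b₀ • pw (res L inf_le_right e₀) m := fun x => by
    obtain ⟨U, e, hxU, -, he⟩ := exists_frame_le hL (show x ∈ (⊤ : X.Opens) from trivial)
    haveI : Nonempty U.1 := ⟨⟨x, hxU⟩⟩
    obtain ⟨a, ha⟩ := exists_coord_val s he
    have hne : e ≠ 0 := fun h0 => by
      have := (isGen_of_isFrame he).1 (show (1 : Γ(X, U.1)) • e = (0 : Γ(X, U.1)) • e by
        rw [h0, smul_zero, smul_zero])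
      exact one_ne_zero this
    obtain ⟨c, hc0, hc, hca⟩ := hcomp U.1 e hne a ha
    let W := U.1 ⊓ U₀.1
    haveI : Nonempty W := nonempty_inf ⟨⟨x, hxU⟩⟩ hU₀
    haveI := functionField_isFractionRing_of_isAffineOpen X U.1 U.2
    haveI := isIntegrallyClosed_sections φ U.2
    let K := X.functionField
    let γ : Γ(X, W) →+* K := (X.germToFunctionField W).hom
    have hγinj : Function.Injective γ := X.germToFunctionField_injective W
    have hγ : ∀ a : Γ(X, U.1), γ (resR inf_le_left a) = algebraMap Γ(X, U.1) K a := fun a =>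
      X.presheaf.germ_res_apply _ _ _ a
    have hγc : γ c ≠ 0 := fun h0 => hc0 (hγinj (h0.trans (map_zero _).symm))
    let β : K := γ (resR inf_le_right b₀) / γ c ^ m
    have hβ : β ^ p = algebraMap Γ(X, U.1) K a := by
      rw [div_pow, ← map_pow, ← map_pow (resR _), hb₀, ← hca, map_mul, hγ, ← pow_mul, ← hNpm, map_pow,
        mul_div_cancel_right₀ _ (pow_ne_zero N hγc)]
    obtain ⟨b, hb⟩ := IsIntegrallyClosed.exists_algebraMap_eq_of_isIntegral_pow hp
      (R := Γ(X, U.1)) (K := K) (x := β) (hβ ▸ isIntegral_algebraMap)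
    refine ⟨U, b • pw e m, hxU, ?_⟩
    rw [res_smul, res_pw, hc, pw_smul, ← mul_smul]
    congr 1
    apply hγinj
    rw [map_mul, hγ, hb, map_pow, div_mul_cancel₀ _ (pow_ne_zero m hγc)]
  choose U t hxU ht using hloc
  obtain ⟨T, hT, -⟩ := AModX.existsUnique_glue (M := CohB1.tensorPow L m) (V := ⊤) (fun x => (U x).1)
    (fun _ => le_top) (fun p _ => ⟨p, hxU p⟩) t fun x x' => by
      rcases isEmpty_or_nonempty ((U x).1 ⊓ (U x').1 : X.Opens) with hem | hne
      · exact eq_of_locally _ _ fun p hp => (hem.false ⟨p, hp⟩).elim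
      · let W := (U x).1 ⊓ (U x').1 ⊓ U₀.1
        haveI : Nonempty W := nonempty_inf hne hU₀
        have h1 : W ≤ (U x).1 ⊓ U₀.1 := inf_le_inf_right _ inf_le_left
        have h2 : W ≤ (U x').1 ⊓ U₀.1 := inf_le_inf_right _ inf_le_right
        refine res_injective hPm (inf_le_left : W ≤ (U x).1 ⊓ (U x').1) ?_
        rw [res_res, res_res, ← res_res inf_le_left h1, ← res_res (inf_le_left) h2, ht, ht, res_smul,
          res_smul, res_pw, res_pw, res_res, res_res, resR_resR, resR_resR]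
  refine ⟨ofSect T, fun V e he a b ha hb => ?_⟩
  rcases isEmpty_or_nonempty (V.1 : X.Opens) with hem | hne
  · haveI : Subsingleton Γ(X, V.1) := by
      rw [show V.1 = ⊥ from Opens.ext (Set.eq_empty_of_forall_notMem fun p hp => hem.false ⟨p, hp⟩)]
      exact CommRingCat.subsingleton_of_isTerminal X.sheaf.isTerminalOfEmpty
    exact Subsingleton.elim _ _
  have hne' : (show Γ(L, V.1) from e) ≠ 0 := fun h0 => by
    have := he.1 (show (1 : Γ(X, V.1)) • e = (0 : Γ(X, V.1)) • e by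
      rw [show e = 0 from h0, smul_zero, smul_zero])
    exact one_ne_zero this
  obtain ⟨c, hc0, hc, hca⟩ := hcomp V.1 e hne' a ha
  let W := V.1 ⊓ U₀.1
  haveI : Nonempty W := nonempty_inf hne hU₀
  have hT0 : res _ (le_top : W ≤ ⊤) T =
      resR (inf_le_right : W ≤ U₀.1) b₀ • pw (res L (inf_le_right : W ≤ U₀.1) e₀) m := by
    refine eq_of_locally _ _ fun q hq => ?_
    have h3 : W ⊓ (U q).1 ≤ (U q).1 ⊓ U₀.1 := le_inf inf_le_right (inf_le_left.trans inf_le_right)
    refine ⟨W ⊓ (U q).1, inf_le_left, ⟨hq, hxU q⟩, ?_⟩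
    rw [res_res, ← res_res le_top (inf_le_right : W ⊓ (U q).1 ≤ (U q).1), hT q,
      ← res_res inf_le_left h3, ht, res_smul, res_smul, res_pw, res_pw, res_res, res_res, resR_resR, resR_resR]
  have h1 := val_eq_res (inf_le_left : W ≤ V.1) hb
  rw [val_ofSect, hT0, lpow_eq, hc, pw_smul] at h1
  have h2 : resR (inf_le_right : W ≤ U₀.1) b₀ = resR (inf_le_left : W ≤ V.1) b * c ^ m :=
    (isFrame_pw (he₀.res inf_le_right) m).coord_unique le_rfl
      (by simp only [res_self]; exact h1.trans (mul_smul _ _ _).symm)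
  refine resR_injective (inf_le_left : W ≤ V.1) (mul_right_cancel₀ (pow_ne_zero N hc0) ?_)
  rw [hca, map_pow, ← hb₀, map_pow, h2, mul_pow, ← pow_mul, ← hNpm]

end Groth.Agent.H44Cyc
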