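import Groth.Agent.H44Cyc.Comp
import Groth.Agent.H44Cyc.Colim
import Groth.Agent.H44Cyc.Irred
import Groth.Agent.ArSurfX.IdealFrame

/-! # The eigen-decomposition of the direct image of the structure sheaf -/

universe u

open CategoryTheory CategoryTheory.Limits AlgebraicGeometry TopologicalSpace Opposite

set_option backward.isDefEq.respectTransparency false
set_option linter.style.haveILetI false
set_option linter.unusedSectionVars false

namespace Groth.Agent.H44Cyc

open Groth.Agent.AModX Groth.Agent.InvX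

variable {X : Scheme.{u}} [IsIntegral X] {r : ℕ}

/-- Maximality of the integral part. -/
theorem Comp.max_div {k : Type u} [Field k] (φ : X ⟶ Spec (CommRingCat.of k)) [Smooth φ]
    {D : Fin r → X.IdealSheafData} {U : X.affineOpens} {g : Fin r → Γ(X, U.1)} (hg : Comp D U g)
    {V : X.affineOpens} (h : V.1 ≤ U.1) (α : Fin r → ℕ) {w : Γ(X, V.1)} (hw : IsUnit w) {N : ℕ} (hN : 0 < N)
    (j : ℕ) {a b : Γ(X, V.1)} (hb : b ≠ 0)
    (hdvd : b ^ N ∣ a ^ N * (w * ∏ l, resR h (g l) ^ α l) ^ j) :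
    b ∣ a * ∏ l, resR h (g l) ^ (j * α l / N) := by
  classical
  let I : Ideal Γ(X, V.1) := (Ideal.span {b}).colon {a * ∏ l, resR h (g l) ^ (j * α l / N)}
  suffices hI : I = ⊤ by
    have h1 : (1 : Γ(X, V.1)) ∈ I := hI ▸ Submodule.mem_top
    rw [Submodule.mem_colon_singleton, smul_eq_mul, one_mul, Ideal.mem_span_singleton] at h1
    exact h1
  by_contra hI
  obtain ⟨P, hP, hle⟩ := Ideal.exists_le_maximal I hI
  haveI := hP.isPrime
  let y : PrimeSpectrum Γ(X, V.1) := ⟨P, hP.isPrime⟩
  have hyV : V.2.fromSpec y ∈ V.1 := V.2.range_fromSpec.le ⟨y, rfl⟩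
  haveI : Nonempty V.1 := ⟨⟨_, hyV⟩⟩
  let S := X.presheaf.stalk (V.2.fromSpec y)
  letI : Algebra Γ(X, V.1) S := TopCat.Presheaf.algebra_section_stalk X.presheaf ⟨V.2.fromSpec y, hyV⟩
  haveI : IsLocalization.AtPrime S P := V.2.isLocalization_stalk' y hyV
  haveI := GrpSchLib.isRegularLocalRing_stalk_of_smooth φ (V.2.fromSpec y)
  obtain ⟨hdom, hufd⟩ := RegUFD.ufd S
  haveI := hdom
  haveI := hufd
  obtain ⟨hprime, hassoc⟩ := hg.prime_germ (h hyV)
  let γ : Γ(X, V.1) →+* S := algebraMap _ _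
  let q : Fin r → S := fun l => X.presheaf.germ U.1 _ (h hyV) (g l)
  have hq : ∀ l, γ (resR h (g l)) = q l := fun l => InvX.germ_resR' h hyV (g l)
  let s : Finset (Fin r) := Finset.univ.filter fun l => ¬ IsUnit (q l)
  have hne : γ b ≠ 0 := fun h0 => hb (IsLocalization.injective S P.primeCompl_le_nonZeroDivisors
    (h0.trans (map_zero γ).symm))
  have hsplit : ∀ l, q l ^ (α l * j) = (q l ^ (j * α l / N)) ^ N * q l ^ (j * α l % N) := fun l => by
    rw [← pow_mul, ← pow_add, Nat.mul_comm (α l) j]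
    congr 1
    rw [Nat.mul_comm _ N]
    exact (Nat.div_add_mod _ _).symm
  have hunit : IsUnit (∏ l ∈ Finset.univ.filter (fun l => ¬¬ IsUnit (q l)), q l ^ (j * α l % N)) :=
    (IsUnit.prod_iff).2 fun l hl => (not_not.1 (Finset.mem_filter.1 hl).2).pow _
  have h1 : γ b ^ N ∣ (γ a * ∏ l, q l ^ (j * α l / N)) ^ N * ∏ l ∈ s, q l ^ (j * α l % N) := by
    have h2 := map_dvd γ hdvd
    simp only [map_mul, map_pow, map_prod, hq, mul_pow, ← Finset.prod_pow, ← pow_mul] at h2
    simp only [hsplit, Finset.prod_mul_distrib] at h2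
    rw [← Finset.prod_filter_mul_prod_filter_not Finset.univ (fun l => ¬ IsUnit (q l))
      (fun l => q l ^ (j * α l % N))] at h2
    refine (IsUnit.dvd_mul_right ((hw.map γ).pow j |>.mul hunit)).1 (h2.trans (dvd_of_eq ?_))
    rw [mul_pow, ← Finset.prod_pow]
    ring
  have h3 : γ b ∣ γ a * ∏ l, q l ^ (j * α l / N) :=
    dvd_of_pow_dvd_mul_prod s q _ (fun l hl => hprime l (Finset.mem_filter.1 hl).2)
      (fun l hl l' hl' hll => hassoc l l' hll (Finset.mem_filter.1 hl).2 (Finset.mem_filter.1 hl').2)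
      hN.ne' (fun l _ => Nat.mod_lt _ hN) hne h1
  obtain ⟨c, hc⟩ := h3
  obtain ⟨⟨c', t⟩, hct⟩ := IsLocalization.surj P.primeCompl c
  have h4 : γ (a * (∏ l, resR h (g l) ^ (j * α l / N)) * t) = γ (b * c') := by
    simp only [map_mul, map_prod, map_pow, hq]
    rw [hc, mul_assoc, show c * γ t = γ c' from hct]
  obtain ⟨u, hu⟩ := IsLocalization.exists_of_eq (M := P.primeCompl) (S := S) h4
  have hmem : (u : Γ(X, V.1)) * t ∈ I := by
    rw [Submodule.mem_colon_singleton, smul_eq_mul, Ideal.mem_span_singleton']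
    exact ⟨u * c', by linear_combination -hu⟩
  exact (u * t : P.primeCompl).2 (hle hmem)

theorem res_prod {U V : X.Opens} (h : V ≤ U) (g : Fin r → Γ(X, U)) (a : Fin r → ℕ) :
    resR h (∏ l, g l ^ a l) = ∏ l, resR h (g l) ^ a l := by simp only [map_prod, map_pow]

variable {Y : Scheme.{u}} {L : X.Modules} {N : ℕ} {s : Coh.structureModule X ⟶ CohB1.tensorPow L N}
  {π : Y ⟶ X} {R : CycCov.Root L N s π}

/-- The coordinate of the root in a changed frame. -/
theorem t_res_smul {U U' W : X.affineOpens} (h : W.1 ≤ U.1) (h' : W.1 ≤ U'.1) {e : Γ(L, U.1)}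
    {e' : Γ(L, U'.1)} (he : IsFrame e) (he' : IsFrame e') {c : Γ(X, W.1)}
    (hc : res L h' e' = c • res L h e) :
    resR (π.preimage_mono h') (R.t U' e' (isGen_of_isFrame he')) * (π.app W.1).hom c =
      resR (π.preimage_mono h) (R.t U e (isGen_of_isFrame he)) := by
  have h1 : resR (π.preimage_mono h') (R.t U' e' (isGen_of_isFrame he')) =
      R.t W (res L h' e') (isGen_of_isFrame (he'.res h')) := R.t_res U' W h' e' _ _
  have h2 : resR (π.preimage_mono h) (R.t U e (isGen_of_isFrame he)) =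
      R.t W (res L h e) (isGen_of_isFrame (he.res h)) := R.t_res U W h e _ _
  rw [h1, h2]
  have hg : CycCov.IsGen L W.1 (c • res L h e) := hc ▸ isGen_of_isFrame (he'.res h')
  refine Eq.trans ?_ (R.t_smul W (res L h e) (isGen_of_isFrame (he.res h)) c hg)
  congr 1
  congr 1

/-- The decomposition of the direct image of the structure sheaf. -/
theorem exists_decomp_local {k : Type u} [Field k] [IsAlgClosed k] (φ : X ⟶ Spec (CommRingCat.of k)) [Smooth φ]
    (hL : PicF.IsInvertible L) (hN : 0 < N) (hNk : (N : k) ≠ 0) {D : Fin r → X.IdealSheafData} (α : Fin r → ℕ)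
    (hD : LogNCD.IsNCD D φ) (hs : CycCov.IsZeroDiv (CohB1.tensorPow L N) s (CycCov.divIdeal D α))
    (hR : CycCov.IsCover R) (M : Fin N → X.Modules)
    (hM : ∀ i : Fin N, ClSub.IsInverseOf (CycCov.intPart L D α N i) (M i)) :
    ∃ c : ∀ i : Fin N, M i ⟶ (Scheme.Modules.pushforward π).obj (Coh.structureModule Y),
      Nonempty (IsColimit (Cofan.mk ((Scheme.Modules.pushforward π).obj (Coh.structureModule Y)) c)) ∧
      ∀ p : X, ∃ O : X.Opens, p ∈ O ∧ ∀ (V : X.affineOpens), V.1 ≤ O → Nonempty (V.1 : X.Opens) →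
        ∀ g : Fin r → Γ(X, V.1), (∀ l, (D l).ideal V = Ideal.span {g l}) →
        ∃ (μ : ∀ i, Γ(M i, V.1)) (E : Fin N → Γ(Y, π ⁻¹ᵁ V.1)) (t : Γ(Y, π ⁻¹ᵁ V.1)) (w : Γ(X, V.1)),
          IsUnit w ∧ (∀ i, IsFrame (μ i)) ∧
          (∀ i, OmegaSh.fnSect Y (π ⁻¹ᵁ V.1) ((c i).app V.1 (μ i)) = E i) ∧
          t ^ N = (π.app V.1).hom (w * ∏ l, g l ^ α l) ∧
          (∀ i : Fin N, (π.app V.1).hom (∏ l, g l ^ ((i : ℕ) * α l / N)) * E i = t ^ (i : ℕ)) ∧
          Function.Bijective fun a : Fin N → Γ(X, V.1) => ∑ i, (π.app V.1).hom (a i) * E i := by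
  classical
  haveI := hR.1
  -- the charts
  choose U e g hxU _hUO he hg _hg1 using fun x : X =>
    exists_comp φ D hD hL (x := x) (O := ⊤) trivial
  choose f hf using fun x => exists_coord_val s (he x)
  have hwf : ∀ x, ∃ w : Γ(X, (U x).1), IsUnit w ∧ f x = w * ∏ l, g x l ^ α l := fun x => by
    haveI : Nonempty (U x).1 := ⟨⟨x, hxU x⟩⟩
    have h1 := (span_coord hs (he x) (hf x)).symm.trans (ideal_divIdeal_span D α (hg x).span)
    obtain ⟨u, hu⟩ := Ideal.span_singleton_eq_span_singleton.1 h1.symm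
    exact ⟨u, u.isUnit, by rw [← hu, mul_comm]⟩
  choose w hw hfw using hwf
  -- integral closure data on each chart
  have hne : ∀ x, Nonempty (U x).1 := fun x => ⟨⟨x, hxU x⟩⟩
  let G : ∀ (x : X), Fin N → Γ(X, (U x).1) := fun x i => ∏ l, g x l ^ ((i : ℕ) * α l / N)
  have hG0 : ∀ x i, G x i ≠ 0 := fun x i => by
    haveI := hne x
    exact Finset.prod_ne_zero_iff.2 fun l _ => pow_ne_zero _ ((hg x).ne l)
  have hGdvd : ∀ x (i : Fin N), G x i ^ N ∣ f x ^ (i : ℕ) := fun x i => by
    rw [hfw x, mul_pow, ← Finset.prod_pow, ← Finset.prod_pow]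
    refine Dvd.dvd.mul_left (Finset.prod_dvd_prod_of_dvd _ _ fun l _ => ?_) _
    rw [← pow_mul, ← pow_mul]
    exact pow_dvd_pow _ ((Nat.div_mul_le_self _ _).trans_eq (Nat.mul_comm _ _))
  have hcov : ∀ x, CovData (π.app (U x).1).hom N (f x) (R.t (U x) (e x) (isGen_of_isFrame (he x))) :=
    fun x => by
      haveI := hne x
      exact covData hL hN hR (U x) (he x) (hf x)
  choose E hE using fun x (i : Fin N) =>
    (hcov x).exists_div hN (a := 1) (b := G x i) i (hG0 x i) (by simpa using hGdvd x i)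
  simp only [map_one, one_mul] at hE
  -- frames of the inverse modules, dual to those of the integral parts
  have hgen : ∀ x (i : Fin N), ∃ kk : Γ(ClSub.idealMod (CycCov.floorIdeal D α N i), (U x).1),
      OmegaSh.idealSect _ (U x).1 kk = G x i ∧ IsFrame kk := fun x i => by
    haveI := hne x
    exact ArSurfX.exists_frame_of_isGen
      ⟨mem_nonZeroDivisors_of_ne_zero (hG0 x i), ideal_divIdeal_span D _ (hg x).span⟩
  choose kk hkk hkkf using hgen
  let T : ∀ (x : X) (i : Fin N), Γ(CycCov.intPart L D α N i, (U x).1) := fun x i =>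
    InvX.tmul (pw (e x) i) (kk x i)
  have hTf : ∀ x i, IsFrame (T x i) := fun x i => isFrame_tmul (isFrame_pw (he x) i) (hkkf x i)
  let θ := fun i : Fin N => (hM i).some
  have hMinv : ∀ i : Fin N, PicF.IsInvertible (M i) := fun i => by
    have hI : PicF.IsInvertible (CycCov.intPart L D α N i) :=
      InvX.isInvertible_of_frames fun x => ⟨_, hxU x, _, hTf x i⟩
    obtain ⟨cm⟩ := H23.PicMul.comm (M i) (CycCov.intPart L D α N i)
    exact ArSurfX.isInvertible_of_isInverseOf hI ⟨cm ≪≫ θ i⟩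
  have hexm : ∀ (x : X) (i : Fin N), ∃ (O : X.Opens) (m : Γ(M i, O)), x ∈ O ∧ IsFrame m := fun x i => by
    obtain ⟨O, hO, m, hm⟩ := InvX.exists_frame (hMinv i) x
    exact ⟨O, m, hO, hm⟩
  choose Um m0 hxUm hm0 using hexm
  let one : ∀ V : X.Opens, Γ(Coh.structureModule X, V) := fun V => (1 : Γ(X, V))
  have hfr : ∀ (x : X) (i : Fin N), ∃ m : Γ(M i, (U x).1 ⊓ Um x i),
      IsFrame m ∧ (θ i).hom.app _ (InvX.tmul (res _ inf_le_left (T x i)) m) = one _ := fun x i => by
    let O := (U x).1 ⊓ Um x i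
    have hm' := (hm0 x i).res (inf_le_right : O ≤ Um x i)
    have hF := (isFrame_tmul ((hTf x i).res (inf_le_left : O ≤ (U x).1)) hm').map_iso (θ i)
    obtain ⟨u, hu⟩ := (hF O le_rfl).2 (one O)
    obtain ⟨v, hv⟩ := (isFrame_one O O le_rfl).2 ((θ i).hom.app O
      (InvX.tmul (res _ inf_le_left (T x i)) (res _ inf_le_right (m0 x i))))
    simp only [res_self] at hv
    have hu' := ((congrArg (u • ·) (res_self (M := Coh.structureModule X)
      ((θ i).hom.app O (InvX.tmul (res _ inf_le_left (T x i)) (res _ inf_le_right (m0 x i)))))).symm.trans hu)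
    have huv : u * v = 1 := by
      refine (isFrame_one O).coord_unique le_rfl ?_
      simp only [res_self]
      exact (mul_smul _ _ _).trans (((congrArg (u • ·) hv).trans hu').trans (one_smul _ _).symm)
    refine ⟨u • res _ inf_le_right (m0 x i), hm'.isUnit_smul (IsUnit.of_mul_eq_one _ huv), ?_⟩
    rw [tmul_smul_right, Scheme.Modules.Hom.app_smul]
    exact hu'
  choose mm hmmf hmm using hfr
  -- the sections and the morphisms
  let P := (Scheme.Modules.pushforward π).obj (Coh.structureModule Y)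
  let En : ∀ (x : X) (i : Fin N), Γ(P, (U x).1 ⊓ Um x i) := fun x i =>
    resR (π.preimage_mono inf_le_left) (E x i)
  have hcompat : ∀ (i : Fin N) (a b : X) (W : X.Opens) (ha : W ≤ (U a).1 ⊓ Um a i) (hb : W ≤ (U b).1 ⊓ Um b i)
      (c : Γ(X, W)), res (M i) hb (mm b i) = c • res (M i) ha (mm a i) →
      res P hb (En b i) = c • res P ha (En a i) := by
    intro i a b W ha hb c hc
    refine eq_of_locally _ _ fun p hp => ?_
    obtain ⟨V, hV, hpV, hVW⟩ := Opens.isBasis_iff_nbhd.mp X.isBasis_affineOpens hp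
    refine ⟨V, hVW, hpV, ?_⟩
    haveI : Nonempty V := ⟨⟨p, hpV⟩⟩
    have hVa : V ≤ (U a).1 := hVW.trans (ha.trans inf_le_left)
    have hVb : V ≤ (U b).1 := hVW.trans (hb.trans inf_le_left)
    obtain ⟨d, hd⟩ := (he a).exists_coord hVa (res L hVb (e b))
    obtain ⟨v, hv⟩ := (hkkf a i).exists_coord hVa (res _ hVb (kk b i))
    have hGv : resR hVb (G b i) = v * resR hVa (G a i) := by
      have h1 := congrArg (OmegaSh.idealSect _ V) hv
      rw [OmegaLib.idealSect_smul, show OmegaSh.idealSect _ V (res _ hVb (kk b i)) = _ from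
        OmegaLib.idealSect_map _ hVb _, show OmegaSh.idealSect _ V (res _ hVa (kk a i)) = _ from
        OmegaLib.idealSect_map _ hVa _, hkk, hkk] at h1
      exact h1
    have hT : res _ hVb (T b i) = (d ^ (i : ℕ) * v) • res _ hVa (T a i) := by
      show res (CohB1.tensorMod _ _) hVb (InvX.tmul _ _) = _ • res (CohB1.tensorMod _ _) hVa (InvX.tmul _ _)
      rw [res_tmul, res_tmul, hv, res_pw, res_pw, hd, pw_smul, tmul_smul_left, tmul_smul_right, ← mul_smul]
    have hone : d ^ (i : ℕ) * v * resR hVW c = 1 := by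
      have h1 := congrArg (res (Coh.structureModule X) (hVW.trans hb)) (hmm b i)
      have h2 := congrArg (res (Coh.structureModule X) (hVW.trans ha)) (hmm a i)
      rw [← app_res, res_tmul, res_res] at h1 h2
      have h3 := congrArg (res (M i) hVW) hc
      rw [res_smul, res_res, res_res] at h3
      rw [hT, h3, tmul_smul_left, tmul_smul_right, ← mul_smul, Scheme.Modules.Hom.app_smul, h2] at h1
      have h4 : ∀ {O O' : X.Opens} (hO : O ≤ O'), res (Coh.structureModule X) hO (one O') = one O :=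
        fun hO => map_one (resR hO)
      rw [h4, h4] at h1
      exact (isFrame_one V).coord_unique le_rfl (by
        simp only [res_self]
        exact h1.trans (one_smul _ _).symm)
    rw [res_smul, res_res, res_res]
    show resR (π.preimage_mono (hVW.trans hb)) (resR (π.preimage_mono inf_le_left) (E b i)) =
      (π.app V).hom (resR hVW c) * resR (π.preimage_mono (hVW.trans ha)) (resR (π.preimage_mono inf_le_left) (E a i))
    rw [resR_resR, resR_resR]
    have hkey : ∀ x (hx : V ≤ (U x).1), (π.app V).hom (resR hx (G x i)) * resR (π.preimage_mono hx) (E x i) =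
        resR (π.preimage_mono hx) (R.t (U x) (e x) (isGen_of_isFrame (he x))) ^ (i : ℕ) := fun x hx => by
      rw [← res_app, ← map_mul, ← map_pow]
      exact congrArg _ (hE x i)
    have ht := t_res_smul (R := R) (W := ⟨V, hV⟩) hVa hVb (he a) (he b) hd
    have h5 : (π.app V).hom (resR hVa (G a i)) * ((π.app V).hom (d ^ (i : ℕ) * v) *
        resR (π.preimage_mono hVb) (E b i) - resR (π.preimage_mono hVa) (E a i)) = 0 := by
      rw [mul_sub, sub_eq_zero, hkey a hVa, ← ht, mul_pow, ← hkey b hVb, hGv]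
      simp only [map_mul, map_pow]
      ring
    have h6 := sub_eq_zero.1 (app_mul_eq_zero hL hN hR (fun h0 => hG0 a i (resR_injective hVa
      (h0.trans (map_zero _).symm))) h5)
    rw [← h6, ← mul_assoc, ← map_mul, mul_comm (resR hVW c), hone, map_one, one_mul]
  let c : ∀ i, M i ⟶ P := fun i =>
    ofFrames (U := fun x => (U x).1 ⊓ Um x i) (e := fun x => mm x i) (n := fun x => En x i)
      (fun x => ⟨x, hxU x, hxUm x i⟩) (fun x => hmmf x i) (hcompat i)
  have hmem : ∀ p, p ∈ (U p).1 ⊓ Finset.univ.inf fun i => Um p i := fun p => ⟨hxU p, by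
    have : ∀ t : Finset (Fin N), p ∈ t.inf fun i => Um p i := fun t => by
      induction t using Finset.induction with
      | empty => rw [Finset.inf_empty]; trivial
      | insert a t ha ih => rw [Finset.inf_insert]; exact ⟨hxUm p a, ih⟩
    exact this _⟩
  have hVm : ∀ (p : X) (V : X.affineOpens), V.1 ≤ (U p).1 ⊓ (Finset.univ.inf fun i => Um p i) →
      ∀ i, V.1 ≤ (U p).1 ⊓ Um p i := fun p V hle i =>
    le_inf (hle.trans inf_le_left) (hle.trans (inf_le_right.trans (Finset.inf_le (Finset.mem_univ i))))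
  have hloc : ∀ (p : X) (V : X.affineOpens) (hle : V.1 ≤ (U p).1 ⊓ Finset.univ.inf fun i => Um p i),
      Nonempty (V.1 : X.Opens) → ∃ E' : Fin N → Γ(Y, π ⁻¹ᵁ V.1),
        (∀ i, OmegaSh.fnSect Y (π ⁻¹ᵁ V.1) ((c i).app V.1 (res (M i) (hVm p V hle i) (mm p i))) = E' i) ∧
        (∀ i, (π.app V.1).hom (resR (hle.trans inf_le_left) (G p i)) * E' i =
          resR (π.preimage_mono (hle.trans inf_le_left)) (R.t (U p) (e p) (isGen_of_isFrame (he p))) ^ (i : ℕ)) ∧
        Function.Bijective fun a : Fin N → Γ(X, V.1) => ∑ i, (π.app V.1).hom (a i) * E' i := by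
    intro p V hle hV
    have hVU : V.1 ≤ (U p).1 := hle.trans inf_le_left
    haveI := isIntegrallyClosed_sections φ V.2
    obtain ⟨hNA, ζ, hζ⟩ := exists_primitiveRoot φ hNk V.1
    have hfV := val_eq_res hVU (hf p)
    have hcovV := covData hL hN hR V ((he p).res hVU) hfV
    obtain ⟨E', hE', hbij⟩ := hcovV.exists_basis hN hNA hζ (fun i => resR hVU (G p i))
      (fun i h0 => hG0 p i (resR_injective hVU (h0.trans (map_zero _).symm)))
      (fun i => by rw [← map_pow, ← map_pow]; exact map_dvd _ (hGdvd p i))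
      (fun i a b hb hdvd => by
        rw [show resR hVU (G p i) = ∏ l, resR hVU (g p l) ^ ((i : ℕ) * α l / N) from res_prod hVU _ _]
        refine (hg p).max_div φ hVU α ((hw p).map (resR hVU)) hN i hb ?_
        rwa [hfw p, map_mul, res_prod] at hdvd)
    have hEE : ∀ i, resR (π.preimage_mono hVU) (E p i) = E' i := fun i => by
      refine sub_eq_zero.1 (app_mul_eq_zero hL hN hR
        (fun h0 => hG0 p i (resR_injective hVU (h0.trans (map_zero _).symm))) ?_)
      rw [mul_sub, sub_eq_zero, hE' i, ← res_app, ← map_mul, hE p i, map_pow]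
      congr 1
      exact R.t_res (U p) V hVU (e p) _ _
    refine ⟨E', fun i => ?_, fun i => ?_, hbij⟩
    · show OmegaSh.fnSect Y _ ((c i).app V.1 (res (M i) (hVm p V hle i) (mm p i))) = _
      rw [ofFrames_app_res]
      show resR (π.preimage_mono (hVm p V hle i)) (resR (π.preimage_mono inf_le_left) (E p i)) = _
      rw [resR_resR, hEE]
    · rw [hE' i]
      exact congrArg (· ^ (i : ℕ)) (R.t_res (U p) V hVU (e p) _ _).symm
  refine ⟨c, exists_isColimit_of_bijective c fun p => ⟨_, hmem p, fun V hle => ?_⟩, fun p => ⟨_, hmem p, ?_⟩⟩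
  · rcases isEmpty_or_nonempty (V.1 : X.Opens) with hem | hV
    · have hb : ∀ (Q : X.Modules) (a b : Γ(Q, V.1)), a = b := fun Q a b =>
        eq_of_locally _ _ fun q hq => (hem.false ⟨q, hq⟩).elim
      exact ⟨fun a b _ => funext fun i => hb _ _ _, fun y => ⟨0, hb _ _ _⟩⟩
    obtain ⟨E', hcE, -, hbij⟩ := hloc p V hle hV
    have hfr' : Function.Bijective fun a : Fin N → Γ(X, V.1) =>
        fun i => a i • res (M i) (hVm p V hle i) (mm p i) :=
      Function.Bijective.piMap fun i => hmmf p i V.1 (hVm p V hle i)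
    refine (Function.Bijective.of_comp_iff _ hfr').1 ?_
    have key : (sumApp c V.1 ∘ fun a : Fin N → Γ(X, V.1) => fun i => a i • res (M i) (hVm p V hle i) (mm p i)) =
        fun a => (show Γ(P, V.1) from ∑ i, (π.app V.1).hom (a i) * E' i) := funext fun a => by
      show ∑ i, (c i).app V.1 (a i • res (M i) (hVm p V hle i) (mm p i)) =
        ∑ i, (show Γ(P, V.1) from (π.app V.1).hom (a i) * E' i)
      refine Finset.sum_congr rfl fun i _ => ?_
      rw [Scheme.Modules.Hom.app_smul, ← hcE]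
      rfl
    rw [key]
    exact hbij
  · intro V hle hV g' hg'
    obtain ⟨E', hcE, hGE, hbij⟩ := hloc p V hle hV
    have hVU : V.1 ≤ (U p).1 := hle.trans inf_le_left
    have hb : ∀ l, ∃ b : (Γ(X, V.1))ˣ, g' l * b = resR hVU (g p l) := fun l =>
      Ideal.span_singleton_eq_span_singleton.1
        ((hg' l).symm.trans (H44LogNCD.ideal_span_res (D l) hVU ((hg p).span l)))
    choose b hb using hb
    let B : Fin N → Γ(X, V.1) := fun i => ∏ l, (b l : Γ(X, V.1)) ^ ((i : ℕ) * α l / N)
    have hB : ∀ i, IsUnit (B i) := fun i => IsUnit.prod_iff.2 fun l _ => (b l).isUnit.pow _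
    have hBG : ∀ i : Fin N, (∏ l, g' l ^ ((i : ℕ) * α l / N)) * B i = resR hVU (G p i) := fun i => by
      rw [res_prod, ← Finset.prod_mul_distrib]
      exact Finset.prod_congr rfl fun l _ => by rw [← mul_pow, hb]
    refine ⟨fun i => B i • res (M i) (hVm p V hle i) (mm p i), fun i => (π.app V.1).hom (B i) * E' i,
      resR (π.preimage_mono hVU) (R.t (U p) (e p) (isGen_of_isFrame (he p))),
      resR hVU (w p) * ∏ l, (b l : Γ(X, V.1)) ^ α l,
      ((hw p).map _).mul (IsUnit.prod_iff.2 fun l _ => (b l).isUnit.pow _),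
      fun i => ((hmmf p i).res (hVm p V hle i)).isUnit_smul (hB i), fun i => ?_, ?_, fun i => ?_, ?_⟩
    · show OmegaSh.fnSect Y _ ((c i).app V.1 (B i • res (M i) (hVm p V hle i) (mm p i))) = _
      rw [Scheme.Modules.Hom.app_smul]
      exact congrArg ((π.app V.1).hom (B i) * ·) (hcE i)
    · rw [← map_pow, (hcov p).root, res_app hVU, hfw p, map_mul (resR hVU), res_prod]
      refine congrArg (π.app V.1).hom ?_
      rw [mul_assoc, ← Finset.prod_mul_distrib]
      exact congrArg _ (Finset.prod_congr rfl fun l _ => by rw [← mul_pow, mul_comm, hb])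
    · rw [← mul_assoc, ← map_mul, hBG, hGE]
    · have e1 : (fun a : Fin N → Γ(X, V.1) => ∑ i, (π.app V.1).hom (a i) * ((π.app V.1).hom (B i) * E' i)) =
          (fun a : Fin N → Γ(X, V.1) => ∑ i, (π.app V.1).hom (a i) * E' i) ∘ fun a i => a i * B i := by
        funext a
        exact Finset.sum_congr rfl fun i _ => by rw [map_mul, mul_assoc]
      rw [e1]
      refine hbij.comp (Function.Bijective.piMap (f := fun i (x : Γ(X, V.1)) => x * B i) fun i => ?_)
      obtain ⟨u, hu⟩ := hB i
      rw [← hu]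
      exact u.mulRight_bijective

/-- The decomposition of the direct image of the structure sheaf. -/
theorem exists_decomp {k : Type u} [Field k] [IsAlgClosed k] (φ : X ⟶ Spec (CommRingCat.of k)) [Smooth φ]
    (hL : PicF.IsInvertible L) (hN : 0 < N) (hNk : (N : k) ≠ 0) {D : Fin r → X.IdealSheafData} (α : Fin r → ℕ)
    (hD : LogNCD.IsNCD D φ) (hs : CycCov.IsZeroDiv (CohB1.tensorPow L N) s (CycCov.divIdeal D α))
    (hR : CycCov.IsCover R) (M : Fin N → X.Modules)
    (hM : ∀ i : Fin N, ClSub.IsInverseOf (CycCov.intPart L D α N i) (M i)) :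
    ∃ c : ∀ i : Fin N, M i ⟶ (Scheme.Modules.pushforward π).obj (Coh.structureModule Y),
      Nonempty (IsColimit (Cofan.mk ((Scheme.Modules.pushforward π).obj (Coh.structureModule Y)) c)) := by
  obtain ⟨c, hc, -⟩ := exists_decomp_local (R := R) φ hL hN hNk α hD hs hR M hM
  exact ⟨c, hc⟩

end Groth.Agent.H44Cyc
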