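import Groth.Agent.H44Cyc.Branch
import Groth.Agent.H44Cyc.Eigen
import Groth.Agent.HTopCov.AlmostBlowUp

/-! # The cover over the complement of the crossings of the branch divisor -/

universe u

open CategoryTheory AlgebraicGeometry TopologicalSpace Opposite

set_option backward.isDefEq.respectTransparency false
set_option linter.style.haveILetI false
set_option linter.unusedSectionVars false

namespace Groth.Agent.H44Cyc

open Groth.Agent.AModX Groth.Agent.InvX

/-- Ideal sheaves agreeing on affine opens covering an affine open agree there. -/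
theorem ideal_eq_of_cover {X : Scheme.{u}} {I J : X.IdealSheafData} (V : X.affineOpens)
    (h : ∀ x ∈ V.1, ∃ U : X.affineOpens, x ∈ U.1 ∧ I.ideal U = J.ideal U) : I.ideal V = J.ideal V := by
  choose U hxU hU using h
  suffices key : ∀ I J : X.IdealSheafData, (∀ x hx, I.ideal (U x hx) = J.ideal (U x hx)) → I.ideal V ≤ J.ideal V from
    le_antisymm (key I J hU) (key J I fun x hx => (hU x hx).symm)
  intro I J hIJ
  have : ∀ x : V.1, ∃ (r : Γ(X, V.1)) (rU : Γ(X, (U x.1 x.2).1)),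
      X.basicOpen r = X.basicOpen rU ∧ x.1 ∈ X.basicOpen r := fun x =>
    exists_basicOpen_le_affine_inter V.2 (U x.1 x.2).2 _ ⟨x.2, hxU _ _⟩
  choose r rU e hxr using this
  have : Ideal.span (Set.range r) = ⊤ := by
    rw [← V.2.self_le_iSup_basicOpen_iff]
    exact fun x hxV => TopologicalSpace.Opens.mem_iSup.mpr ⟨⟨_, _, rfl⟩, hxr ⟨x, hxV⟩⟩
  have inst := V.2.isLocalization_basicOpen
  refine Submodule.le_of_isLocalized_span _ this (fun i => Γ(X, X.basicOpen i.1))
    (fun i => Algebra.linearMap Γ(X, V.1) Γ(X, X.basicOpen i.1)) ?_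
  rintro ⟨_, j, rfl⟩
  simp only [← Submodule.restrictScalars_localized' Γ(X, X.basicOpen (r j)),
    Ideal.localized'_eq_map, RingHom.algebraMap_toAlgebra]
  erw [I.map_ideal (U := ⟨_, V.2.basicOpen _⟩) (X.basicOpen_le (r j)),
    J.map_ideal (U := ⟨_, V.2.basicOpen _⟩) (X.basicOpen_le (r j))]
  delta Scheme.algebra_section_section_basicOpen
  rw! [e]
  rw [← I.map_ideal (V := U j.1 j.2) (X.basicOpen_le _), ← J.map_ideal (V := U j.1 j.2) (X.basicOpen_le _), hIJ]

variable {k : Type u} [Field k] [IsAlgClosed k] {X Y : Scheme.{u}} [IsIntegral X] {L : X.Modules} {N : ℕ}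
  {s : Coh.structureModule X ⟶ CohB1.tensorPow L N} {π : Y ⟶ X} {R : CycCov.Root L N s π} {r : ℕ}
  {D : Fin r → X.IdealSheafData} {α : Fin r → ℕ}

/-- The pull-back of an ideal to the preimage of an affine open. -/
theorem ideal_comap_preimage [IsAffineHom π] (I : X.IdealSheafData) (U : X.affineOpens) :
    (I.comap π).ideal ⟨π ⁻¹ᵁ U.1, U.2.preimage π⟩ = (I.ideal U).map (π.app U.1).hom := by
  rw [HTopCov.ideal_comap_appLE π I U ⟨π ⁻¹ᵁ U.1, U.2.preimage π⟩ le_rfl, Scheme.Hom.app_eq_appLE]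

/-- Near a point on at most one branch component. -/
theorem exists_branch_chart (φ : X ⟶ Spec (CommRingCat.of k)) [Smooth φ] (hL : PicF.IsInvertible L) (hN : 0 < N)
    (hNk : (N : k) ≠ 0) (hD : LogNCD.IsNCD D φ)
    (hs : CycCov.IsZeroDiv (CohB1.tensorPow L N) s (CycCov.divIdeal D α)) (hR : CycCov.IsCover R) {x : X}
    {O : X.Opens} (hxO : x ∈ O)
    (hx : ∀ j j' : Fin r, 0 < α j → 0 < α j' → x ∈ (D j).support → x ∈ (D j').support → j = j') :
    ∃ U : X.affineOpens, x ∈ U.1 ∧ U.1 ≤ O ∧ IsRegularRing Γ(Y, π ⁻¹ᵁ U.1) ∧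
      ((∀ j j' : Fin r, x ∈ (D j).support → x ∈ (D j').support → j = j') →
        (∀ j, x ∉ (D j).support → (D j).ideal U = ⊤) ∧
        ∀ j, x ∈ (D j).support → ∃ S : Γ(Y, π ⁻¹ᵁ U.1),
          ((D j).ideal U).map (π.app U.1).hom = Ideal.span {S ^ (N / Nat.gcd N (α j))} ∧
            (Ideal.span {S}).IsRadical) := by
  classical
  obtain ⟨U, e, g, hxU, hUO, he, hg, hg1⟩ := exists_comp φ D hD hL hxO
  haveI : Nonempty U.1 := ⟨⟨x, hxU⟩⟩
  obtain ⟨f, hf⟩ := exists_coord_val s he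
  obtain ⟨w, hw, hfw⟩ : ∃ w : Γ(X, U.1), IsUnit w ∧ f = w * ∏ l, g l ^ α l := by
    have h1 := (span_coord hs he hf).symm.trans (ideal_divIdeal_span D α hg.span)
    obtain ⟨u, hu⟩ := Ideal.span_singleton_eq_span_singleton.1 h1.symm
    exact ⟨u, u.isUnit, by rw [← hu, mul_comm]⟩
  obtain ⟨hNA, ζ, hζ⟩ := exists_primitiveRoot φ hNk U.1
  haveI := isIntegrallyClosed_sections φ U.2
  haveI := isRegularRing_sections φ U.2
  have hc := covData hL hN hR U he hf
  -- a single equation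
  have hone : ∀ (j₀ : Fin r), (∀ l, l ≠ j₀ → g l ^ α l = 1) →
      IsRegularRing Γ(Y, π ⁻¹ᵁ U.1) ∧ ∃ S v : Γ(Y, π ⁻¹ᵁ U.1), IsUnit v ∧
        (π.app U.1).hom (g j₀) = v * S ^ (N / Nat.gcd N (α j₀)) ∧ (Ideal.span {S}).IsRadical := by
    intro j₀ hj
    haveI := hg.quot j₀
    refine hc.branch hN hNA hζ (hg.ne j₀) hw.unit ?_ fun j a b hb hdvd => ?_
    · rw [hfw, IsUnit.unit_spec, Finset.prod_eq_single j₀ (fun l _ hl => hj l hl)
        (fun h => absurd (Finset.mem_univ _) h)]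
    · have h1 := hg.max_div φ (le_refl U.1) α hw hN j hb (by simpa [resR_self, hfw] using hdvd)
      simp only [resR_self] at h1
      rwa [Finset.prod_eq_single j₀ (fun l _ hl => ?_) (fun h => absurd (Finset.mem_univ _) h)] at h1
      rcases Nat.eq_zero_or_pos (α l) with h0 | h0
      · rw [h0, mul_zero, Nat.zero_div, pow_zero]
      · have hgl : IsUnit (g l) := IsUnit.of_pow_eq_one (hj l hl) h0.ne'
        by_cases hm : x ∈ (D l).support
        · exfalso
          have : (D l).ideal U = ⊤ := by rw [hg.span l, Ideal.span_singleton_eq_top]; exact hgl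
          have hxl := (Scheme.IdealSheafData.mem_support_iff_of_mem hxU).1 hm
          rw [this, Scheme.mem_zeroLocus_iff] at hxl
          exact hxl 1 Submodule.mem_top (by rw [Scheme.basicOpen_of_isUnit _ isUnit_one]; exact hxU)
        · rw [hg1 l hm, one_pow]
  -- the cases
  have hreg : IsRegularRing Γ(Y, π ⁻¹ᵁ U.1) := by
    by_cases hbr : ∃ j₀, 0 < α j₀ ∧ x ∈ (D j₀).support
    · obtain ⟨j₀, hα, hj₀⟩ := hbr
      refine (hone j₀ fun l hl => ?_).1
      rcases Nat.eq_zero_or_pos (α l) with h0 | h0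
      · rw [h0, pow_zero]
      · rw [hg1 l fun hm => hl (hx l j₀ h0 hα hm hj₀), one_pow]
    · push Not at hbr
      have hfu : f = w := by
        rw [hfw, Finset.prod_eq_one fun l _ => ?_, mul_one]
        rcases Nat.eq_zero_or_pos (α l) with h0 | h0
        · rw [h0, pow_zero]
        · rw [hg1 l (hbr l h0), one_pow]
      haveI : IsRegularRing (Γ(X, U.1) ⧸ Ideal.span {(1 : Γ(X, U.1))}) := by
        haveI : Subsingleton (Γ(X, U.1) ⧸ Ideal.span {(1 : Γ(X, U.1))}) :=
          Ideal.Quotient.subsingleton_iff.2 Ideal.span_singleton_one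
        haveI : IsNoetherianRing (Γ(X, U.1) ⧸ Ideal.span {(1 : Γ(X, U.1))}) := isNoetherian_of_finite _ _
        exact isRegularRing_iff.2 fun p hp => absurd (Subsingleton.elim p ⊤) hp.ne_top
      refine (hc.branch (α := 0) hN hNA hζ (h := 1) one_ne_zero hw.unit
        (by rw [hfu, pow_zero, mul_one, IsUnit.unit_spec]) fun j a b hb hdvd => ?_).1
      rw [one_pow, mul_one]
      refine (IsIntegrallyClosed.pow_dvd_pow_iff hN.ne').1 ((hw.pow (j : ℕ)).dvd_mul_right.1 ?_)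
      rwa [← hfu]
  refine ⟨U, hxU, hUO, hreg, fun huniq => ⟨fun j hj => ?_, fun j hj => ?_⟩⟩
  · rw [hg.span j, hg1 j hj, Ideal.span_singleton_one]
  · obtain ⟨-, S, v, hv, hS, hrad⟩ := hone j fun l hl => by
      rw [hg1 l fun hm => hl (huniq l j hm hj), one_pow]
    refine ⟨S, ?_, hrad⟩
    rw [hg.span j, Ideal.map_span, Set.image_singleton, hS, Ideal.span_singleton_mul_left_unit hv]

/-- The multiplicity of the preimage of a component, on an affine open upstairs. -/
theorem comap_ideal_eq (φ : X ⟶ Spec (CommRingCat.of k)) [Smooth φ] (hL : PicF.IsInvertible L) (hN : 0 < N)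
    (hNk : (N : k) ≠ 0) (hD : LogNCD.IsNCD D φ)
    (hs : CycCov.IsZeroDiv (CohB1.tensorPow L N) s (CycCov.divIdeal D α)) (hR : CycCov.IsCover R)
    (W : X.Opens) (hW : ∀ x ∈ W, ∀ j j' : Fin r, x ∈ (D j).support → x ∈ (D j').support → j = j')
    {V : Y.affineOpens} (hV : V.1 ≤ π ⁻¹ᵁ W) {y : Y} (hy : y ∈ V.1) :
    ∃ U : X.affineOpens, π y ∈ U.1 ∧ ∃ hU : IsAffineOpen (π ⁻¹ᵁ U.1), ∀ (j : Fin r) (c : ℕ),
      (((D j).comap π).ideal ⟨π ⁻¹ᵁ U.1, hU⟩) ^ c =
        ((((D j).comap π).radical).ideal ⟨π ⁻¹ᵁ U.1, hU⟩) ^ (N / Nat.gcd N (α j) * c) := by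
  haveI := hR.1
  have hxW : π y ∈ W := hV hy
  obtain ⟨U, hxU, -, -, hb⟩ := exists_branch_chart φ hL hN hNk hD hs hR hxW
    fun a b _ _ ha hb => hW _ hxW a b ha hb
  obtain ⟨htriv, hsupp⟩ := hb (hW _ hxW)
  refine ⟨U, hxU, U.2.preimage π, fun j c => ?_⟩
  rw [Scheme.IdealSheafData.radical_ideal, ideal_comap_preimage, pow_mul]
  have hm0 : N / Nat.gcd N (α j) ≠ 0 :=
    (Nat.div_pos (Nat.gcd_le_left _ hN) (Nat.gcd_pos_of_pos_left _ hN)).ne'
  congr 1
  by_cases hj : π y ∈ (D j).support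
  · obtain ⟨S, hS, hrad⟩ := hsupp j hj
    rw [hS, ← Ideal.span_singleton_pow, Ideal.radical_pow _ hm0, hrad.radical]
  · rw [htriv j hj, Ideal.map_top, Ideal.radical_top, ← Ideal.one_eq_top, one_pow]

end Groth.Agent.H44Cyc
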