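import Groth.Prelude.Def_CycCov
import Groth.Agent.InvX.Tensor

/-! # Frames of tensor powers -/

universe u

open CategoryTheory AlgebraicGeometry TopologicalSpace Opposite

namespace Groth.Agent.H44Cyc

open Groth.Agent.AModX Groth.Agent.InvX

variable {X : Scheme.{u}} {L : X.Modules}

/-- The `n`-th power of a section. -/
noncomputable def pw {U : X.Opens} (e : Γ(L, U)) : (n : ℕ) → Γ(CohB1.tensorPow L n, U)
  | 0 => (show Γ(Coh.structureModule X, U) from (1 : Γ(X, U)))
  | n + 1 => InvX.tmul (pw e n) e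

theorem lpow_eq {U : X.Opens} (e : Γ(L, U)) (n : ℕ) : CycCov.lpow L U e n = pw e n := by
  induction n with
  | zero => rfl
  | succ n ih =>
    show SecTwist.tmul (CohB1.tensorPow L n) L U (CycCov.lpow L U e n) e = InvX.tmul (pw e n) e
    rw [ih]
    rfl

theorem isFrame_pw {U : X.Opens} {e : Γ(L, U)} (he : IsFrame e) : ∀ n, IsFrame (pw e n)
  | 0 => isFrame_one U
  | n + 1 => isFrame_tmul (isFrame_pw he n) he

theorem res_pw {U V : X.Opens} (h : V ≤ U) (e : Γ(L, U)) :
    ∀ n, res (CohB1.tensorPow L n) h (pw e n) = pw (res L h e) n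
  | 0 => (show resR h (1 : Γ(X, U)) = 1 from map_one _)
  | n + 1 => by
    show res (CohB1.tensorMod (CohB1.tensorPow L n) L) h (InvX.tmul (pw e n) e) = _
    rw [res_tmul, res_pw h e n]
    rfl

theorem pw_smul {U : X.Opens} (b : Γ(X, U)) (e : Γ(L, U)) : ∀ n, pw (b • e) n = b ^ n • pw e n
  | 0 => by rw [pow_zero, one_smul]; rfl
  | n + 1 => by
    show InvX.tmul (pw (b • e) n) (b • e) = _
    rw [pw_smul b e n, tmul_smul_left, tmul_smul_right, ← mul_smul, ← pow_succ]
    rfl

theorem isGen_of_isFrame {U : X.Opens} {e : Γ(L, U)} (he : IsFrame e) : CycCov.IsGen L U e := by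
  have h := he U le_rfl
  simp only [res_self] at h
  exact h

/-- The value of the section in a frame. -/
theorem exists_coord_val {N : ℕ} (s : Coh.structureModule X ⟶ CohB1.tensorPow L N) {U : X.Opens}
    {e : Γ(L, U)} (he : IsFrame e) :
    ∃ f : Γ(X, U), SecTwist.val s U = f • CycCov.lpow L U e N := by
  obtain ⟨f, hf⟩ := ((isFrame_pw he N) U le_rfl).2 (SecTwist.val s U)
  refine ⟨f, ?_⟩
  rw [lpow_eq]
  simp only [res_self] at hf
  exact hf.symm

theorem val_res {M : X.Modules} (s : Coh.structureModule X ⟶ M) {U V : X.Opens} (h : V ≤ U) :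
    res M h (SecTwist.val s U) = SecTwist.val s V := SecTwist.map_val s (homOfLE h)

/-- The frame description restricts. -/
theorem val_eq_res {N : ℕ} {s : Coh.structureModule X ⟶ CohB1.tensorPow L N} {U V : X.Opens} (h : V ≤ U)
    {e : Γ(L, U)} {f : Γ(X, U)} (hf : SecTwist.val s U = f • CycCov.lpow L U e N) :
    SecTwist.val s V = resR h f • CycCov.lpow L V (res L h e) N := by
  rw [lpow_eq] at hf ⊢
  exact (val_res s h).symm.trans ((congrArg (res _ h) hf).trans ((res_smul h f _).trans (by rw [res_pw]; rfl)))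

end Groth.Agent.H44Cyc
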