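import Groth.Agent.H44Cyc.CovData
import Groth.Agent.H44Cyc.Frames
import Groth.Agent.KodV43.H1Zero
import Mathlib.RingTheory.RootsOfUnity.EnoughRootsOfUnity
import Mathlib.FieldTheory.IsAlgClosed.Basic

/-! # The normalised cyclic cover over a small affine open -/

universe u

open CategoryTheory AlgebraicGeometry TopologicalSpace Opposite

set_option backward.isDefEq.respectTransparency false
set_option linter.style.haveILetI false
set_option linter.unusedSectionVars false

namespace Groth.Agent.H44Cyc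

open Groth.Agent.AModX Groth.Agent.InvX

theorem isDomain_localization {X : Scheme.{u}} (hX : Pi1.IsNormalScheme X) {U : X.Opens} (hU : IsAffineOpen U)
    (q : Ideal Γ(X, U)) [q.IsPrime] :
    IsDomain (Localization.AtPrime q) ∧ IsIntegrallyClosed (Localization.AtPrime q) := by
  let y : PrimeSpectrum Γ(X, U) := ⟨q, inferInstance⟩
  let _ := TopCat.Presheaf.algebra_section_stalk X.presheaf
    (⟨hU.fromSpec y, hU.range_fromSpec.le ⟨y, rfl⟩⟩ : U)
  haveI := hU.isLocalization_stalk' y (hU.range_fromSpec.le ⟨y, rfl⟩)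
  haveI : IsDomain (X.presheaf.stalk (hU.fromSpec y)) := (hX _).1
  haveI : IsIntegrallyClosed (X.presheaf.stalk (hU.fromSpec y)) := (hX _).2
  let e := (IsLocalization.algEquiv q.primeCompl (Localization.AtPrime q) (X.presheaf.stalk (hU.fromSpec y))).toRingEquiv
  haveI : IsDomain (Localization.AtPrime q) := e.injective.isDomain e.toRingHom
  exact ⟨inferInstance, IsIntegrallyClosed.of_equiv e.symm⟩

theorem isReduced_of_normal {Y : Scheme.{u}} (hY : Pi1.IsNormalScheme Y) : IsReduced Y := by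
  haveI : ∀ y : Y, _root_.IsReduced (Y.presheaf.stalk y) := fun y => by
    haveI := (hY y).1
    infer_instance
  exact isReduced_of_isReduced_stalk Y

/-- Functions agreeing on a basic open agree up to a power of the function. -/
theorem exists_pow_mul_eq {Y : Scheme.{u}} {O O' : Y.Opens} (hO : IsAffineOpen O) (g : Γ(Y, O))
    (h : O' = Y.basicOpen g) (hle : O' ≤ O) {a b : Γ(Y, O)} (hab : resR hle a = resR hle b) :
    ∃ m : ℕ, g ^ m * a = g ^ m * b := by
  subst h
  letI : Algebra Γ(Y, O) Γ(Y, Y.basicOpen g) := (resR hle).toAlgebra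
  haveI : IsLocalization.Away g Γ(Y, Y.basicOpen g) := hO.isLocalization_basicOpen g
  obtain ⟨⟨_, m, rfl⟩, hm⟩ := IsLocalization.exists_of_eq (M := Submonoid.powers g)
    (show algebraMap Γ(Y, O) Γ(Y, Y.basicOpen g) a = algebraMap Γ(Y, O) _ b from hab)
  exact ⟨m, hm⟩

theorem isIntegrallyClosed_sections {k : Type u} [Field k] {X : Scheme.{u}} (f : X ⟶ Spec (CommRingCat.of k))
    [Smooth f] [IsIntegral X] {U : X.Opens} (hU : IsAffineOpen U) [Nonempty U] : IsIntegrallyClosed Γ(X, U) := by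
  have hn : Pi1.IsNormalScheme X := fun y => by
    haveI := GrpSchLib.isRegularLocalRing_stalk_of_smooth f y
    exact ⟨RegLoc6.isDomain_of_isRegularLocalRing _, RegLoc6.isIntegrallyClosed_of_isRegularLocalRing _⟩
  exact IsIntegrallyClosed.of_localization_maximal fun q _ hq => (isDomain_localization hn hU q).2

theorem exists_primitiveRoot {k : Type u} [Field k] [IsAlgClosed k] {X : Scheme.{u}}
    (f : X ⟶ Spec (CommRingCat.of k)) [IsIntegral X] {N : ℕ} (hN : (N : k) ≠ 0) (U : X.Opens) [Nonempty U] :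
    IsUnit (N : Γ(X, U)) ∧ ∃ ζ : Γ(X, U), IsPrimitiveRoot ζ N := by
  let φ : k →+* Γ(X, U) := ((f.appLE ⊤ U le_top).hom).comp (Scheme.ΓSpecIso (CommRingCat.of k)).inv.hom
  refine ⟨by rw [← map_natCast φ]; exact (isUnit_iff_ne_zero.2 hN).map φ, ?_⟩
  haveI : NeZero (N : k) := ⟨hN⟩
  haveI : NeZero N := NeZero.of_neZero_natCast k
  obtain ⟨z, hz⟩ := HasEnoughRootsOfUnity.exists_primitiveRoot k N
  exact ⟨φ z, hz.map_of_injective φ.injective⟩

section Cover

variable {X Y : Scheme.{u}} [IsIntegral X] {L : X.Modules} {N : ℕ}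
  {s : Coh.structureModule X ⟶ CohB1.tensorPow L N} {π : Y ⟶ X} {R : CycCov.Root L N s π}

theorem chart_smul_eq_zero (hN : 0 < N) {U : X.affineOpens} [Nonempty U.1] {e : L.val.obj (op U.1)}
    {he : CycCov.IsGen L U.1 e} {f : Γ(X, U.1)} {hf : SecTwist.val s U.1 = f • CycCov.lpow L U.1 e N}
    (hbij : Function.Bijective (CycCov.chart R U e he f hf)) {b : Γ(X, U.1)} (hb : b ≠ 0)
    {x : Γ(Y, π ⁻¹ᵁ U.1)} (h : (π.app U.1).hom b * x = 0) : x = 0 := by
  obtain ⟨z, rfl⟩ := hbij.2 x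
  haveI : Module.Free Γ(X, U.1) (AdjoinRoot (Polynomial.X ^ N - Polynomial.C f)) :=
    (Polynomial.monic_X_pow_sub_C _ hN.ne').free_adjoinRoot
  have hz : b • z = 0 := by
    refine hbij.1 ?_
    rw [map_zero, Algebra.smul_def, map_mul, AdjoinRoot.algebraMap_eq]
    exact (congrArg (· * _) (AdjoinRoot.lift_of _)).trans h
  rw [(smul_eq_zero.1 hz).resolve_left hb, map_zero]

theorem res_app {U V : X.Opens} (h : V ≤ U) (b : Γ(X, U)) :
    resR (π.preimage_mono h) ((π.app U).hom b) = (π.app V).hom (resR h b) :=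
  (ConcreteCategory.congr_hom (π.naturality (homOfLE h).op) b).symm

/-- A point has small affine neighbourhoods with a frame. -/
theorem exists_frame_le (hL : PicF.IsInvertible L) {x : X} {O : X.Opens} (hx : x ∈ O) :
    ∃ (U : X.affineOpens) (e : Γ(L, U.1)), x ∈ U.1 ∧ U.1 ≤ O ∧ IsFrame e := by
  obtain ⟨W, hxW, e, he⟩ := InvX.exists_frame hL x
  obtain ⟨V, hV, hxV, hle⟩ := Opens.isBasis_iff_nbhd.mp X.isBasis_affineOpens (show x ∈ O ⊓ W from ⟨hx, hxW⟩)
  exact ⟨⟨V, hV⟩, _, hxV, hle.trans inf_le_left, he.res (hle.trans inf_le_right)⟩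

theorem resR_injective {U V : X.Opens} (h : V ≤ U) [Nonempty V] : Function.Injective (resR h) :=
  map_injective_of_isIntegral X (homOfLE h)

/-- The pull-back of a nonzero function is a nonzerodivisor. -/
theorem app_mul_eq_zero (hL : PicF.IsInvertible L) (hN : 0 < N) (hR : CycCov.IsCover R) {U : X.Opens}
    {b : Γ(X, U)} (hb : b ≠ 0) {x : Γ(Y, π ⁻¹ᵁ U)} (h : (π.app U).hom b * x = 0) : x = 0 := by
  obtain ⟨-, hY, W₀, -, hWd, hW₀⟩ := hR
  haveI := isReduced_of_normal hY
  refine (basicOpen_eq_bot_iff x).1 ?_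
  by_contra hne
  obtain ⟨p, hp⟩ : (Y.basicOpen x : Set Y).Nonempty :=
    Set.nonempty_iff_ne_empty.2 fun h0 => hne (Opens.ext (h0.trans Opens.coe_bot.symm))
  obtain ⟨q, hq, hqW⟩ := hWd.inter_open_nonempty _ (Y.basicOpen x).isOpen ⟨p, hp⟩
  have hqU : π q ∈ U := Y.basicOpen_le x hq
  obtain ⟨V, e, hqV, hle, he⟩ := exists_frame_le hL (show π q ∈ U ⊓ W₀ from ⟨hqU, hqW⟩)
  obtain ⟨f, hf⟩ := exists_coord_val s he
  haveI : Nonempty V.1 := ⟨⟨π q, hqV⟩⟩
  have hbij := hW₀ V (hle.trans inf_le_right) e (isGen_of_isFrame he) f hf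
  have hVU : V.1 ≤ U := hle.trans inf_le_left
  have hb' : resR hVU b ≠ 0 := fun h0 => hb (resR_injective hVU (h0.trans (map_zero _).symm))
  have h0 : resR (π.preimage_mono hVU) x = 0 := by
    refine chart_smul_eq_zero hN hbij hb' ?_
    rw [← res_app, ← map_mul, h, map_zero]
  have hbot : Y.basicOpen (resR (π.preimage_mono hVU) x) = ⊥ := by rw [h0, Scheme.basicOpen_zero]
  rw [show Y.basicOpen (resR (π.preimage_mono hVU) x) = π ⁻¹ᵁ V.1 ⊓ Y.basicOpen x from
    Y.basicOpen_res _ _] at hbot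
  exact hbot.le (show q ∈ π ⁻¹ᵁ V.1 ⊓ Y.basicOpen x from ⟨hqV, hq⟩)

/-- The functions over a small affine open form a cyclic cover datum. -/
theorem covData (hL : PicF.IsInvertible L) (hN : 0 < N) (hR : CycCov.IsCover R) (U : X.affineOpens)
    [Nonempty U.1] {e : Γ(L, U.1)} (he : IsFrame e) {f : Γ(X, U.1)}
    (hf : SecTwist.val s U.1 = f • CycCov.lpow L U.1 e N) :
    CovData (π.app U.1).hom N f (R.t U e (isGen_of_isFrame he)) := by
  have hnzd : ∀ b : Γ(X, U.1), b ≠ 0 → ∀ x, (π.app U.1).hom b * x = 0 → x = 0 :=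
    fun b hb x => app_mul_eq_zero hL hN hR hb
  obtain ⟨hfin, hY, W₀, hWd, -, hW₀⟩ := hR
  haveI := hfin
  have hπU : IsAffineOpen (π ⁻¹ᵁ U.1) := U.2.preimage π
  let φ := (π.app U.1).hom
  let t := R.t U e (isGen_of_isFrame he)
  obtain ⟨p, hpU, hpW⟩ := hWd.inter_open_nonempty _ U.1.isOpen
    (by obtain ⟨⟨p, hp⟩⟩ := (inferInstance : Nonempty U.1); exact ⟨p, hp⟩)
  obtain ⟨h, hhW, hph⟩ := U.2.exists_basicOpen_le ⟨p, hpW⟩ hpU
  let V : X.affineOpens := X.affineBasicOpen h
  have hVU : V.1 ≤ U.1 := X.basicOpen_le h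
  haveI : Nonempty V.1 := ⟨⟨p, hph⟩⟩
  have hh0 : h ≠ 0 := fun h0 => by
    rw [h0, Scheme.basicOpen_zero] at hph
    exact hph
  have heV := he.res hVU
  have hfV := val_eq_res hVU hf
  have hbij := hW₀ V hhW _ (isGen_of_isFrame heV) _ hfV
  have ht : resR (π.preimage_mono hVU) t = R.t V (res L hVU e) (isGen_of_isFrame heV) :=
    R.t_res U V hVU e _ _
  have hres : ∀ c : Fin N → Γ(X, U.1), resR (π.preimage_mono hVU) (∑ j : Fin N, φ (c j) * t ^ (j : ℕ)) =
      CycCov.chart R V _ (isGen_of_isFrame heV) _ hfV (∑ j : Fin N,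
        AdjoinRoot.of _ (resR hVU (c j)) * AdjoinRoot.root _ ^ (j : ℕ)) := fun c => by
    simp only [map_sum, map_mul, map_pow, CycCov.chart, AdjoinRoot.lift_of, AdjoinRoot.lift_root, ht]
    exact Finset.sum_congr rfl fun j _ => by rw [res_app]
  have hindep : ∀ c : Fin N → Γ(X, V.1), ∑ j : Fin N, AdjoinRoot.of (Polynomial.X ^ N - Polynomial.C (resR hVU f))
      (c j) * AdjoinRoot.root _ ^ (j : ℕ) = 0 → c = 0 := fun c hc => by
    have hmon := Polynomial.monic_X_pow_sub_C (resR hVU f) hN.ne'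
    let b := (AdjoinRoot.powerBasis' hmon).basis
    have hdim : (AdjoinRoot.powerBasis' hmon).dim = N := by
      rw [AdjoinRoot.powerBasis'_dim, Polynomial.natDegree_X_pow_sub_C]
    funext j
    have hli := Fintype.linearIndependent_iff.1 b.linearIndependent (fun i => c (Fin.cast hdim i)) ?_ (Fin.cast hdim.symm j)
    · simpa using hli
    · rw [← hc, ← Equiv.sum_comp (finCongr hdim)]
      refine Finset.sum_congr rfl fun i _ => ?_
      rw [Algebra.smul_def, AdjoinRoot.algebraMap_eq, PowerBasis.basis_eq_pow, AdjoinRoot.powerBasis'_gen]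
      rfl
  refine ⟨R.pow_eq U e _ f hf, fun c hc => ?_, hnzd, fun x => ?_, ?_,
    fun q _ => (isDomain_localization hY hπU q).1, fun q _ => (isDomain_localization hY hπU q).2⟩
  · have h1 := hres c
    rw [hc, map_zero] at h1
    have h2 := hindep _ (hbij.1 (h1.symm.trans (map_zero _).symm))
    funext j
    exact resR_injective hVU ((congrFun h2 j).trans (map_zero (resR hVU)).symm)
  · obtain ⟨z, hz⟩ := hbij.2 (resR (π.preimage_mono hVU) x)
    obtain ⟨Q, rfl⟩ := AdjoinRoot.mk_surjective z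
    have hmon := Polynomial.monic_X_pow_sub_C (resR hVU f) hN.ne'
    let Q' := Q %ₘ (Polynomial.X ^ N - Polynomial.C (resR hVU f))
    have hQ : AdjoinRoot.mk (Polynomial.X ^ N - Polynomial.C (resR hVU f)) Q =
        ∑ j : Fin N, AdjoinRoot.of _ (Q'.coeff j) * AdjoinRoot.root _ ^ (j : ℕ) := by
      rw [← AdjoinRoot.mk_leftInverse hmon (AdjoinRoot.mk _ Q), AdjoinRoot.modByMonicHom_mk]
      refine (AdjoinRoot.aeval_eq Q').symm.trans ?_
      rw [Polynomial.aeval_def, Polynomial.eval₂_eq_sum, Polynomial.sum_over_range' _ (fun n => by simp) N ?_,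
        Finset.sum_range, AdjoinRoot.algebraMap_eq]
      rcases eq_or_ne Q' 0 with h0 | h0
      · rw [h0, Polynomial.natDegree_zero]; exact hN
      · refine (Polynomial.natDegree_lt_iff_degree_lt h0).2 ?_
        exact (Polynomial.degree_modByMonic_lt _ hmon).trans_eq (Polynomial.degree_X_pow_sub_C hN _)
    -- clear the denominators
    letI : Algebra Γ(X, U.1) Γ(X, X.basicOpen h) := (resR hVU).toAlgebra
    haveI : IsLocalization.Away h Γ(X, X.basicOpen h) := U.2.isLocalization_basicOpen h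
    obtain ⟨⟨_, n, rfl⟩, hn⟩ := IsLocalization.exist_integer_multiples_of_finite (Submonoid.powers h)
      (fun j : Fin N => (show Γ(X, X.basicOpen h) from Q'.coeff j))
    choose c hc using hn
    refine ⟨h ^ n, pow_ne_zero _ hh0, c, ?_⟩
    have hmap : resR (π.preimage_mono hVU) (φ (h ^ n) * x) =
        resR (π.preimage_mono hVU) (∑ j : Fin N, φ (c j) * t ^ (j : ℕ)) := by
      have hc' : ∀ j, resR hVU (c j) = resR hVU (h ^ n) * Q'.coeff j := fun j =>
        (hc j).trans (Algebra.smul_def _ _)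
      rw [hres, map_mul, res_app hVU, ← hz, hQ]
      simp only [hc', map_sum, map_mul, mul_assoc, Finset.mul_sum]
      refine Finset.sum_congr rfl fun j _ => ?_
      simp only [CycCov.chart, AdjoinRoot.lift_of]
    obtain ⟨m, hm⟩ := exists_pow_mul_eq hπU (φ h) (π.preimage_basicOpen h) (π.preimage_mono hVU) hmap
    refine sub_eq_zero.1 (hnzd (h ^ m) (pow_ne_zero _ hh0) _ ?_)
    rw [mul_sub, sub_eq_zero]
    exact (congrArg (· * _) (map_pow φ h m)).trans (hm.trans (congrArg (· * _) (map_pow φ h m).symm))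
  · exact (π.finite_app U.1 U.2).to_isIntegral

end Cover

end Groth.Agent.H44Cyc
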