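import Groth.Agent.H44Cyc.Chart
import Groth.Agent.H44LogNCD.Basic

/-! # The equation of the cover -/

universe u

open CategoryTheory AlgebraicGeometry TopologicalSpace Opposite

set_option backward.isDefEq.respectTransparency false

namespace Groth.Agent.H44Cyc

open Groth.Agent.AModX Groth.Agent.InvX

variable {X : Scheme.{u}} {L : X.Modules} {r : ℕ}

theorem ideal_finset_prod {ι : Type*} (t : Finset ι) (I : ι → X.IdealSheafData) (U : X.affineOpens) :
    (∏ i ∈ t, I i).ideal U = ∏ i ∈ t, (I i).ideal U := by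
  classical
  induction t using Finset.induction with
  | empty =>
    rw [Finset.prod_empty, Finset.prod_empty, show (1 : X.IdealSheafData) = ⊤ from rfl, Ideal.one_eq_top]
    rfl
  | insert a t ha ih => rw [Finset.prod_insert ha, Finset.prod_insert ha, ← ih]; rfl

theorem ideal_divIdeal (D : Fin r → X.IdealSheafData) (α : Fin r → ℕ) (U : X.affineOpens) :
    (CycCov.divIdeal D α).ideal U = ∏ j, (D j).ideal U ^ α j := by
  rw [CycCov.divIdeal, ideal_finset_prod]
  rfl

theorem ideal_divIdeal_span (D : Fin r → X.IdealSheafData) (α : Fin r → ℕ) {U : X.affineOpens}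
    {g : Fin r → Γ(X, U.1)} (hg : ∀ j, (D j).ideal U = Ideal.span {g j}) :
    (CycCov.divIdeal D α).ideal U = Ideal.span {∏ j, g j ^ α j} := by
  simp only [ideal_divIdeal, hg, Ideal.span_singleton_pow, Ideal.prod_span_singleton]

theorem ideal_divIdeal_eq_top (D : Fin r → X.IdealSheafData) (α : Fin r → ℕ) {U : X.affineOpens}
    (h : ∀ j, 0 < α j → ∀ y ∈ U.1, y ∉ (D j).support) : (CycCov.divIdeal D α).ideal U = ⊤ := by
  rw [ideal_divIdeal, ← Ideal.one_eq_top]
  refine Finset.prod_eq_one fun j _ => ?_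
  rcases Nat.eq_zero_or_pos (α j) with h0 | h0
  · rw [h0, pow_zero]
  · rw [H44LogNCD.ideal_eq_top_of_disjoint _ _ (h j h0), ← Ideal.one_eq_top, one_pow]

/-- The equation generates the ideal of the divisor. -/
theorem span_coord {N : ℕ} {s : Coh.structureModule X ⟶ CohB1.tensorPow L N} {I : X.IdealSheafData}
    (hs : CycCov.IsZeroDiv (CohB1.tensorPow L N) s I) {U : X.affineOpens} {e : Γ(L, U.1)} (he : IsFrame e)
    {f : Γ(X, U.1)} (hf : SecTwist.val s U.1 = f • CycCov.lpow L U.1 e N) :
    I.ideal U = Ideal.span {f} := by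
  let P := (CohB1.tensorPow L N).val.obj (op U.1)
  let F : P := CycCov.lpow L U.1 e N
  have hbij : Function.Bijective fun r : Γ(X, U.1) => r • F := by
    have h := isFrame_pw he N U.1 le_rfl
    simp only [res_self] at h
    rw [← lpow_eq] at h
    exact h
  have hU := hs U
  ext a
  have key : a • F ∈ I.ideal U • (⊤ : Submodule Γ(X, U.1) P) ↔ a ∈ I.ideal U := by
    refine ⟨fun h => ?_, fun h => Submodule.smul_mem_smul h trivial⟩
    have hle : I.ideal U • (⊤ : Submodule Γ(X, U.1) P) ≤
        Submodule.map (LinearMap.toSpanSingleton Γ(X, U.1) P F) (I.ideal U) := by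
      refine Submodule.smul_le.2 fun i hi p _ => ?_
      obtain ⟨r, rfl⟩ := hbij.2 p
      exact ⟨i * r, (I.ideal U).mul_mem_right r hi, mul_smul i r F⟩
    obtain ⟨i, hi, hiF⟩ := hle h
    exact hbij.1 (show i • F = a • F from hiF) ▸ hi
  rw [← key, ← hU, Submodule.mem_span_singleton, Ideal.mem_span_singleton']
  refine exists_congr fun c => ?_
  rw [hf, ← mul_smul]
  exact ⟨fun h => hbij.1 h, fun h => by rw [h]⟩

end Groth.Agent.H44Cyc
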