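import Groth.Agent.H44Cyc.Coord
import Groth.Agent.H44Cyc.Divisor
import Groth.Agent.H44LogNCD.Frame
import Groth.Agent.KZ.RegPerf
import Groth.Agent.RegUFD.Basic

/-! # Charts of a normal crossing divisor and factoriality along it -/

universe u

open CategoryTheory AlgebraicGeometry TopologicalSpace Opposite

set_option backward.isDefEq.respectTransparency false
set_option linter.style.haveILetI false
set_option linter.unusedSectionVars false

namespace Groth.Agent.H44Cyc

open Groth.Agent.AModX Groth.Agent.InvX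

variable {k : Type u} [Field k] {X : Scheme.{u}} (f : X ⟶ Spec (CommRingCat.of k)) [Smooth f] [IsIntegral X]
  {r : ℕ}

include f in
theorem isRegularRing_sections {U : X.Opens} (hU : IsAffineOpen U) : IsRegularRing Γ(X, U) := by
  haveI : IsLocallyNoetherian X := LocallyOfFiniteType.isLocallyNoetherian f
  exact KZ.isRegularRing_sections (fun y => GrpSchLib.isRegularLocalRing_stalk_of_smooth f y) hU

/-- An affine chart with principal transversal components. -/
structure Comp (D : Fin r → X.IdealSheafData) (U : X.affineOpens) (g : Fin r → Γ(X, U.1)) : Prop where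
  span : ∀ i, (D i).ideal U = Ideal.span {g i}
  ne : ∀ i, g i ≠ 0
  quot : ∀ i, IsRegularRing (Γ(X, U.1) ⧸ Ideal.span {g i})
  transversal : ∀ i j, i ≠ j → IsSMulRegular (Γ(X, U.1) ⧸ Ideal.span {g i}) (g j)

theorem exists_comp (D : Fin r → X.IdealSheafData) (hD : LogNCD.IsNCD D f) {L : X.Modules}
    (hL : PicF.IsInvertible L) {x : X} {O : X.Opens} (hx : x ∈ O) :
    ∃ (U : X.affineOpens) (e : Γ(L, U.1)) (g : Fin r → Γ(X, U.1)),
      x ∈ U.1 ∧ U.1 ≤ O ∧ IsFrame e ∧ Comp D U g ∧ ∀ i, x ∉ (D i).support → g i = 1 := by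
  classical
  have htriv : ∀ {A : Type u} [CommRing A], IsRegularRing (A ⧸ Ideal.span {(1 : A)}) := fun {A} _ => by
    haveI : Subsingleton (A ⧸ Ideal.span {(1 : A)}) :=
      Ideal.Quotient.subsingleton_iff.2 Ideal.span_singleton_one
    haveI : IsNoetherianRing (A ⧸ Ideal.span {(1 : A)}) := isNoetherian_of_finite _ _
    exact isRegularRing_iff.2 fun p hp => absurd (Subsingleton.elim p ⊤) hp.ne_top
  have hone : ∀ {A : Type u} [CommRing A] (a : A), IsSMulRegular (A ⧸ Ideal.span {(1 : A)}) a := fun {A} _ a => by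
    haveI : Subsingleton (A ⧸ Ideal.span {(1 : A)}) :=
      Ideal.Quotient.subsingleton_iff.2 Ideal.span_singleton_one
    exact fun _ _ _ => Subsingleton.elim _ _
  by_cases hth : Nonempty (LogNCD.Through D x)
  · obtain ⟨W, hxW, n, v, en, heinj, het, hin, hout⟩ := hD x hth
    obtain ⟨U, e, hxU, hle, he⟩ := exists_frame_le hL (show x ∈ O ⊓ W from ⟨hx, hxW⟩)
    haveI : Nonempty U.1 := ⟨⟨x, hxU⟩⟩
    have hUW : U.1 ≤ W := hle.trans inf_le_right
    let S := Spec (CommRingCat.of k)
    have hV : IsAffineOpen (⊤ : S.Opens) := isAffineOpen_top S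
    letI := (f.appLE ⊤ U.1 le_top).hom.toAlgebra
    have he0 := H44LogNCD.etale_aeval het U.2 hUW hV le_top
    let i₀ : CommRingCat.of k ≅ Γ(S, ⊤) := (Scheme.ΓSpecIso (CommRingCat.of k)).symm
    let ι₀ : k ≃+* Γ(S, ⊤) := i₀.commRingCatIsoToRingEquiv
    let ψ : MvPolynomial (ULift.{u} (Fin n)) k →+* Γ(X, U.1) :=
      (MvPolynomial.aeval (R := Γ(S, ⊤)) fun j => LogNCD.sectOn W hUW (v j)).toRingHom.comp
        (MvPolynomial.mapEquiv _ ι₀).toRingHom
    have hψ : ψ.Etale := RingHom.Etale.stableUnderComposition _ _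
      (RingHom.Etale.of_bijective (MvPolynomial.mapEquiv _ ι₀).bijective) he0
    have hψX : ∀ j, ψ (MvPolynomial.X j) = LogNCD.sectOn W hUW (v j) := fun j => by
      simp [ψ]
    obtain ⟨-, hreg⟩ := regular_of_etale ψ hψ
    let g : Fin r → Γ(X, U.1) := fun i =>
      if hi : x ∈ (D i).support then ψ (MvPolynomial.X (ULift.up (en ⟨i, hi⟩))) else 1
    have gpos : ∀ i (hi : x ∈ (D i).support), g i = ψ (MvPolynomial.X (ULift.up (en ⟨i, hi⟩))) :=
      fun i hi => dif_pos hi
    have gneg : ∀ i, x ∉ (D i).support → g i = 1 := fun i hi => dif_neg hi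
    clear_value g ψ
    refine ⟨U, e, g, hxU, hle.trans inf_le_left, he, ⟨fun i => ?_, fun i => ?_, fun i => ?_, fun i j hij => ?_⟩,
      gneg⟩
    · by_cases hi : x ∈ (D i).support
      · rw [gpos i hi, hψX]; exact hin ⟨i, hi⟩ U hUW
      · rw [gneg i hi]; rw [hout i hi U hUW, Ideal.span_singleton_one]
    · by_cases hi : x ∈ (D i).support
      · rw [gpos i hi]
        intro h0
        have h1 := (hreg (ULift.up (en ⟨i, hi⟩))).1
          (show ψ _ • (1 : Γ(X, U.1)) = ψ _ • (0 : Γ(X, U.1)) by rw [h0, zero_smul, zero_smul])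
        exact one_ne_zero h1
      · rw [gneg i hi]; exact one_ne_zero
    · by_cases hi : x ∈ (D i).support
      · rw [gpos i hi]; exact (hreg _).2.1
      · rw [gneg i hi]; exact htriv
    · by_cases hi : x ∈ (D i).support
      · by_cases hj : x ∈ (D j).support
        · rw [gpos i hi, gpos j hj]
          refine (hreg (ULift.up (en ⟨i, hi⟩))).2.2 (ULift.up (en ⟨j, hj⟩)) fun h => hij ?_
          exact (congrArg Subtype.val (heinj (congrArg ULift.down h))).symm
        · rw [gneg j hj]; exact IsSMulRegular.one _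
      · rw [gneg i hi]; exact hone _
  · have hcl : IsClosed (⋃ i, ((D i).support : Set X)) := isClosed_iUnion_of_finite fun i => (D i).support.isClosed
    have hxc : x ∈ (⋃ i, ((D i).support : Set X))ᶜ := by
      simp only [Set.mem_compl_iff, Set.mem_iUnion, not_exists]
      exact fun i hi => hth ⟨⟨i, hi⟩⟩
    obtain ⟨U, e, hxU, hle, he⟩ := exists_frame_le hL (show x ∈ O ⊓ ⟨_, hcl.isOpen_compl⟩ from ⟨hx, hxc⟩)
    haveI : Nonempty U.1 := ⟨⟨x, hxU⟩⟩
    refine ⟨U, e, fun _ => 1, hxU, hle.trans inf_le_left, he,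
      ⟨fun i => ?_, fun _ => one_ne_zero, fun _ => htriv, fun _ _ _ => hone _⟩, fun _ _ => rfl⟩
    rw [H44LogNCD.ideal_eq_top_of_disjoint _ _ fun y hy hyi => (hle hy).2 (Set.mem_iUnion.2 ⟨i, hyi⟩),
      Ideal.span_singleton_one]

variable {f} {D : Fin r → X.IdealSheafData} {U : X.affineOpens} {g : Fin r → Γ(X, U.1)}

/-- The germs of the equations are units or pairwise non-associated primes. -/
theorem Comp.prime_germ (hg : Comp D U g) {y : X} (hy : y ∈ U.1) :
    (∀ i, ¬ IsUnit (X.presheaf.germ U.1 y hy (g i)) → Prime (X.presheaf.germ U.1 y hy (g i))) ∧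
      ∀ i j, i ≠ j → ¬ IsUnit (X.presheaf.germ U.1 y hy (g i)) → ¬ IsUnit (X.presheaf.germ U.1 y hy (g j)) →
        ¬ Associated (X.presheaf.germ U.1 y hy (g i)) (X.presheaf.germ U.1 y hy (g j)) := by
  haveI : Nonempty U.1 := ⟨⟨y, hy⟩⟩
  letI : Algebra Γ(X, U.1) (X.presheaf.stalk y) := (X.presheaf.germ U.1 y hy).hom.toAlgebra
  let P := (U.2.primeIdealOf ⟨y, hy⟩).asIdeal
  haveI : IsLocalization.AtPrime (X.presheaf.stalk y) P := U.2.isLocalization_stalk ⟨y, hy⟩
  let γ : Γ(X, U.1) →+* X.presheaf.stalk y := algebraMap _ _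
  have hu : ∀ a, IsUnit (γ a) ↔ a ∉ P := fun a => IsLocalization.AtPrime.isUnit_to_map_iff _ P a
  have hdvd : ∀ a b, γ a ∣ γ b → ∃ w, w ∉ P ∧ a ∣ w * b := fun a b ⟨c, hc⟩ => by
    obtain ⟨⟨c', s⟩, hcs⟩ := IsLocalization.surj P.primeCompl c
    have h1 : γ (b * s) = γ (a * c') := by rw [map_mul, map_mul, hc, mul_assoc, hcs]
    obtain ⟨w, hw⟩ := IsLocalization.exists_of_eq (M := P.primeCompl) (S := X.presheaf.stalk y) h1
    exact ⟨w * s, (w * s).2, ⟨w * c', by linear_combination hw⟩⟩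
  refine ⟨fun i hi => ⟨?_, hi, fun a b hab => ?_⟩, fun i j hij hi hj hass => ?_⟩
  · exact fun h0 => hg.ne i (IsLocalization.injective (X.presheaf.stalk y)
      P.primeCompl_le_nonZeroDivisors (h0.trans (map_zero γ).symm))
  · obtain ⟨⟨a', s⟩, ha⟩ := IsLocalization.surj P.primeCompl a
    obtain ⟨⟨b', t⟩, hb⟩ := IsLocalization.surj P.primeCompl b
    change γ (g i) ∣ a * b at hab
    change γ (g i) ∣ a ∨ γ (g i) ∣ b
    have hsu : IsUnit (γ s) := IsLocalization.map_units _ s
    have htu : IsUnit (γ t) := IsLocalization.map_units _ t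
    obtain ⟨w, hw, hwd⟩ := hdvd (g i) (a' * b') (by
      rw [map_mul, ← ha, ← hb, mul_mul_mul_comm]
      exact hab.mul_right _)
    have hgi : g i ∈ P := by_contra fun h => hi ((hu _).2 h)
    haveI := hg.quot i
    let B := Γ(X, U.1) ⧸ Ideal.span {g i}
    let mk : Γ(X, U.1) →+* B := Ideal.Quotient.mk _
    haveI : (P.map mk).IsPrime := Ideal.map_isPrime_of_surjective Ideal.Quotient.mk_surjective
      (by rw [Ideal.mk_ker, Ideal.span_singleton_le_iff_mem]; exact hgi)
    haveI := RegLoc6.isDomain_of_isRegularLocalRing (Localization.AtPrime (P.map mk))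
    have hmem : ∀ c, mk c ∈ P.map mk → c ∈ P := fun c hc => by
      have h := Ideal.mem_comap.2 hc
      rw [Ideal.comap_map_of_surjective _ Ideal.Quotient.mk_surjective] at h
      refine (sup_le le_rfl ?_ : _ ≤ P) h
      rw [← RingHom.ker_eq_comap_bot, Ideal.mk_ker, Ideal.span_singleton_le_iff_mem]
      exact hgi
    let γB : B →+* Localization.AtPrime (P.map mk) := algebraMap _ _
    have h0 : γB (mk w) * (γB (mk a') * γB (mk b')) = 0 := by
      rw [← map_mul, ← map_mul, ← map_mul, ← map_mul,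
        show mk (w * (a' * b')) = 0 from Ideal.Quotient.eq_zero_iff_mem.2 (Ideal.mem_span_singleton.2 hwd), map_zero]
    have hwu : IsUnit (γB (mk w)) := IsLocalization.map_units _
      (⟨mk w, fun h => hw (hmem w h)⟩ : (P.map mk).primeCompl)
    have hfin : ∀ c, γB (mk c) = 0 → γ (g i) ∣ γ c := fun c hc => by
      obtain ⟨⟨u, huP⟩, hu0⟩ := (IsLocalization.map_eq_zero_iff (P.map mk).primeCompl _ _).1 hc
      obtain ⟨u', rfl⟩ := Ideal.Quotient.mk_surjective u
      have hu' : u' ∉ P := fun h => huP (Ideal.mem_map_of_mem mk h)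
      have hd : g i ∣ u' * c := Ideal.mem_span_singleton.1
        (Ideal.Quotient.eq_zero_iff_mem.1 (by rw [map_mul]; exact hu0))
      exact ((hu u').2 hu').dvd_mul_left.1 (by rw [← map_mul]; exact map_dvd γ hd)
    rcases mul_eq_zero.1 (hwu.mul_right_eq_zero.1 h0) with h | h
    · exact Or.inl (hsu.dvd_mul_right.1 (ha ▸ hfin a' h))
    · exact Or.inr (htu.dvd_mul_right.1 (hb ▸ hfin b' h))
  · obtain ⟨w, hw, c, hc⟩ := hdvd (g i) (g j) hass.dvd
    have h0 : g j • (Ideal.Quotient.mk (Ideal.span {g i}) w) = g j • 0 := by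
      rw [smul_zero]
      show Ideal.Quotient.mk _ (g j * w) = 0
      rw [mul_comm, hc, map_mul,
        show Ideal.Quotient.mk (Ideal.span {g i}) (g i) = 0 from
          Ideal.Quotient.eq_zero_iff_mem.2 (Ideal.mem_span_singleton_self _), zero_mul]
    have hmem := Ideal.Quotient.eq_zero_iff_mem.1 (hg.transversal i j hij h0)
    exact hw ((Ideal.span_singleton_le_iff_mem P).2 (by_contra fun h => hi ((hu _).2 h)) hmem)

end Groth.Agent.H44Cyc
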