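import Groth.Agent.GeomReg.Basic
import Mathlib.RingTheory.Etale.Basic
import Mathlib.RingTheory.TensorProduct.Quotient
import Mathlib.RingTheory.Flat.Basic
import Mathlib.RingTheory.MvPolynomial.Basic
import Mathlib.RingTheory.RegularLocalRing.Polynomial

/-! # Étale coordinates: regularity of coordinate hypersurfaces -/

universe u

namespace Groth.Agent.H44Cyc

open scoped TensorProduct
set_option linter.style.haveILetI false
open MvPolynomial

variable (k : Type u) [Field k] {σ : Type u} [Finite σ]

theorem regular_quot_X (i : σ) :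
    IsRegularRing (MvPolynomial σ k ⧸ Ideal.span {(X i : MvPolynomial σ k)}) ∧
      ∀ j, j ≠ i → IsSMulRegular (MvPolynomial σ k ⧸ Ideal.span {(X i : MvPolynomial σ k)})
        (X j : MvPolynomial σ k) := by
  classical
  let τ := {l : σ // l ≠ i}
  let r : MvPolynomial σ k →+* MvPolynomial τ k := eval₂Hom C fun l => if h : l = i then 0 else X ⟨l, h⟩
  let ι : MvPolynomial τ k →ₐ[k] MvPolynomial σ k := rename Subtype.val
  have hrι : ∀ q, r (ι q) = q := by
    have : r.comp ι.toRingHom = RingHom.id _ :=
      ringHom_ext (fun a => by simp [r, ι]) fun l => by simp [r, ι, l.2]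
    exact fun q => DFunLike.congr_fun this q
  have hdiff : ∀ q, q - ι (r q) ∈ Ideal.span {(X i : MvPolynomial σ k)} := fun q => by
    induction q using MvPolynomial.induction_on with
    | C a => simp [r, ι]
    | add p q hp hq =>
      rw [map_add, map_add, add_sub_add_comm]
      exact add_mem hp hq
    | mul_X p l hp =>
      rw [map_mul, map_mul]
      by_cases h : l = i
      · subst h
        simp [r, Ideal.mem_span_singleton]
      · have : ι (r (X l)) = X l := by simp [r, ι, h]
        rw [this, ← sub_mul]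
        exact Ideal.mul_mem_right _ _ hp
  have hker : RingHom.ker r = Ideal.span {(X i : MvPolynomial σ k)} := by
    refine le_antisymm (fun q hq => ?_) ((Ideal.span_singleton_le_iff_mem _).2 (by simp [r]))
    have h := hdiff q
    rwa [RingHom.mem_ker.1 hq, map_zero, sub_zero] at h
  let e : (MvPolynomial σ k ⧸ Ideal.span {(X i : MvPolynomial σ k)}) ≃+* MvPolynomial τ k :=
    (Ideal.quotEquivOfEq hker.symm).trans (RingHom.quotientKerEquivOfSurjective (f := r) fun q => ⟨ι q, hrι q⟩)
  have hP : IsRegularRing (MvPolynomial τ k) := MvPolynomial.isRegularRing_of_isRegularRing k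
  refine ⟨?_, fun j hj => ?_⟩
  · exact @IsRegularRing.of_ringEquiv (MvPolynomial τ k) _ _ _ e.symm hP
  refine isSMulRegular_iff_right_eq_zero_of_smul.mpr fun y hy => ?_
  obtain ⟨q, rfl⟩ := Ideal.Quotient.mk_surjective y
  change Ideal.Quotient.mk _ (X j * q) = 0 at hy
  rw [Ideal.Quotient.eq_zero_iff_mem, ← hker, RingHom.mem_ker, map_mul] at hy
  rw [Ideal.Quotient.eq_zero_iff_mem, ← hker, RingHom.mem_ker]
  refine (mul_eq_zero.1 hy).resolve_left ?_
  simp [r, hj]

variable {k}

/-- Étale coordinates cut out regular hypersurfaces meeting transversally. -/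
theorem regular_of_etale {A : Type u} [CommRing A] (ψ : MvPolynomial σ k →+* A) (hψ : ψ.Etale) :
    IsRegularRing A ∧ ∀ i, IsSMulRegular A (ψ (X i)) ∧ IsRegularRing (A ⧸ Ideal.span {ψ (X i)}) ∧
      ∀ j, j ≠ i → IsSMulRegular (A ⧸ Ideal.span {ψ (X i)}) (ψ (X j)) := by
  let P := MvPolynomial σ k
  letI : Algebra P A := ψ.toAlgebra
  haveI : Algebra.Etale P A := hψ
  refine ⟨GeomReg.isRegularRing_of_smooth P A, fun i => ⟨IsSMulRegular.of_flat (R := P)
    (isSMulRegular_iff_right_eq_zero_of_smul.mpr fun y hy =>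
      (mul_eq_zero.1 (show (X i : P) * y = 0 from hy)).resolve_left (X_ne_zero i)), ?_⟩⟩
  obtain ⟨hreg, hsm⟩ := regular_quot_X k i
  let I : Ideal P := Ideal.span {X i}
  have hI : I.map (algebraMap P A) = Ideal.span {ψ (X i)} := by
    rw [Ideal.map_span, Set.image_singleton]; rfl
  let e := Algebra.TensorProduct.quotIdealMapEquivTensorQuot A I
  haveI : IsRegularRing (P ⧸ I) := hreg
  haveI : IsRegularRing ((P ⧸ I) ⊗[P] A) := GeomReg.isRegularRing_of_smooth (P ⧸ I) _
  rw [← hI]
  refine ⟨IsRegularRing.of_ringEquiv (R := (P ⧸ I) ⊗[P] A)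
    ((Algebra.TensorProduct.comm P (P ⧸ I) A).toRingEquiv.trans e.symm.toRingEquiv), fun j hj => ?_⟩
  have hinj : Function.Injective ((LinearMap.lsmul P (P ⧸ I) (X j)).lTensor A) :=
    Module.Flat.lTensor_preserves_injective_linearMap _ (hsm j hj)
  refine isSMulRegular_iff_right_eq_zero_of_smul.mpr fun y hy => e.injective (hinj ?_)
  rw [map_zero e, map_zero]
  have hl : ∀ z : A ⊗[P] (P ⧸ I), (LinearMap.lsmul P (P ⧸ I) (X j)).lTensor A z = ψ (X j) • z := fun z => by
    induction z with
    | zero => rw [map_zero, smul_zero]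
    | tmul a b =>
      rw [LinearMap.lTensor_tmul, LinearMap.lsmul_apply, TensorProduct.tmul_smul, TensorProduct.smul_tmul']
      rfl
    | add x y hx hy => rw [map_add, smul_add, hx, hy]
  rw [hl, ← map_smul e, hy, map_zero]

end Groth.Agent.H44Cyc
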