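import Groth.Agent.H44Cyc.Algebra
import Mathlib.RingTheory.IntegralClosure.IntegrallyClosed
import Mathlib.RingTheory.Polynomial.IntegralNormalization

/-! # The functions on a normalised cyclic cover over an affine open, abstractly -/

universe u

namespace Groth.Agent.H44Cyc

open Polynomial

variable {A R : Type u} [CommRing A] [CommRing R]

/-- `R` is a normal finite cover of the domain `A`, generically `A[T]/(T^N - f)` through `T ↦ t`. -/
structure CovData (φ : A →+* R) (N : ℕ) (f : A) (t : R) : Prop where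
  root : t ^ N = φ f
  inj : ∀ c : Fin N → A, ∑ j : Fin N, φ (c j) * t ^ (j : ℕ) = 0 → c = 0
  nzd : ∀ b : A, b ≠ 0 → ∀ x : R, φ b * x = 0 → x = 0
  gen : ∀ x : R, ∃ b : A, b ≠ 0 ∧ ∃ c : Fin N → A, φ b * x = ∑ j : Fin N, φ (c j) * t ^ (j : ℕ)
  integral : φ.IsIntegral
  domain : ∀ (q : Ideal R) [q.IsPrime], IsDomain (Localization.AtPrime q)
  closed : ∀ (q : Ideal R) [q.IsPrime], IsIntegrallyClosed (Localization.AtPrime q)

namespace CovData

variable {φ : A →+* R} {N : ℕ} {f : A} {t : R}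

/-- The coordinates of a function in the eigenbasis satisfy the divisibility of the normalisation. -/
theorem coeff [IsDomain A] [IsIntegrallyClosed A] (h : CovData φ N f t) (hN : 0 < N) (hNA : IsUnit (N : A))
    {ζ : A} (hζ : IsPrimitiveRoot ζ N) {x : R} {b : A} (hb : b ≠ 0) {c : Fin N → A}
    (hc : φ b * x = ∑ j : Fin N, φ (c j) * t ^ (j : ℕ)) (j : Fin N) :
    b ^ N ∣ c j ^ N * f ^ (j : ℕ) := by
  classical
  let K := FractionRing A
  let a : A →+* K := algebraMap A K
  let P : K[X] := X ^ N - C (a f)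
  let P₀ : A[X] := X ^ N - C f
  let ev : AdjoinRoot P₀ →+* R := AdjoinRoot.lift φ t (by
    rw [eval₂_sub, eval₂_X_pow, eval₂_C, h.root, sub_self])
  let ι : AdjoinRoot P₀ →+* AdjoinRoot P := AdjoinRoot.lift ((AdjoinRoot.of P).comp a) (AdjoinRoot.root P) (by
    have h0 := AdjoinRoot.eval₂_root P
    rw [eval₂_sub, eval₂_X_pow, eval₂_C] at h0
    rw [eval₂_sub, eval₂_X_pow, eval₂_C]
    exact h0)
  have hevinj : Function.Injective ev := by
    rw [injective_iff_map_eq_zero]
    intro z hz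
    have hP₀ : P₀.Monic := monic_X_pow_sub_C f hN.ne'
    obtain ⟨Q, rfl⟩ := AdjoinRoot.mk_surjective z
    rw [← AdjoinRoot.mk_leftInverse hP₀ (AdjoinRoot.mk P₀ Q)] at hz ⊢
    generalize hQ' : AdjoinRoot.modByMonicHom hP₀ (AdjoinRoot.mk P₀ Q) = Q' at hz
    have hdeg : Q'.degree < N := by
      rw [← hQ', AdjoinRoot.modByMonicHom_mk]
      rcases subsingleton_or_nontrivial A with hA | hA
      · exact absurd (Subsingleton.elim b 0) hb
      · refine (degree_modByMonic_lt _ hP₀).trans_eq ?_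
        exact degree_X_pow_sub_C hN f
    have hQ0 : ev (AdjoinRoot.mk P₀ Q') = ∑ l : Fin N, φ (Q'.coeff l) * t ^ (l : ℕ) := by
      rw [AdjoinRoot.lift_mk, eval₂_eq_sum, sum_over_range' _ (fun n => by simp) N ?_,
        Finset.sum_range fun l => φ (Q'.coeff l) * t ^ l]
      rcases eq_or_ne Q' 0 with h0 | h0
      · rw [h0, natDegree_zero]; exact hN
      · exact (natDegree_lt_iff_degree_lt h0).2 hdeg
    rw [hQ0] at hz
    have hc0 := h.inj _ hz
    have : Q' = 0 := by
      ext l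
      rcases lt_or_ge l N with hl | hl
      · rw [coeff_zero]; exact congrFun hc0 ⟨l, hl⟩
      · rw [coeff_zero]; exact coeff_eq_zero_of_degree_lt (hdeg.trans_le (by exact_mod_cast hl))
    rw [this, map_zero]
  let z : AdjoinRoot P₀ := ∑ l : Fin N, AdjoinRoot.of P₀ (c l) * AdjoinRoot.root P₀ ^ (l : ℕ)
  have hevz : ev z = φ b * x := by
    simp only [z, map_sum, map_mul, map_pow, ev, AdjoinRoot.lift_of, AdjoinRoot.lift_root, hc]
  obtain ⟨q, hq, hqx⟩ := h.integral x
  have hz0 : eval₂ (AdjoinRoot.of P₀) z (scaleRoots q b) = 0 := by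
    refine hevinj ?_
    have he : ev.comp (AdjoinRoot.of P₀) = φ := RingHom.ext fun r => by simp [ev]
    rw [map_zero, hom_eval₂, hevz, he, scaleRoots_eval₂_mul, hqx, mul_zero]
  let y : AdjoinRoot P := ∑ l : Fin N, algebraMap K (AdjoinRoot P) (a (c l) / a b) * AdjoinRoot.root P ^ (l : ℕ)
  have hab : a b ≠ 0 := fun h0 => hb (IsFractionRing.injective A K (h0.trans (map_zero a).symm))
  have hιz : ι z = algebraMap A (AdjoinRoot P) b * y := by
    simp only [z, y, map_sum, map_mul, map_pow, ι, AdjoinRoot.lift_of, AdjoinRoot.lift_root, Finset.mul_sum,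
      IsScalarTower.algebraMap_apply A K (AdjoinRoot P), AdjoinRoot.algebraMap_eq, RingHom.comp_apply]
    refine Finset.sum_congr rfl fun l _ => ?_
    rw [← mul_assoc, ← map_mul, mul_div_cancel₀ _ hab]
  have hy : IsIntegral A y := by
    refine ⟨q, hq, ?_⟩
    have h1 := congrArg ι hz0
    rw [map_zero, hom_eval₂, hιz, show ι.comp (AdjoinRoot.of P₀) = algebraMap A (AdjoinRoot P) from
      RingHom.ext fun r => by
        rw [RingHom.comp_apply, AdjoinRoot.lift_of, IsScalarTower.algebraMap_apply A K (AdjoinRoot P)]; rfl,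
      scaleRoots_eval₂_mul] at h1
    refine (IsUnit.mul_right_eq_zero (IsUnit.pow _ ?_)).1 h1
    rw [IsScalarTower.algebraMap_apply A K (AdjoinRoot P)]
    exact (isUnit_iff_ne_zero.2 hab).map _
  have hj := coeff_isIntegral hN hNA (hζ.map_of_injective (IsFractionRing.injective A K)) f _ hy j
  obtain ⟨d, hd⟩ := IsIntegrallyClosed.isIntegral_iff.1 hj
  refine ⟨d, IsFractionRing.injective A K ?_⟩
  simp only [map_mul, map_pow]
  rw [hd, div_pow]
  show a (c j) ^ N * a f ^ (j : ℕ) = a b ^ N * (a (c j) ^ N / a b ^ N * a f ^ (j : ℕ))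
  rw [← mul_assoc, mul_div_cancel₀ _ (pow_ne_zero N hab)]

/-- Conversely such fractions are functions. -/
theorem exists_div (h : CovData φ N f t) (hN : 0 < N) {a b : A} (j : ℕ) (hb : b ≠ 0)
    (hdvd : b ^ N ∣ a ^ N * f ^ j) : ∃ y : R, φ b * y = φ a * t ^ j := by
  obtain ⟨d, hd⟩ := hdvd
  let p : R := φ a * t ^ j
  let I : Ideal R := (Ideal.span {φ b}).colon {p}
  suffices hI : I = ⊤ by
    have h1 : (1 : R) ∈ I := hI ▸ Submodule.mem_top
    rw [Submodule.mem_colon_singleton, smul_eq_mul, one_mul, Ideal.mem_span_singleton'] at h1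
    obtain ⟨y, hy⟩ := h1
    exact ⟨y, (mul_comm _ _).trans hy⟩
  by_contra hI
  obtain ⟨q, hq, hle⟩ := Ideal.exists_le_maximal I hI
  have := hq.isPrime
  let L := Localization.AtPrime q
  haveI : IsDomain L := h.domain q
  haveI : IsIntegrallyClosed L := h.closed q
  let g : R →+* L := algebraMap R L
  have hgb : g (φ b) ≠ 0 := fun h0 => by
    obtain ⟨⟨s, hs⟩, hs0⟩ := (IsLocalization.map_eq_zero_iff q.primeCompl L _).1 h0
    have hs1 : s = 0 := h.nzd b hb s (by rw [mul_comm]; exact hs0)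
    exact hs (hs1 ▸ q.zero_mem)
  have hp : (g p) ^ N = (g (φ b)) ^ N * g (φ d) := by
    rw [← map_pow, ← map_pow g (φ b), ← map_mul, mul_pow, ← pow_mul, mul_comm j N, pow_mul, h.root,
      ← map_pow, ← map_pow, ← map_mul, hd, map_mul, map_pow]
  obtain ⟨y, hy⟩ := (IsIntegrallyClosed.pow_dvd_pow_iff hN.ne').1 (Dvd.intro _ hp.symm : g (φ b) ^ N ∣ g p ^ N)
  obtain ⟨⟨r, s⟩, hrs⟩ := IsLocalization.surj q.primeCompl y
  have h2 : g (p * s) = g (φ b * r) := by
    rw [map_mul g, hy, map_mul g, mul_assoc, hrs]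
  obtain ⟨u, hu⟩ := IsLocalization.exists_of_eq (M := q.primeCompl) (S := L) h2
  have hmem : (u : R) * s ∈ I := by
    rw [Submodule.mem_colon_singleton, smul_eq_mul, Ideal.mem_span_singleton']
    exact ⟨u * r, by linear_combination -hu⟩
  exact (u * s : q.primeCompl).2 (hle hmem)

/-- A basis of the functions from the divisors of the eigen-sections. -/
theorem exists_basis [IsDomain A] [IsIntegrallyClosed A] (h : CovData φ N f t) (hN : 0 < N)
    (hNA : IsUnit (N : A)) {ζ : A} (hζ : IsPrimitiveRoot ζ N) (g : Fin N → A) (hg : ∀ j, g j ≠ 0)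
    (hdiv : ∀ j, g j ^ N ∣ f ^ (j : ℕ))
    (hmax : ∀ (j : Fin N) (a b : A), b ≠ 0 → b ^ N ∣ a ^ N * f ^ (j : ℕ) → b ∣ a * g j) :
    ∃ E : Fin N → R, (∀ j, φ (g j) * E j = t ^ (j : ℕ)) ∧
      Function.Bijective fun a : Fin N → A => ∑ j, φ (a j) * E j := by
  classical
  choose E hE using fun j : Fin N =>
    h.exists_div hN (a := 1) (b := g j) j (hg j) (by simpa using hdiv j)
  simp only [map_one, one_mul] at hE
  refine ⟨E, hE, fun a a' haa => ?_, fun x => ?_⟩
  · have h0 : ∑ j, φ ((a j - a' j) * ∏ l ∈ Finset.univ.erase j, g l) * t ^ (j : ℕ) = 0 := by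
      have h1 := congrArg (φ (∏ l, g l) * ·) (sub_eq_zero.2 haa)
      simp only [mul_zero, ← Finset.sum_sub_distrib, Finset.mul_sum, ← sub_mul, ← map_sub] at h1
      refine Eq.trans (Finset.sum_congr rfl fun j _ => ?_) h1
      rw [← hE j, ← Finset.mul_prod_erase Finset.univ g (Finset.mem_univ j)]
      simp only [map_mul]
      ring
    funext j
    exact sub_eq_zero.1 ((mul_eq_zero.1 (congrFun (h.inj _ h0) j)).resolve_right
      (Finset.prod_ne_zero_iff.2 fun l _ => hg l))
  · obtain ⟨b, hb, c, hc⟩ := h.gen x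
    choose a ha using fun j => hmax j (c j) b hb (h.coeff hN hNA hζ hb hc j)
    refine ⟨a, sub_eq_zero.1 (h.nzd b hb _ ?_)⟩
    rw [mul_sub, sub_eq_zero, hc, Finset.mul_sum]
    refine Finset.sum_congr rfl fun j _ => ?_
    rw [← mul_assoc, ← map_mul, ← ha j, map_mul, mul_assoc, hE j]

end CovData

end Groth.Agent.H44Cyc
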