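import Mathlib.RingTheory.Trace.Basic
import Mathlib.LinearAlgebra.Matrix.Charpoly.Coeff
import Mathlib.RingTheory.Nilpotent.Lemmas
import Mathlib.RingTheory.Ideal.Quotient.Nilpotent

/-! # Multiples of the ramified coordinate in the eigenbasis -/

universe u

namespace Groth.Agent.H44Cyc

variable {A B : Type u} [CommRing A] [CommRing B] [Algebra A B] {N : ℕ} [NeZero N] (b : Module.Basis (Fin N) A B)

/-- The coefficient of the unit in the eigenbasis is detected by the trace. -/
theorem trace_eq_coord (h0 : b 0 = 1) (hmul : ∀ i j, ∃ a : A, b i * b j = a • b (i + j)) (y : B) :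
    Algebra.trace A B y = (N : A) * b.repr y 0 := by
  classical
  have htr : ∀ k, k ≠ 0 → Algebra.trace A B (b k) = 0 := fun k hk => by
    rw [Algebra.trace_eq_matrix_trace b, Matrix.trace]
    refine Finset.sum_eq_zero fun j _ => ?_
    obtain ⟨a, ha⟩ := hmul k j
    rw [Matrix.diag_apply, Algebra.leftMulMatrix_eq_repr_mul, ha, map_smul, b.repr_self, Finsupp.smul_apply,
      Finsupp.single_eq_of_ne, smul_zero]
    intro hjk
    exact hk (left_eq_add.1 (show j = j + k by rw [add_comm]; exact hjk))
  conv_lhs => rw [← b.sum_repr y]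
  rw [map_sum, Finset.sum_eq_single 0 (fun k _ hk => by rw [map_smul, htr k hk, smul_zero])
    (fun hh => absurd (Finset.mem_univ _) hh), map_smul, h0, Algebra.trace_eq_matrix_trace b, map_one,
    Matrix.trace_one, Fintype.card_fin, smul_eq_mul, mul_comm]

include b in
/-- The trace of a nilpotent modulo a radical ideal lies in it. -/
theorem trace_mem_of_pow_mem (I : Ideal A) (hI : I.IsRadical) (y : B) {m : ℕ}
    (hy : y ^ m ∈ I.map (algebraMap A B)) : Algebra.trace A B y ∈ I := by
  classical
  let q := Ideal.Quotient.mk I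
  let φ : B →+* Matrix (Fin N) (Fin N) (A ⧸ I) := q.mapMatrix.comp (Algebra.leftMulMatrix b).toRingHom
  have hker : I.map (algebraMap A B) ≤ RingHom.ker φ := Ideal.map_le_iff_le_comap.2 fun a ha => by
    show φ (algebraMap A B a) = 0
    have : Algebra.leftMulMatrix b (algebraMap A B a) = algebraMap A (Matrix (Fin N) (Fin N) A) a :=
      AlgHom.commutes _ a
    simp only [φ, RingHom.comp_apply, AlgHom.toRingHom_eq_coe, RingHom.coe_coe, this]
    ext i j
    rw [RingHom.mapMatrix_apply, Matrix.map_apply, Matrix.algebraMap_matrix_apply, Matrix.zero_apply]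
    split_ifs
    · exact Ideal.Quotient.eq_zero_iff_mem.2 ha
    · exact map_zero q
  have hnil : IsNilpotent (φ y) := ⟨m, by rw [← map_pow]; exact hker hy⟩
  obtain ⟨l, hl⟩ := Matrix.isNilpotent_trace_of_isNilpotent hnil
  refine hI ⟨l, Ideal.Quotient.eq_zero_iff_mem.1 ?_⟩
  rw [map_pow, Algebra.trace_eq_matrix_trace b, show q (Algebra.leftMulMatrix b y).trace = (φ y).trace from AddMonoidHom.map_trace q.toAddMonoidHom _]
  exact hl

variable {h : A} {S v : B} {m : ℕ} (P : Fin N → Prop) [DecidablePred P]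

/-- The scaling of the eigenbasis. -/
def sigma (h : A) (i : Fin N) : A := if P i then h else 1

theorem coord_mem (h0 : b 0 = 1) (hmul : ∀ i j, ∃ a : A, b i * b j = a • b (i + j))
    (hN : IsUnit (N : A)) (hh : (Ideal.span {h}).IsRadical) (hm : 0 < m) (hv : IsUnit v)
    (hS : algebraMap A B h = v * S ^ m) (hP : ∀ i, P i → ∃ a : A, IsUnit a ∧ b i * b (-i) = a • 1)
    (y : B) (i : Fin N) (hi : P i) : h ∣ b.repr (S * y) i := by
  classical
  obtain ⟨u, hu, hui⟩ := hP i hi
  let z := S * y * b (-i)
  have hz : z ^ m ∈ (Ideal.span {h}).map (algebraMap A B) := by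
    rw [Ideal.map_span, Set.image_singleton, Ideal.mem_span_singleton, hS]
    refine hv.mul_left_dvd.2 ?_
    simp only [z, mul_pow]
    exact dvd_mul_of_dvd_left (dvd_mul_right _ _) _
  have h1 : Algebra.trace A B z ∈ Ideal.span {h} := trace_mem_of_pow_mem b _ hh z hz
  rw [trace_eq_coord b h0 hmul, Ideal.mem_span_singleton, hN.dvd_mul_left] at h1
  have h2 : b.repr z 0 = b.repr (S * y) i * u := by
    have hexp : z = ∑ k, b.repr (S * y) k • (b k * b (-i)) := by
      simp only [z]
      conv_lhs => rw [← b.sum_repr (S * y), Finset.sum_mul]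
      exact Finset.sum_congr rfl fun k _ => smul_mul_assoc _ _ _
    rw [hexp, map_sum, Finset.sum_apply', Finset.sum_eq_single i]
    · rw [hui, ← h0, map_smul, map_smul, b.repr_self, Finsupp.smul_apply, Finsupp.smul_apply,
        Finsupp.single_eq_same, smul_eq_mul, smul_eq_mul, mul_one]
    · intro k _ hk
      obtain ⟨a, ha⟩ := hmul k (-i)
      rw [ha, map_smul, map_smul, b.repr_self, Finsupp.smul_apply, Finsupp.smul_apply,
        Finsupp.single_eq_of_ne, smul_zero, smul_zero]
      exact fun e => hk (by rwa [eq_comm, ← sub_eq_add_neg, sub_eq_zero] at e)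
    · exact fun hh => absurd (Finset.mem_univ _) hh
  rw [h2] at h1
  exact hu.dvd_mul_right.1 h1

theorem sigma_mem (hm : 0 < m) (hS : algebraMap A B h = v * S ^ m) (hnP : ∀ i, ¬ P i → S ∣ b i) (i : Fin N) :
    S ∣ algebraMap A B (sigma P h i) * b i := by
  unfold sigma
  split_ifs with hi
  · rw [hS]
    exact dvd_mul_of_dvd_left (dvd_mul_of_dvd_right (dvd_pow_self S hm.ne') _) _
  · exact dvd_mul_of_dvd_right (hnP i hi) _

variable [IsDomain A]

/-- The scaled eigen-coordinates parametrise the multiples of the ramified coordinate. -/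
theorem exists_coordEquiv (h0 : b 0 = 1) (hmul : ∀ i j, ∃ a : A, b i * b j = a • b (i + j))
    (hN : IsUnit (N : A)) (hh : (Ideal.span {h}).IsRadical) (hh0 : h ≠ 0) (hm : 0 < m) (hv : IsUnit v)
    (hS : algebraMap A B h = v * S ^ m) (hSreg : ∀ y, S * y = 0 → y = 0)
    (hP : ∀ i, P i → ∃ a : A, IsUnit a ∧ b i * b (-i) = a • 1) (hnP : ∀ i, ¬ P i → S ∣ b i) :
    ∃ F : (Fin N → A) → B, Function.Bijective F ∧
      ∀ a, S * F a = ∑ i, algebraMap A B (a i * sigma P h i) * b i := by
  classical
  choose q hq using sigma_mem b P hm hS hnP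
  refine ⟨fun a => ∑ i, algebraMap A B (a i) * q i, ⟨fun a a' haa => ?_, fun y => ?_⟩, fun a => ?_⟩
  · funext i
    have hne : sigma P h i ≠ 0 := by unfold sigma; split_ifs <;> [exact hh0; exact one_ne_zero]
    have h1 := congrArg (fun z => b.repr (S * z) i) haa
    have h2 : ∀ a : Fin N → A, S * ∑ j, algebraMap A B (a j) * q j = ∑ j, (a j * sigma P h j) • b j := fun a => by
      rw [Finset.mul_sum]
      refine Finset.sum_congr rfl fun j _ => ?_
      rw [mul_left_comm, ← hq, Algebra.smul_def, map_mul, mul_assoc]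
    simp only [h2, b.repr_sum_self] at h1
    exact mul_right_cancel₀ hne h1
  · have hd : ∀ i, sigma P h i ∣ b.repr (S * y) i := fun i => by
      unfold sigma
      split_ifs with hi
      · exact coord_mem b P h0 hmul hN hh hm hv hS hP y i hi
      · exact one_dvd _
    choose a ha using hd
    refine ⟨a, sub_eq_zero.1 (hSreg _ ?_)⟩
    rw [mul_sub, sub_eq_zero, Finset.mul_sum]
    refine Eq.trans (Finset.sum_congr rfl fun i _ => ?_) (b.sum_repr (S * y))
    rw [mul_left_comm, ← hq, Algebra.smul_def, ha, map_mul]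
    ring
  · show S * ∑ i, algebraMap A B (a i) * q i = _
    rw [Finset.mul_sum]
    refine Finset.sum_congr rfl fun i _ => ?_
    rw [mul_left_comm, ← hq, map_mul, mul_assoc]

end Groth.Agent.H44Cyc
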