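import Groth.Agent.H44Cyc.Divisor
import Mathlib.AlgebraicGeometry.Morphisms.Etale

/-! # The cover is étale away from the branch divisor -/

universe u

open CategoryTheory AlgebraicGeometry TopologicalSpace Opposite Polynomial

set_option backward.isDefEq.respectTransparency false
set_option linter.style.haveILetI false

namespace Groth.Agent.H44Cyc

open Groth.Agent.AModX Groth.Agent.InvX

theorem etale_of_forall_app {X Y : Scheme.{u}} (π : Y ⟶ X) [IsAffineHom π] (W : X.Opens)
    (h : ∀ x ∈ W, ∃ U : X.affineOpens, x ∈ U.1 ∧ U.1 ≤ W ∧ (π.app U.1).hom.Etale) :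
    Etale (π ∣_ W) := by
  choose U hxU hUW hU using h
  have hcov : (⨆ w : W.toScheme, W.ι ⁻¹ᵁ (U w.1 w.2).1) = ⊤ :=
    eq_top_iff.2 fun w _ => Opens.mem_iSup.2 ⟨w, hxU w.1 w.2⟩
  refine IsZariskiLocalAtTarget.of_iSup_eq_top (P := @Etale) _ hcov fun w => ?_
  refine (MorphismProperty.arrow_mk_iso_iff @Etale (morphismRestrictRestrict π W _)).2 ?_
  rw [W.ι.image_preimage_eq_opensRange_inf, W.opensRange_ι, inf_eq_right.2 (hUW w.1 w.2)]
  haveI : IsAffine (U w.1 w.2).1.toScheme := (U w.1 w.2).2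
  haveI : IsAffine (π ⁻¹ᵁ (U w.1 w.2).1).toScheme := (U w.1 w.2).2.preimage π
  rw [HasRingHomProperty.iff_of_isAffine (P := @Etale), morphismRestrict_appTop]
  refine (RingHom.Etale.respectsIso.cancel_right_isIso _ _).2 ?_
  rw [Scheme.Opens.ι_image_top]
  exact hU w.1 w.2

theorem CovData.etale {A R : Type u} [CommRing A] [IsDomain A] [IsIntegrallyClosed A] [CommRing R]
    {φ : A →+* R} {N : ℕ} {f : A} {t : R} (h : CovData φ N f t) (hN : 0 < N) (hNA : IsUnit (N : A)) {ζ : A}
    (hζ : IsPrimitiveRoot ζ N) (hf : IsUnit f) : φ.Etale := by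
  classical
  obtain ⟨E, hE, hbij⟩ := h.exists_basis hN hNA hζ (fun _ => 1) (fun _ => one_ne_zero)
    (fun j => by rw [one_pow]; exact one_dvd _) fun j a b hb hdvd => by
      rw [mul_one]
      exact (IsIntegrallyClosed.pow_dvd_pow_iff hN.ne').1 ((hf.pow _).dvd_mul_right.1 hdvd)
  simp only [map_one, one_mul] at hE
  let P : A[X] := X ^ N - C f
  have hP : P.Monic := monic_X_pow_sub_C f hN.ne'
  let ev : AdjoinRoot P →+* R := AdjoinRoot.lift φ t (by
    rw [eval₂_sub, eval₂_X_pow, eval₂_C, h.root, sub_self])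
  have hdim : (AdjoinRoot.powerBasis' hP).dim = N := by
    rw [AdjoinRoot.powerBasis'_dim, natDegree_X_pow_sub_C]
  let b := ((AdjoinRoot.powerBasis' hP).basis).reindex (finCongr hdim)
  have hev : ∀ z, ev z = ∑ j, φ (b.equivFun z j) * E j := fun z => by
    conv_lhs => rw [← b.sum_equivFun z]
    rw [map_sum]
    refine Finset.sum_congr rfl fun j _ => ?_
    rw [Algebra.smul_def, map_mul, AdjoinRoot.algebraMap_eq, hE]
    refine congrArg₂ (· * ·) (AdjoinRoot.lift_of _) ?_
    rw [Module.Basis.reindex_apply, PowerBasis.basis_eq_pow, AdjoinRoot.powerBasis'_gen, map_pow,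
      AdjoinRoot.lift_root]
    rfl
  have hevbij : Function.Bijective ev :=
    (funext hev).symm ▸ (hbij.comp b.equivFun.bijective)
  haveI := etale_X_pow_sub_C hN hNA hf
  have hcomp : φ = ev.comp (algebraMap A (AdjoinRoot P)) := RingHom.ext fun a => by simp [ev]
  rw [hcomp]
  exact RingHom.Etale.stableUnderComposition _ _ (RingHom.etale_algebraMap.2 inferInstance)
    (RingHom.Etale.of_bijective hevbij)

end Groth.Agent.H44Cyc
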