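import Groth.Agent.H44Cyc.Algebra
import Groth.Agent.CycCovLib.Cyclic
import Mathlib.RingTheory.RingHom.Etale
import Mathlib.RingTheory.Etale.Kaehler
import Mathlib.RingTheory.Kaehler.Polynomial
import Mathlib.RingTheory.Localization.Algebra
import Mathlib.RingTheory.PolynomialAlgebra

/-! # Étale coordinates on the model of a cyclic cover -/

universe u

namespace Groth.Agent.H44Cyc

open scoped TensorProduct
open KaehlerDifferential

set_option linter.style.haveILetI false
set_option linter.unusedSectionVars false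

section Hypersurface

variable {P C L : Type u} [CommRing P] [CommRing C] [CommRing L] [Algebra P C] [Algebra P L] [Algebra C L]
  [IsScalarTower P C L]

/-- A hypersurface transversal to the single direction of a smooth family is formally étale. -/
theorem formallyEtale_hypersurface [Algebra.FormallySmooth P C] (hsurj : Function.Surjective (algebraMap C L))
    (F : C) (hker : RingHom.ker (algebraMap C L) = Ideal.span {F}) (e : Ω[C⁄P])
    (he : Function.Bijective fun c : C => c • e) (δ : C) (hδ : D P C F = δ • e)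
    (hu : IsUnit (algebraMap C L δ)) : Algebra.FormallyEtale P L := by
  classical
  let I := RingHom.ker (algebraMap C L)
  have hF : F ∈ I := (hker ▸ Ideal.mem_span_singleton_self F : F ∈ RingHom.ker (algebraMap C L))
  obtain ⟨δi, hδi⟩ := hsurj (↑(hu.unit⁻¹) : L)
  have hδδ : δ * δi - 1 ∈ I := by
    rw [RingHom.mem_ker, map_sub, map_mul, hδi, map_one, IsUnit.mul_val_inv, sub_self]
  let F' : I.Cotangent := I.toCotangent ⟨F, hF⟩
  have hann : ∀ (c : C) (z : I.Cotangent), c ∈ I → c • z = 0 := fun c z hc => by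
    obtain ⟨z, rfl⟩ := I.toCotangent_surjective z
    rw [← map_smul, Ideal.toCotangent_eq_zero]
    show c * (z : C) ∈ I ^ 2
    rw [pow_two]
    exact Ideal.mul_mem_mul hc z.2
  let E : C ≃ₗ[C] Ω[C⁄P] := LinearEquiv.ofBijective (LinearMap.toSpanSingleton C _ e) he
  let ψ₀ : Ω[C⁄P] →ₗ[C] I.Cotangent :=
    (LinearMap.toSpanSingleton C I.Cotangent (δi • F')).comp E.symm.toLinearMap
  let T : L →ₗ[C] C ⧸ I := ((Ideal.quotientKerAlgEquivOfSurjective (f := Algebra.ofId C L) hsurj).symm.toLinearMap)
  let act : (C ⧸ I) →ₗ[C] Ω[C⁄P] →ₗ[C] I.Cotangent :=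
    Submodule.liftQ I (LinearMap.toSpanSingleton C _ ψ₀) fun c hc => by
      rw [LinearMap.mem_ker, LinearMap.toSpanSingleton_apply]
      exact LinearMap.ext fun ω => hann c _ hc
  let l : L ⊗[C] Ω[C⁄P] →ₗ[C] I.Cotangent := TensorProduct.lift (act.comp T)
  have hl : ∀ ω, l (1 ⊗ₜ ω) = ψ₀ ω := fun ω => by
    simp only [l, TensorProduct.lift.tmul, LinearMap.comp_apply]
    rw [show T 1 = Submodule.Quotient.mk (1 : C) from map_one
      (Ideal.quotientKerAlgEquivOfSurjective (f := Algebra.ofId C L) hsurj).symm]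
    exact congrArg (fun φ : Ω[C⁄P] →ₗ[C] I.Cotangent => φ ω)
      ((Submodule.liftQ_apply I _ (h := _) (1 : C)).trans (one_smul C ψ₀))
  have hDF : ∀ c : C, (1 : L) ⊗ₜ[C] D P C (c * F) = (1 : L) ⊗ₜ[C] ((c * δ) • e) := fun c => by
    rw [Derivation.leibniz, hδ, TensorProduct.tmul_add, ← mul_smul, TensorProduct.tmul_smul (r := F),
      TensorProduct.smul_tmul' F, Algebra.smul_def F, show algebraMap C L F = 0 from hF, zero_mul,
      TensorProduct.zero_tmul, add_zero]
  have hsplit : l ∘ₗ kerCotangentToTensor P C L = LinearMap.id := by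
    refine LinearMap.ext fun z => ?_
    obtain ⟨⟨z, hz⟩, rfl⟩ := I.toCotangent_surjective z
    obtain ⟨c, rfl⟩ := Ideal.mem_span_singleton'.1 (hker ▸ hz : z ∈ Ideal.span {F})
    rw [LinearMap.comp_apply, kerCotangentToTensor_toCotangent, hDF, hl, LinearMap.id_apply]
    have h1 : ψ₀ ((c * δ) • e) = (c * δ) • δi • F' := by
      rw [LinearMap.comp_apply, show E.symm.toLinearMap ((c * δ) • e) = c * δ from E.symm_apply_apply (c * δ)]
      rfl
    rw [h1, ← mul_smul, show c * δ * δi = c + c * (δ * δi - 1) by ring, add_smul,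
      hann _ F' (I.mul_mem_left c hδδ), add_zero, ← map_smul]
    rfl
  haveI : Algebra.FormallySmooth P L := (Algebra.FormallySmooth.iff_split_injection hsurj).2 ⟨l, hsplit⟩
  have hunr : Subsingleton Ω[L⁄P] := by
    refine subsingleton_of_forall_eq 0 fun ω => ?_
    obtain ⟨x, rfl⟩ := mapBaseChange_surjective P C L hsurj ω
    suffices hx : x ∈ Set.range (kerCotangentToTensor P C L) from
      (exact_kerCotangentToTensor_mapBaseChange P C L hsurj x).2 hx
    induction x with
    | zero => exact ⟨0, map_zero _⟩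
    | add x y hx hy =>
      obtain ⟨a, rfl⟩ := hx
      obtain ⟨b, rfl⟩ := hy
      exact ⟨a + b, map_add _ a b⟩
    | tmul a ω =>
      obtain ⟨a, rfl⟩ := hsurj a
      obtain ⟨c, rfl⟩ := he.2 ω
      refine ⟨(a * c * δi) • F', ?_⟩
      rw [map_smul, kerCotangentToTensor_toCotangent, hδ, ← TensorProduct.tmul_smul, ← mul_smul,
        show a * c * δi * δ = a * c + (a * c) * (δ * δi - 1) by ring, add_smul, TensorProduct.tmul_add,
        TensorProduct.tmul_smul (r := a * c * (δ * δi - 1)), TensorProduct.smul_tmul', Algebra.smul_def (a * c * (δ * δi - 1)),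
        show algebraMap C L (a * c * (δ * δi - 1)) = 0 from I.mul_mem_left _ hδδ, zero_mul,
        TensorProduct.zero_tmul, add_zero, mul_smul, TensorProduct.tmul_smul (r := a),
        TensorProduct.smul_tmul' a, Algebra.smul_def a, mul_one]
  haveI : Algebra.FormallyUnramified P L := ⟨hunr⟩
  exact Algebra.FormallyEtale.of_formallyUnramified_and_formallySmooth

end Hypersurface

/-- Differentials of a formally étale algebra over a polynomial ring in one variable. -/
theorem bijective_smul_D_X {P C : Type u} [CommRing P] [CommRing C] [Algebra P C] [Algebra (Polynomial P) C]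
    [IsScalarTower P (Polynomial P) C] [Algebra.FormallyEtale (Polynomial P) C] :
    Function.Bijective fun c : C => c • D P C (algebraMap (Polynomial P) C Polynomial.X) := by
  let Φ : C ≃ₗ[C] Ω[C⁄P] := ((TensorProduct.AlgebraTensorModule.rid (Polynomial P) C C).symm.trans
    (TensorProduct.AlgebraTensorModule.congr (LinearEquiv.refl C C) (polynomialEquiv P).symm)).trans
      (tensorKaehlerEquivOfFormallyEtale P (Polynomial P) C)
  have h : (fun c : C => c • D P C (algebraMap (Polynomial P) C Polynomial.X)) = Φ := funext fun c => by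
    simp [Φ, mapBaseChange_tmul, map_D]
  rw [h]
  exact Φ.bijective

variable {R A : Type u} [CommRing R] [CommRing A] {σ : Type u}

open CycCovLib in
/-- Étale coordinates on the model: the equation of the component is replaced by its root. -/
theorem exists_etale_chart [Finite σ] (ψ : MvPolynomial σ R →+* A) (hψ : ψ.Etale) (e : σ) {g : ℕ} (hg : 0 < g)
    (hgA : IsUnit (g : A)) (u : Aˣ) {m i : ℕ} (hm : 0 < m) (q : Ideal (DD g u m i (ψ (MvPolynomial.X e))))
    [q.IsPrime] (hq : algebraMap A _ (ψ (MvPolynomial.X e)) ∈ q) :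
    ∃ δ : DD g u m i (ψ (MvPolynomial.X e)), δ ∉ q ∧
      ∀ (L : Type u) [CommRing L] [Algebra (DD g u m i (ψ (MvPolynomial.X e))) L] [IsLocalization.Away δ L]
        (ψ' : MvPolynomial σ R →+* L),
        (∀ a, ψ' (MvPolynomial.C a) = algebraMap _ L (algebraMap A (DD g u m i (ψ (MvPolynomial.X e))) (ψ (MvPolynomial.C a)))) →
        ψ' (MvPolynomial.X e) = algebraMap (DD g u m i (ψ (MvPolynomial.X e))) L (S g u m i (ψ (MvPolynomial.X e))) →
        (∀ j, j ≠ e → ψ' (MvPolynomial.X j) = algebraMap _ L (algebraMap A (DD g u m i (ψ (MvPolynomial.X e))) (ψ (MvPolynomial.X j)))) →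
          ψ'.Etale := by
  classical
  generalize hh : ψ (MvPolynomial.X e) = h at q hq ⊢
  let P := MvPolynomial σ R
  let C₀ := CycCovLib.CC g u
  let D₁ := DD g u m i h
  letI : Algebra P A := ψ.toAlgebra
  haveI : Algebra.Etale P A := hψ
  haveI : Algebra.Etale A C₀ := etale_X_pow_sub_C hg hgA u.isUnit
  let ψ0 : P →+* C₀ := (algebraMap A C₀).comp ψ
  have hψ0 : ψ0.Etale := RingHom.Etale.stableUnderComposition _ _ hψ (RingHom.etale_algebraMap.2 inferInstance)
  let Q := Polynomial P
  -- exchange the variables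
  let τ₀ : P →+* Q := MvPolynomial.eval₂Hom (Polynomial.C.comp MvPolynomial.C)
    fun j => if j = e then Polynomial.X else Polynomial.C (MvPolynomial.X j)
  let τ : Q →+* Q := Polynomial.eval₂RingHom τ₀ (Polynomial.C (MvPolynomial.X e))
  have hτC : ∀ p, τ (Polynomial.C p) = τ₀ p := fun p => Polynomial.eval₂_C _ _
  have hτX : τ Polynomial.X = Polynomial.C (MvPolynomial.X e) := Polynomial.eval₂_X _ _
  have hτ₀C : ∀ a, τ₀ (MvPolynomial.C a) = Polynomial.C (MvPolynomial.C a) :=
    fun a => MvPolynomial.eval₂Hom_C _ _ a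
  have hτ₀X : ∀ j, τ₀ (MvPolynomial.X j) = if j = e then Polynomial.X else Polynomial.C (MvPolynomial.X j) :=
    fun j => MvPolynomial.eval₂Hom_X' _ _ j
  have hττ : τ.comp τ = RingHom.id Q := by
    refine Polynomial.ringHom_ext (fun p => ?_) ?_
    · have : (τ.comp τ).comp Polynomial.C = (RingHom.id Q).comp Polynomial.C := by
        refine MvPolynomial.ringHom_ext (fun a => ?_) fun j => ?_
        · simp [hτC, hτ₀C]
        · by_cases hj : j = e <;> simp [hτC, hτX, hτ₀X, hj]
      exact DFunLike.congr_fun this p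
    · simp [hτX, hτC, hτ₀X]; rfl
  have hτ : τ.Etale := RingHom.Etale.of_bijective
    ⟨Function.LeftInverse.injective (g := τ) (DFunLike.congr_fun hττ),
      fun x => ⟨τ x, DFunLike.congr_fun hττ x⟩⟩
  have hmap : (Polynomial.mapRingHom ψ0).Etale := by
    letI : Algebra P C₀ := ψ0.toAlgebra
    haveI : Algebra.Etale P C₀ := hψ0
    letI : Algebra Q (Polynomial C₀) := Polynomial.algebra P C₀
    haveI : IsScalarTower P Q (Polynomial C₀) := IsScalarTower.of_algebraMap_eq fun p => by
      show algebraMap P (Polynomial C₀) p = Polynomial.mapRingHom (algebraMap P C₀) (Polynomial.C p)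
      simp [Polynomial.algebraMap_apply]
    haveI : Algebra.Etale Q (Polynomial C₀) :=
      Algebra.Etale.of_equiv (R := Q) (A := Q ⊗[P] C₀) (Algebra.IsPushout.equiv P Q C₀ (Polynomial C₀))
    exact RingHom.etale_algebraMap.2 ‹Algebra.Etale Q (Polynomial C₀)›
  let θ' : Q →+* Polynomial C₀ := (Polynomial.mapRingHom ψ0).comp τ
  have hθ' : θ'.Etale := RingHom.Etale.stableUnderComposition _ _ hτ hmap
  let C := Polynomial C₀
  letI : Algebra Q C := θ'.toAlgebra
  haveI : Algebra.Etale Q C := hθ'
  letI : Algebra P C := (θ'.comp Polynomial.C).toAlgebra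
  haveI : IsScalarTower P Q C := IsScalarTower.of_algebraMap_eq fun p => rfl
  have hQX : algebraMap Q C Polynomial.X = Polynomial.C (algebraMap A C₀ h) := by
    show θ' Polynomial.X = _
    simp [θ', hτX, ψ0, hh]
  have hPe : algebraMap P C (MvPolynomial.X e) = Polynomial.X := by
    show θ' (Polynomial.C (MvPolynomial.X e)) = _
    simp [θ', hτC, hτ₀X]
  have hPj : ∀ j, j ≠ e → algebraMap P C (MvPolynomial.X j) = Polynomial.C (algebraMap A C₀ (ψ (MvPolynomial.X j))) :=
    fun j hj => by
      show θ' (Polynomial.C (MvPolynomial.X j)) = _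
      simp [θ', hτC, hτ₀X, ψ0, hj]
  have hPC : ∀ a, algebraMap P C (MvPolynomial.C a) = Polynomial.C (algebraMap A C₀ (ψ (MvPolynomial.C a))) :=
    fun a => by
      show θ' (Polynomial.C (MvPolynomial.C a)) = _
      simp [θ', hτC, hτ₀C, ψ0]
  let F : C := Polynomial.X ^ m - Polynomial.C (AdjoinRoot.root _ ^ i * algebraMap A C₀ h)
  let wi : C := Polynomial.C (AdjoinRoot.root (Polynomial.X ^ g - Polynomial.C (u : A)) ^ i)
  have hFdef : F = Polynomial.X ^ m - wi * algebraMap Q C Polynomial.X := by
    rw [hQX, ← map_mul]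
  obtain ⟨c, hc⟩ := (bijective_smul_D_X (P := P) (C := C)).2 (D P C wi)
  let δ₀ : C := -(wi + algebraMap Q C Polynomial.X * c)
  have hDF : D P C F = δ₀ • D P C (algebraMap Q C Polynomial.X) := by
    rw [hFdef, map_sub, ← hPe, ← map_pow, Derivation.map_algebraMap, zero_sub, Derivation.leibniz, ← hc,
      ← mul_smul, neg_smul, add_smul]
  let π : C →+* D₁ := AdjoinRoot.mk _
  refine ⟨π δ₀, fun hmem => ?_, fun L _ _ _ ψ' hψC hψe hψj => ?_⟩
  · have h1 : π (algebraMap Q C Polynomial.X) = algebraMap A D₁ h := by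
      rw [hQX]
      exact AdjoinRoot.mk_C _
    rw [show π δ₀ = -(π wi + algebraMap A D₁ h * π c) by rw [← h1, ← map_mul, ← map_add, ← map_neg],
      neg_mem_iff] at hmem
    have h2 := (Ideal.add_mem_iff_left q (q.mul_mem_right _ hq)).1 hmem
    exact Ideal.IsPrime.ne_top ‹_› (q.eq_top_of_isUnit_mem h2
      (((isUnit_root (u := u) hg).pow i).map Polynomial.C |>.map π))
  · let Cl := Localization.Away δ₀
    let M := Submonoid.powers δ₀
    haveI : Algebra.FormallyEtale Q Cl := by
      haveI : Algebra.FormallyEtale C Cl := Algebra.FormallyEtale.of_isLocalization M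
      exact Algebra.FormallyEtale.comp Q C Cl
    haveI : Algebra.FinitePresentation Q Cl := by
      haveI : Algebra.FinitePresentation C Cl := IsLocalization.Away.finitePresentation δ₀
      exact Algebra.FinitePresentation.trans Q C Cl
    haveI : IsScalarTower P Q Cl := IsScalarTower.of_algebraMap_eq fun p => by
      rw [IsScalarTower.algebraMap_apply Q C Cl, IsScalarTower.algebraMap_apply P C Cl,
        ← IsScalarTower.algebraMap_apply P Q C]
    haveI : Algebra.FormallySmooth P Cl := Algebra.FormallySmooth.comp P Q Cl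
    have hT : Submonoid.map π M = Submonoid.powers (π δ₀) := Submonoid.map_powers π δ₀
    let μ : Cl →+* L := IsLocalization.map L π (hT ▸ M.le_comap_map)
    letI : Algebra Cl L := μ.toAlgebra
    letI : Algebra P L := ψ'.toAlgebra
    have hμ : ∀ x, μ (algebraMap C Cl x) = algebraMap D₁ L (π x) := fun x => IsLocalization.map_eq _ x
    have hπC : ∀ x, π (Polynomial.C (algebraMap A C₀ x)) = algebraMap A D₁ x := fun x => AdjoinRoot.mk_C _
    have hψ' : ψ' = μ.comp (algebraMap P Cl) := by
      refine MvPolynomial.ringHom_ext (fun a => ?_) fun j => ?_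
      · rw [RingHom.comp_apply, IsScalarTower.algebraMap_apply P C Cl, hμ, hPC, hπC, hψC]
      · rw [RingHom.comp_apply, IsScalarTower.algebraMap_apply P C Cl, hμ]
        by_cases hj : j = e
        · subst hj
          rw [hPe, hψe]
          exact congrArg _ AdjoinRoot.mk_X.symm
        · rw [hPj j hj, hπC, hψj j hj]
    haveI : IsScalarTower P Cl L := IsScalarTower.of_algebraMap_eq fun p => DFunLike.congr_fun hψ' p
    haveI : IsLocalization (M.map π) L := hT ▸ ‹IsLocalization.Away (π δ₀) L›
    have hsurj : Function.Surjective (algebraMap Cl L) :=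
      IsLocalization.map_surjective_of_surjective M Cl (g := π) L AdjoinRoot.mk_surjective
    have hker : RingHom.ker (algebraMap Cl L) = Ideal.span {algebraMap C Cl F} := by
      show RingHom.ker μ = _
      rw [IsLocalization.ker_map (S := Cl) L π hT, show RingHom.ker π = Ideal.span {F} from Ideal.mk_ker,
        Ideal.map_span, Set.image_singleton]
    haveI : IsScalarTower P P Cl := IsScalarTower.of_algebraMap_eq fun _ => rfl
    have hD : D P Cl (algebraMap C Cl F) = algebraMap C Cl δ₀ • D P Cl (algebraMap Q Cl Polynomial.X) := by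
      rw [← map_D P P C Cl F, hDF, map_smul, map_D, IsScalarTower.algebraMap_apply Q C Cl,
        ← IsScalarTower.algebraMap_smul Cl δ₀]
    have hu : IsUnit (algebraMap Cl L (algebraMap C Cl δ₀)) :=
      (IsLocalization.Away.algebraMap_isUnit (S := Cl) δ₀).map _
    haveI := formallyEtale_hypersurface (P := P) hsurj _ hker _ bijective_smul_D_X _ hD hu
    haveI : Algebra.FinitePresentation P L := by
      haveI : Algebra.FinitePresentation P Cl := Algebra.FinitePresentation.trans P Q Cl
      exact Algebra.FinitePresentation.of_surjective (f := IsScalarTower.toAlgHom P Cl L) hsurj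
        ⟨{algebraMap C Cl F}, by rw [Finset.coe_singleton]; exact hker.symm⟩
    have hLet : Algebra.Etale P L := ⟨inferInstance, inferInstance⟩
    exact hLet

end Groth.Agent.H44Cyc
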