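import Groth.Agent.H44Cyc.NCDUp
import Groth.Agent.H44LogNCD.Free
import Groth.Agent.H44Cyc.Etale
import Mathlib.RingTheory.Smooth.StandardSmoothCotangent

/-! # Charts of the cover adapted to the logarithmic differentials -/

universe u

open CategoryTheory AlgebraicGeometry TopologicalSpace Opposite

set_option backward.isDefEq.respectTransparency false
set_option linter.style.haveILetI false
set_option linter.unusedSectionVars false

namespace Groth.Agent.H44Cyc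

open Groth.Agent.AModX Groth.Agent.InvX

theorem li_map_of_formallyEtale {R A B E : Type u} [CommRing R] [CommRing A] [CommRing B] [CommRing E]
    [Algebra R A] [Algebra R B] [Algebra R E] [Algebra A B] [Algebra A E] [Algebra B E] [IsScalarTower R A B]
    [IsScalarTower R A E] [IsScalarTower R B E] [IsScalarTower A B E] [Algebra.FormallyEtale A E]
    (hinj : Function.Injective (algebraMap B E)) {ι : Type*} (b : Module.Basis ι A (Ω[A⁄R])) :
    LinearIndependent B fun l => KaehlerDifferential.map R R A B (b l) := by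
  let μ := KaehlerDifferential.map R R B E
  have hcomp : ∀ z, μ (KaehlerDifferential.map R R A B z) = KaehlerDifferential.map R R A E z := by
    intro z
    have hz : z ∈ Submodule.span A (Set.range (KaehlerDifferential.D R A)) := by
      rw [KaehlerDifferential.span_range_derivation]; trivial
    induction hz using Submodule.span_induction with
    | mem y hy =>
      obtain ⟨a, rfl⟩ := hy
      simp only [μ, KaehlerDifferential.map_D, ← IsScalarTower.algebraMap_apply]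
    | zero => simp
    | add a b _ _ ha hb => simp [ha, hb]
    | smul t a _ ha =>
      rw [LinearMap.map_smul, ← IsScalarTower.algebraMap_smul B t (KaehlerDifferential.map R R A B a), μ.map_smul,
        IsScalarTower.algebraMap_smul, ha, LinearMap.map_smul]
  let e := (b.baseChange E).map (KaehlerDifferential.tensorKaehlerEquivOfFormallyEtale R A E)
  have he : ∀ l, e l = KaehlerDifferential.map R R A E (b l) := fun l => by
    rw [Module.Basis.map_apply, Module.Basis.baseChange_apply,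
      KaehlerDifferential.tensorKaehlerEquivOfFormallyEtale_apply, KaehlerDifferential.mapBaseChange_tmul, one_smul]
  refine LinearIndependent.of_comp μ ?_
  rw [show μ ∘ (fun l => KaehlerDifferential.map R R A B (b l)) = ⇑e from
    funext fun l => (hcomp _).trans (he l).symm]
  refine e.linearIndependent.restrict_scalars fun r r' hr => hinj ?_
  simpa [Algebra.smul_def] using hr

variable {X S : Scheme.{u}} {f : X ⟶ S} {Ω' : X.Modules} {d : OmegaSh.Der f Ω'} {r : ℕ}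
  {D : Fin r → X.IdealSheafData}

/-- A basis adapted to the equations, with its denominators. -/
theorem exists_log_basis_smul (Λ : LogNCD.LogMod d D) {U : X.affineOpens} {g : Fin r → Γ(X, U.1)}
    (hg : ∀ i, (D i).ideal U = Ideal.span {g i}) {n : ℕ} (b : Module.Basis (Fin n) Γ(X, U.1) Γ(Ω', U.1))
    {T : Type*} (toF : T → Fin r) (e : T → Fin n) (he : Function.Injective e)
    (hcoord : ∀ t, d.app U.1 (g (toF t)) = b (e t)) (hreg : ∀ t, IsSMulRegular Γ(X, U.1) (g (toF t)))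
    (hone : ∀ i, (∀ t, toF t ≠ i) → g i = 1) :
    ∃ (BX : Module.Basis (Fin n) Γ(X, U.1) Γ(Λ.L, U.1)) (w : Fin n → Γ(X, U.1)),
      (∀ j, w j • BX j = Λ.ι.app U.1 (b j)) ∧ (∀ t, w (e t) = g (toF t)) ∧
      ∀ j, (∀ t, e t ≠ j) → w j = 1 := by
  classical
  obtain ⟨-, dl, hdl, hgen, -⟩ := H44LogNCD.rule' Λ hg
  let B : Fin n → Γ(Λ.L, U.1) := Function.extend e (fun t => dl (toF t)) fun j => Λ.ι.app U.1 (b j)
  let w : Fin n → Γ(X, U.1) := Function.extend e (fun t => g (toF t)) fun _ => 1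
  have hwB : ∀ j, w j • B j = Λ.ι.app U.1 (b j) := fun j => by
    by_cases h : ∃ t, e t = j
    · obtain ⟨t, rfl⟩ := h
      simp only [B, w, he.extend_apply]
      rw [hdl, hcoord]
    · simp only [B, w, Function.extend_apply' _ _ _ h, one_smul]
  have hwreg : ∀ j, IsSMulRegular Γ(X, U.1) (w j) := fun j => by
    by_cases h : ∃ t, e t = j
    · obtain ⟨t, rfl⟩ := h; simp only [w, he.extend_apply]; exact hreg t
    · simp only [w, Function.extend_apply' _ _ _ h]; exact IsSMulRegular.one Γ(X, U.1)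
  have hli : LinearIndependent Γ(X, U.1) B := by
    rw [Fintype.linearIndependent_iff]
    intro c hc j
    have h1 : Λ.ι.app U.1 (∑ k, (c k * ∏ l ∈ Finset.univ.erase k, w l) • b k) = 0 := by
      rw [map_sum, ← smul_zero (∏ l, w l : Γ(X, U.1)), ← hc, Finset.smul_sum]
      refine Finset.sum_congr rfl fun k _ => ?_
      rw [Scheme.Modules.Hom.app_smul, ← hwB, smul_smul, smul_smul,
        ← Finset.mul_prod_erase _ _ (Finset.mem_univ k)]
      congr 1
      ring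
    haveI := Λ.mono
    have h2 := Fintype.linearIndependent_iff.1 b.linearIndependent _
      (QCoh.app_injective Λ.ι U.1 (h1.trans (map_zero _).symm)) j
    have hP : IsSMulRegular Γ(X, U.1) (∏ l ∈ Finset.univ.erase j, w l) :=
      Finset.prod_induction _ (fun a => IsSMulRegular Γ(X, U.1) a) (fun _ _ => IsSMulRegular.mul)
        (IsSMulRegular.one Γ(X, U.1)) fun l _ => hwreg l
    exact hP (by simpa [mul_comm] using h2)
  have hsp : ⊤ ≤ Submodule.span Γ(X, U.1) (Set.range B) := by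
    intro z _
    obtain ⟨ω, c, rfl⟩ := hgen z
    refine Submodule.add_mem _ ?_ (Submodule.sum_mem _ fun i _ => Submodule.smul_mem _ _ ?_)
    · rw [← b.sum_repr ω, map_sum]
      refine Submodule.sum_mem _ fun j _ => ?_
      rw [Scheme.Modules.Hom.app_smul, ← hwB]
      exact Submodule.smul_mem _ _ (Submodule.smul_mem _ _ (Submodule.subset_span ⟨j, rfl⟩))
    · by_cases h : ∃ t, toF t = i
      · obtain ⟨t, rfl⟩ := h
        exact Submodule.subset_span ⟨e t, he.extend_apply _ _ t⟩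
      · push Not at h
        have h0 : dl i = 0 := by
          have := hdl i
          rwa [hone i h, one_smul, H44LogNCD.d_app_one, map_zero] at this
        rw [h0]
        exact Submodule.zero_mem _
  refine ⟨Module.Basis.mk hli hsp, w, fun j => by rw [Module.Basis.mk_apply]; exact hwB j,
    fun t => he.extend_apply _ _ t, fun j hj => Function.extend_apply' _ _ _ (not_exists.2 hj)⟩

/-- A free frame of the differentials of a smooth morphism on a small affine open. -/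
theorem exists_free_omega (hd : OmegaSh.IsUniversal d) [Smooth f] {x : X} {O : X.Opens} (hx : x ∈ O) :
    ∃ (U : X.affineOpens) (n : ℕ), x ∈ U.1 ∧ U.1 ≤ O ∧ Nonempty (Module.Basis (Fin n) Γ(X, U.1) Γ(Ω', U.1)) := by
  obtain ⟨V, hV, U₀, hU₀, hxU₀, e₀, hstd⟩ := Smooth.exists_isStandardSmooth f x
  obtain ⟨a, ha, hxa⟩ := hU₀.exists_basicOpen_le ⟨x, hx⟩ hxU₀
  let φ := (f.appLE V (X.basicOpen a) ((X.basicOpen_le a).trans e₀)).hom
  have hφ : φ.IsStandardSmooth := by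
    letI := (X.presheaf.map (homOfLE (X.basicOpen_le a)).op).hom.toAlgebra
    haveI : IsLocalization.Away a Γ(X, X.basicOpen a) := hU₀.isLocalization_basicOpen a
    have h := RingHom.isStandardSmooth_stableUnderCompositionWithLocalizationAway.right
      (T := Γ(X, X.basicOpen a)) a _ hstd
    convert! h using 1
    exact congrArg CommRingCat.Hom.hom (Scheme.Hom.appLE_map f e₀ (homOfLE (X.basicOpen_le a)).op).symm
  letI := φ.toAlgebra
  haveI : Algebra.IsStandardSmooth Γ(S, V) Γ(X, X.basicOpen a) := hφ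
  haveI : Nontrivial Γ(X, X.basicOpen a) := (X.presheaf.germ _ x hxa).hom.domain_nontrivial
  obtain ⟨E, -⟩ := H44LogNCD.exists_omega_equiv hd (hU₀.basicOpen a) hV ((X.basicOpen_le a).trans e₀)
  let b := Module.Free.chooseBasis Γ(X, X.basicOpen a) (Ω[Γ(X, X.basicOpen a)⁄Γ(S, V)])
  haveI := Module.Free.ChooseBasisIndex.fintype Γ(X, X.basicOpen a) (Ω[Γ(X, X.basicOpen a)⁄Γ(S, V)])
  exact ⟨⟨_, hU₀.basicOpen a⟩, _, hxa, ha, ⟨(b.reindex (Fintype.equivFin _)).map E.symm⟩⟩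

variable {k : Type u} [Field k] [IsAlgClosed k] {Y : Scheme.{u}} [IsIntegral X] {L : X.Modules} {N : ℕ}
  {s : Coh.structureModule X ⟶ CohB1.tensorPow L N} {π : Y ⟶ X}

/-- The data of a chart of the cover adapted to the logarithmic differentials. -/
structure LogCh {φ : X ⟶ Spec (CommRingCat.of k)} {ΩX : X.Modules} {dX : OmegaSh.Der φ ΩX}
    (π : Y ⟶ X) [IsAffineHom π] (α : Fin r → ℕ) (ΛX : LogNCD.LogMod dX D) (U : X.affineOpens) where
  g : Fin r → Γ(X, U.1)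
  span : ∀ i, (D i).ideal U = Ideal.span {g i}
  h : Γ(X, U.1)
  h_ne : h ≠ 0
  g_eq : ∀ i, g i = h ∨ g i = 1
  /-- the multiplicity of the root -/
  m : ℕ
  m_unit : IsUnit (m : Γ(Y, π ⁻¹ᵁ U.1))
  m_pos : 0 < m
  S : Γ(Y, π ⁻¹ᵁ U.1)
  W : Γ(Y, π ⁻¹ᵁ U.1)
  g₀ : ℕ
  g₀_unit : IsUnit (g₀ : Γ(Y, π ⁻¹ᵁ U.1))
  u : Γ(X, U.1)
  W_unit : IsUnit W
  W_pow : W ^ g₀ = (π.app U.1).hom u
  v : Γ(Y, π ⁻¹ᵁ U.1)
  v_unit : IsUnit v
  v_gen : ∀ p : Γ(Y, π ⁻¹ᵁ U.1) → Prop, (∀ a b, p a → p b → p (a * b)) →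
    (∀ a, p ((π.app U.1).hom a)) → p W → p v
  h_eq : (π.app U.1).hom h = v * S ^ m
  gY : Fin r → Γ(Y, π ⁻¹ᵁ U.1)
  spanY : ∀ i, (((D i).comap π).radical).ideal ⟨π ⁻¹ᵁ U.1, U.2.preimage π⟩ = Ideal.span {gY i}
  gY_eq : ∀ i, (g i = h ∧ gY i = S) ∨ (g i = 1 ∧ gY i = 1)
  S_cases : (∃ i, g i = h ∧ gY i = S) ∨ (h = 1 ∧ ∀ i, g i = 1)
  gen : ∀ p : Γ(Y, π ⁻¹ᵁ U.1) → Prop, (∀ a b, p a → p b → p (a + b)) → (∀ a b, p a → p b → p (a * b)) →
    (∀ a, p ((π.app U.1).hom a)) → p W → p S → ∀ x, p x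
  nzd : ∀ a : Γ(X, U.1), a ≠ 0 → ∀ x, (π.app U.1).hom a * x = 0 → x = 0
  etale : ((π.app (X.basicOpen h)).hom.comp (resR (X.basicOpen_le h))).FormallyEtale
  n : ℕ
  b : Module.Basis (Fin n) Γ(X, U.1) Γ(ΩX, U.1)
  BX : Module.Basis (Fin n) Γ(X, U.1) Γ(ΛX.L, U.1)
  w : Fin n → Γ(X, U.1)
  w_smul : ∀ j, w j • BX j = ΛX.ι.app U.1 (b j)
  w_eq : ∀ j, w j = h ∨ w j = 1
  h_rad : (Ideal.span {h}).IsRadical
  cases : (∃ i₀ l₀, g i₀ = h ∧ gY i₀ = S ∧ (∀ i, i ≠ i₀ → g i = 1) ∧ w l₀ = h ∧ b l₀ = dX.app U.1 h ∧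
      ∀ l, l ≠ l₀ → w l = 1) ∨ ((∀ i, g i = 1) ∧ ∀ l, w l = 1)

variable {R : CycCov.Root L N s π} {α : Fin r → ℕ}

theorem formallyEtale_app (φ : X ⟶ Spec (CommRingCat.of k)) [Smooth φ] (hL : PicF.IsInvertible L) (hN : 0 < N)
    (hNk : (N : k) ≠ 0) (hR : CycCov.IsCover R) {U : X.affineOpens} {e : Γ(L, U.1)} (he : IsFrame e)
    {F h : Γ(X, U.1)} (hf : SecTwist.val s U.1 = F • CycCov.lpow L U.1 e N) (hh : h ≠ 0)
    (hF : IsUnit (resR (X.basicOpen_le h) F)) :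
    ((π.app (X.basicOpen h)).hom.comp (resR (X.basicOpen_le h))).FormallyEtale := by
  let V : X.affineOpens := X.affineBasicOpen h
  have hVU : V.1 ≤ U.1 := X.basicOpen_le h
  haveI : Nonempty V.1 := by
    by_contra hne
    exact hh ((basicOpen_eq_bot_iff h).1 (eq_bot_iff.2 fun y hy => absurd ⟨⟨y, hy⟩⟩ hne))
  obtain ⟨hNA, ζ, hζ⟩ := exists_primitiveRoot φ hNk V.1
  haveI := isIntegrallyClosed_sections φ V.2
  have h1 := (covData hL hN hR V (he.res hVU) (val_eq_res hVU hf)).etale hN hNA hζ hF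
  letI : Algebra Γ(X, U.1) Γ(X, X.basicOpen h) := (resR hVU).toAlgebra
  haveI : IsLocalization.Away h Γ(X, X.basicOpen h) := U.2.isLocalization_basicOpen h
  haveI : Algebra.Etale Γ(X, U.1) Γ(X, X.basicOpen h) := Algebra.Etale.of_isLocalizationAway h
  have h2 : ((π.app V.1).hom.comp (resR hVU)).Etale :=
    RingHom.Etale.stableUnderComposition _ _
      (RingHom.etale_algebraMap.2 ‹Algebra.Etale Γ(X, U.1) Γ(X, X.basicOpen h)› :) h1
  letI := ((π.app (X.basicOpen h)).hom.comp (resR (X.basicOpen_le h))).toAlgebra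
  haveI : Algebra.Etale Γ(X, U.1) Γ(Y, π ⁻¹ᵁ X.basicOpen h) := h2
  exact inferInstanceAs (Algebra.FormallyEtale Γ(X, U.1) Γ(Y, π ⁻¹ᵁ X.basicOpen h))

/-- The generators of the functions over a chart with one equation. -/
theorem exists_model_data [IsAffineHom π] (φ : X ⟶ Spec (CommRingCat.of k)) [Smooth φ] (hL : PicF.IsInvertible L)
    (hN : 0 < N) (hNk : (N : k) ≠ 0) (hR : CycCov.IsCover R) (U : X.affineOpens) [Nonempty U.1] {e : Γ(L, U.1)}
    (he : IsFrame e) {F : Γ(X, U.1)} (hf : SecTwist.val s U.1 = F • CycCov.lpow L U.1 e N)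
    {h : Γ(X, U.1)} (hh : h ≠ 0) [IsRegularRing (Γ(X, U.1) ⧸ Ideal.span {h})] (wu : (Γ(X, U.1))ˣ) {a : ℕ}
    (hFh : F = (wu : Γ(X, U.1)) * h ^ a)
    (hmax : ∀ (j : Fin N) (a' b : Γ(X, U.1)), b ≠ 0 → b ^ N ∣ a' ^ N * F ^ (j : ℕ) →
      b ∣ a' * h ^ ((j : ℕ) * a / N)) :
    ∃ (g₀ m : ℕ) (S W v : Γ(Y, π ⁻¹ᵁ U.1)), 0 < m ∧ IsUnit (m : Γ(Y, π ⁻¹ᵁ U.1)) ∧
      IsUnit (g₀ : Γ(Y, π ⁻¹ᵁ U.1)) ∧ IsUnit W ∧ W ^ g₀ = (π.app U.1).hom (wu : Γ(X, U.1)) ∧
      IsUnit v ∧ (π.app U.1).hom h = v * S ^ m ∧ (Ideal.span {S}).IsRadical ∧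
      (∀ p : Γ(Y, π ⁻¹ᵁ U.1) → Prop, (∀ a b, p a → p b → p (a * b)) →
        (∀ a, p ((π.app U.1).hom a)) → p W → p v) ∧
      ∀ p : Γ(Y, π ⁻¹ᵁ U.1) → Prop, (∀ a b, p a → p b → p (a + b)) → (∀ a b, p a → p b → p (a * b)) →
        (∀ a, p ((π.app U.1).hom a)) → p W → p S → ∀ x, p x := by
  obtain ⟨hNA, ζ, hζ⟩ := exists_primitiveRoot φ hNk U.1
  haveI := isIntegrallyClosed_sections φ U.2
  haveI := isRegularRing_sections φ U.2
  obtain ⟨g₀, m, i₀, hNgm, -, hg0, hm0, ρ, hρ⟩ :=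
    (covData hL hN hR U he hf).exists_model_equiv hN hNA hζ hh wu hFh hmax
  have hgA : IsUnit (g₀ : Γ(X, U.1)) := isUnit_of_dvd_unit ⟨(m : Γ(X, U.1)), by rw [hNgm, Nat.cast_mul]⟩ hNA
  have hmA : IsUnit (m : Γ(X, U.1)) :=
    isUnit_of_dvd_unit ⟨(g₀ : Γ(X, U.1)), by rw [hNgm, Nat.cast_mul, mul_comm]⟩ hNA
  let S₀ := CycCovLib.S g₀ wu m i₀ h
  let W₀ := CycCovLib.W g₀ wu m i₀ h
  have hW : IsUnit W₀ := (CycCovLib.isUnit_root (u := wu) hg0).map _
  let c := (W₀ ^ (g₀ - 1) * algebraMap Γ(X, U.1) _ ((wu⁻¹ : (Γ(X, U.1))ˣ) : Γ(X, U.1))) ^ i₀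
  have hc : c * W₀ ^ i₀ = 1 := by
    rw [← mul_pow, mul_right_comm, ← pow_succ, Nat.sub_add_cancel hg0, CycCovLib.W_pow, ← map_mul,
      Units.mul_inv, map_one, one_pow]
  refine ⟨g₀, m, ρ S₀, ρ W₀, ρ c, hm0, by simpa only [map_natCast] using hmA.map (π.app U.1).hom,
    by simpa only [map_natCast] using hgA.map (π.app U.1).hom, hW.map ρ,
    by rw [← map_pow ρ, CycCovLib.W_pow, hρ],
    (IsUnit.of_mul_eq_one _ hc).map ρ, ?_, ?_, fun p hmul hA hW' => ?_, fun p hadd hmul hA hW' hS' z => ?_⟩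
  · rw [← hρ, ← map_pow ρ, ← map_mul ρ, CycCovLib.S_pow, ← mul_assoc, hc, one_mul]
  · obtain ⟨θ, hθ, hker⟩ := CycCovLib.exists_quot_DD (u := wu) (i := i₀) (f := h) hg0 hm0
    haveI := CycCovLib.isRegularRing_CC (u := wu) hg0 hgA
    haveI := CycCovLib.isRegularRing_CC_quot (u := wu) (f := h) hg0 hgA
    haveI := CycCovLib.isReduced_of_isRegularRing
      (CycCovLib.CC g₀ wu ⧸ Ideal.span {algebraMap Γ(X, U.1) (CycCovLib.CC g₀ wu) h})
    intro z hz
    obtain ⟨l, hl⟩ := hz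
    obtain ⟨d, rfl⟩ := ρ.surjective z
    obtain ⟨c', hc'⟩ := Ideal.mem_span_singleton.1 hl
    have hd : d ^ l ∈ RingHom.ker θ := hker ▸ Ideal.mem_span_singleton.2
      ⟨ρ.symm c', ρ.injective (by rw [map_pow ρ, map_mul ρ, ρ.apply_symm_apply]; exact hc')⟩
    have h0 : θ d = 0 := IsReduced.eq_zero _ ⟨l, by rw [← map_pow]; exact RingHom.mem_ker.1 hd⟩
    obtain ⟨e', he'⟩ := Ideal.mem_span_singleton.1 (hker ▸ RingHom.mem_ker.2 h0 : d ∈ Ideal.span {S₀})
    exact Ideal.mem_span_singleton.2 ⟨ρ e', by rw [he', map_mul ρ]⟩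
  · have hpow : ∀ (z : Γ(Y, π ⁻¹ᵁ U.1)) (n : ℕ), p z → p (z ^ n) := fun z n hz => by
      induction n with
      | zero => rw [pow_zero, ← map_one (π.app U.1).hom]; exact hA 1
      | succ n ih => rw [pow_succ]; exact hmul _ _ ih hz
    simp only [c, map_pow ρ, map_mul ρ, hρ]
    exact hpow _ _ (hmul _ _ (hpow _ _ hW') (hA _))
  · obtain ⟨y, rfl⟩ := ρ.surjective z
    exact CycCovLib.induction_DD (p := fun y => p (ρ y)) (fun a b ha hb => by rw [map_add ρ]; exact hadd _ _ ha hb)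
      (fun a b ha hb => by rw [map_mul ρ]; exact hmul _ _ ha hb) (fun a => by rw [hρ]; exact hA a) hW' hS' y

/-- Charts exist near every point. -/
theorem exists_logCh [IsAffineHom π] (φ : X ⟶ Spec (CommRingCat.of k)) [Smooth φ] (hL : PicF.IsInvertible L) (hN : 0 < N)
    (hNk : (N : k) ≠ 0) (hD : LogNCD.IsNCD D φ)
    (hs : CycCov.IsZeroDiv (CohB1.tensorPow L N) s (CycCov.divIdeal D α)) (hR : CycCov.IsCover R)
    (hdisj : ∀ (x : X) (j j' : Fin r), x ∈ (D j).support → x ∈ (D j').support → j = j')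
    {ΩX : X.Modules} {dX : OmegaSh.Der φ ΩX} (hdX : OmegaSh.IsUniversal dX) (ΛX : LogNCD.LogMod dX D)
    {x : X} {O : X.Opens} (hx : x ∈ O) :
    ∃ U : X.affineOpens, x ∈ U.1 ∧ U.1 ≤ O ∧ Nonempty (LogCh π α ΛX U) := by
  classical
  -- the model over a chart with a single equation
  have main : ∀ (U : X.affineOpens) [Nonempty U.1] (e : Γ(L, U.1)), IsFrame e → ∀ (g : Fin r → Γ(X, U.1)),
      (∀ i, (D i).ideal U = Ideal.span {g i}) → ∀ (h : Γ(X, U.1)) (a : ℕ), h ≠ 0 →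
      IsRegularRing (Γ(X, U.1) ⧸ Ideal.span {h}) → (∀ i, g i = h ∨ g i = 1) →
      ((∃ i, g i = h) ∨ (h = 1 ∧ ∀ i, g i = 1)) → (∏ l, g l ^ α l = h ^ a) →
      (∀ {j : ℕ} {a' b : Γ(X, U.1)} (v : Γ(X, U.1)), IsUnit v → b ≠ 0 → b ^ N ∣ a' ^ N * (v * h ^ a) ^ j →
        b ∣ a' * h ^ (j * a / N)) →
      ∀ (n : ℕ) (b : Module.Basis (Fin n) Γ(X, U.1) Γ(ΩX, U.1))
        (BX : Module.Basis (Fin n) Γ(X, U.1) Γ(ΛX.L, U.1)) (w : Fin n → Γ(X, U.1)),
        (∀ j, w j • BX j = ΛX.ι.app U.1 (b j)) → (∀ j, w j = h ∨ w j = 1) →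
        ((∃ i₀ l₀, g i₀ = h ∧ g i₀ ≠ 1 ∧ (∀ i, i ≠ i₀ → g i = 1) ∧ w l₀ = h ∧ b l₀ = dX.app U.1 h ∧
          ∀ l, l ≠ l₀ → w l = 1) ∨ ((∀ i, g i = 1) ∧ ∀ l, w l = 1)) → Nonempty (LogCh π α ΛX U) := by
    intro U hne e he g hg h a hh hquot hgh hS hprod hmax n b BX w hw hw1 hK
    haveI := hquot
    obtain ⟨F, hf⟩ := exists_coord_val s he
    obtain ⟨wu, hwu⟩ := Ideal.span_singleton_eq_span_singleton.1
      ((span_coord hs he hf).symm.trans (ideal_divIdeal_span D α hg)).symm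
    have hFh : F = (wu : Γ(X, U.1)) * h ^ a := by rw [← hwu, mul_comm, hprod]
    obtain ⟨g₀, m, S, W, v, hm0, hmu, hgu, hWu, hWp, hv, heq, hrad, hvgen, hgen⟩ := exists_model_data φ hL hN hNk hR U he hf hh wu hFh
      fun j a' b' hb' hd' => hmax _ wu.isUnit hb' (by rwa [← hFh])
    obtain ⟨gY, hgY1, hgY2⟩ : ∃ gY : Fin r → Γ(Y, π ⁻¹ᵁ U.1),
        (∀ i, g i = 1 → gY i = 1) ∧ ∀ i, g i ≠ 1 → gY i = S :=
      ⟨fun i => if g i = 1 then 1 else S, fun i h1 => if_pos h1, fun i h1 => if_neg h1⟩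
    have hgY : ∀ i, ((D i).comap π).radical.ideal ⟨π ⁻¹ᵁ U.1, U.2.preimage π⟩ = Ideal.span {gY i} := fun i => by
      rw [Scheme.IdealSheafData.radical_ideal, ideal_comap_preimage, hg i, Ideal.map_span, Set.image_singleton]
      by_cases h1 : g i = 1
      · rw [hgY1 i h1, h1, map_one, Ideal.span_singleton_one, Ideal.radical_top]
      · rw [hgY2 i h1, (hgh i).resolve_right h1, heq, Ideal.span_singleton_mul_left_unit hv,
          ← Ideal.span_singleton_pow, Ideal.radical_pow _ hm0.ne', hrad.radical]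
    have hYeq : ∀ i, (g i = h ∧ gY i = S) ∨ (g i = 1 ∧ gY i = 1) := fun i => by
      by_cases h1 : g i = 1
      · exact .inr ⟨h1, hgY1 i h1⟩
      · exact .inl ⟨(hgh i).resolve_right h1, hgY2 i h1⟩
    have hScases : (∃ i, g i = h ∧ gY i = S) ∨ (h = 1 ∧ ∀ i, g i = 1) := by
      by_cases h1 : ∀ i, g i = 1
      · rcases hS with ⟨i, hi⟩ | h2
        · exact .inr ⟨hi ▸ h1 i, h1⟩
        · exact .inr h2
      · push Not at h1
        obtain ⟨i, hi⟩ := h1
        exact .inl ⟨i, (hgh i).resolve_right hi, hgY2 i hi⟩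
    have hnzd := fun b (hb : b ≠ 0) x => app_mul_eq_zero (U := U) hL hN hR hb (x := x)
    have hFu : IsUnit (resR (X.basicOpen_le h) F) := by
      rw [hFh, map_mul, map_pow]
      exact (wu.isUnit.map _).mul ((isUnit_resR (X.basicOpen_le h) h le_rfl).pow a)
    have het := formallyEtale_app φ hL hN hNk hR he hf hh hFu
    haveI := CycCovLib.isReduced_of_isRegularRing (Γ(X, U.1) ⧸ Ideal.span {h})
    have hK' := hK.imp_left fun ⟨i₁, l₁, a1, a2, a3, a4, a5, a6⟩ => (⟨i₁, l₁, a1, hgY2 i₁ a2, a3, a4, a5, a6⟩ :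
      ∃ i₀ l₀, g i₀ = h ∧ gY i₀ = S ∧ (∀ i, i ≠ i₀ → g i = 1) ∧ w l₀ = h ∧ b l₀ = dX.app U.1 h ∧
        ∀ l, l ≠ l₀ → w l = 1)
    exact ⟨LogCh.mk g hg h hh hgh m hmu hm0 S W g₀ hgu wu hWu hWp v hv hvgen heq gY hgY hYeq hScases hgen hnzd het n b BX w hw hw1
      ((Ideal.isRadical_iff_quotient_reduced _).2 inferInstance) hK'⟩
  by_cases hth : Nonempty (LogNCD.Through D x)
  · obtain ⟨U, e, n, ψ, en, hxU, hUO, he, hψ, heinj, hψC, hin, hout, hb⟩ :=
      exists_coord_chart_le φ D hD hL hth hx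
    haveI : Nonempty U.1 := ⟨⟨x, hxU⟩⟩
    haveI := isIntegrallyClosed_sections φ U.2
    haveI := isRegularRing_sections φ U.2
    obtain ⟨b, hb⟩ := hb hdX
    obtain ⟨-, hreg⟩ := regular_of_etale ψ hψ
    obtain ⟨t₀⟩ := hth
    let h : Γ(X, U.1) := ψ (MvPolynomial.X (ULift.up (en t₀)))
    let g : Fin r → Γ(X, U.1) := fun l => if l = t₀.1 then h else 1
    have hg : ∀ l, (D l).ideal U = Ideal.span {g l} := fun l => by
      by_cases hl : l = t₀.1
      · subst hl; simp only [g, if_pos]; exact hin t₀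
      · simp only [g, if_neg hl, Ideal.span_singleton_one]
        exact hout l fun hm => hl (hdisj x l t₀.1 hm t₀.2)
    have hregh : IsSMulRegular Γ(X, U.1) h := (hreg _).1
    have hh : h ≠ 0 := fun h0 => one_ne_zero
      (hregh (show h • (1 : Γ(X, U.1)) = h • (0 : Γ(X, U.1)) by rw [h0, zero_smul, zero_smul]))
    haveI : IsRegularRing (Γ(X, U.1) ⧸ Ideal.span {h}) := (hreg _).2.1
    obtain ⟨BX, w, hw, hwt, hw1⟩ := exists_log_basis_smul ΛX hg b (T := Unit) (fun _ => t₀.1) (fun _ => en t₀)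
      (fun _ _ _ => rfl) (fun _ => by simp only [g, if_pos]; exact (hb _).symm)
      (fun _ => by simp only [g, if_pos]; exact hregh) fun i hi => if_neg fun hil => hi () hil.symm
    have hcomp : Comp (fun _ : Fin 1 => D t₀.1) U fun _ => h :=
      ⟨fun _ => hin t₀, fun _ => hh, fun _ => inferInstance, fun i j hij => absurd (Subsingleton.elim i j) hij⟩
    refine ⟨U, hxU, hUO, main U e he g hg h (α t₀.1) hh inferInstance
      (fun i => by by_cases hi : i = t₀.1 <;> simp [g, hi]) (.inl ⟨t₀.1, if_pos rfl⟩) ?_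
      (fun {j a' b'} v hv hb' hd' => ?_) n b BX w hw (fun j => ?_) (.inl ⟨t₀.1, en t₀, if_pos rfl, ?_, fun i hi => if_neg hi, ?_, hb _, fun l hl => hw1 l fun _ => Ne.symm hl⟩)⟩
    · rw [Finset.prod_eq_single t₀.1 (fun l _ hl => by simp [g, hl]) (fun h => absurd (Finset.mem_univ _) h)]
      simp [g]
    · have h1 := hcomp.max_div φ (le_refl U.1) (fun _ => α t₀.1) hv hN j (a := a') hb'
        (by simpa [resR_self] using hd')
      simpa [resR_self] using h1
    · by_cases hj : en t₀ = j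
      · subst hj; left; rw [hwt ()]; exact if_pos rfl
      · exact .inr (hw1 j fun _ => hj)
    · intro h1
      have htop : (D t₀.1).ideal U = ⊤ := by rw [hg, h1, Ideal.span_singleton_one]
      have hxl := (Scheme.IdealSheafData.mem_support_iff_of_mem hxU).1 t₀.2
      rw [htop, Scheme.mem_zeroLocus_iff] at hxl
      exact hxl 1 Submodule.mem_top (by rw [Scheme.basicOpen_of_isUnit _ isUnit_one]; exact hxU)
    · rw [hwt ()]; exact if_pos rfl
  · have hcl : IsClosed (⋃ i, ((D i).support : Set X)) :=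
      isClosed_iUnion_of_finite fun i => (D i).support.isClosed
    have hxc : x ∈ (⟨_, hcl.isOpen_compl⟩ : X.Opens) := by
      show x ∈ (⋃ i, ((D i).support : Set X))ᶜ
      simp only [Set.mem_compl_iff, Set.mem_iUnion, not_exists]
      exact fun i hi => hth ⟨⟨i, hi⟩⟩
    obtain ⟨W₁, hxW₁, e₁, he₁⟩ := InvX.exists_frame hL x
    obtain ⟨U, n, hxU, hle, ⟨b⟩⟩ := exists_free_omega hdX
      (show x ∈ O ⊓ (⟨_, hcl.isOpen_compl⟩ : X.Opens) ⊓ W₁ from ⟨⟨hx, hxc⟩, hxW₁⟩)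
    haveI : Nonempty U.1 := ⟨⟨x, hxU⟩⟩
    haveI := isIntegrallyClosed_sections φ U.2
    have hg : ∀ i, (D i).ideal U = Ideal.span {(1 : Γ(X, U.1))} := fun i => by
      rw [H44LogNCD.ideal_eq_top_of_disjoint _ _ fun y hy hyi => ((hle hy).1).2 (Set.mem_iUnion.2 ⟨i, hyi⟩),
        Ideal.span_singleton_one]
    haveI : IsRegularRing (Γ(X, U.1) ⧸ Ideal.span {(1 : Γ(X, U.1))}) := by
      haveI : Subsingleton (Γ(X, U.1) ⧸ Ideal.span {(1 : Γ(X, U.1))}) :=
        Ideal.Quotient.subsingleton_iff.2 Ideal.span_singleton_one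
      haveI : IsNoetherianRing (Γ(X, U.1) ⧸ Ideal.span {(1 : Γ(X, U.1))}) := isNoetherian_of_finite _ _
      exact isRegularRing_iff.2 fun p hp => absurd (Subsingleton.elim p ⊤) hp.ne_top
    obtain ⟨BX, w, hw, -, hw1⟩ := exists_log_basis_smul ΛX (g := fun _ => (1 : Γ(X, U.1))) hg b (T := PEmpty.{1})
      PEmpty.elim PEmpty.elim (fun t => t.elim) (fun t => t.elim) (fun t => t.elim) fun _ _ => rfl
    refine ⟨U, hxU, hle.trans (inf_le_left.trans inf_le_left), main U (res L (hle.trans inf_le_right) e₁)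
      (he₁.res _) (fun _ => 1) hg 1 0 one_ne_zero inferInstance (fun _ => .inr rfl) (.inr ⟨rfl, fun _ => rfl⟩)
      (by simp) (fun {j a' b'} v hv hb' hd' => ?_) n b BX w hw
      (fun j => .inr (hw1 j fun t => t.elim)) (.inr ⟨fun _ => rfl, fun j => hw1 j fun t => t.elim⟩)⟩
    rw [one_pow, mul_one] at hd' ⊢
    exact (IsIntegrallyClosed.pow_dvd_pow_iff hN.ne').1 ((hv.pow j).dvd_mul_right.1 hd')

end Groth.Agent.H44Cyc
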