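import Groth.Agent.H44Cyc.LogChart
import Groth.Agent.H44LogNCD.Pull

/-! # The pull-back of an adapted frame is a frame upstairs -/

universe u

open CategoryTheory AlgebraicGeometry TopologicalSpace Opposite

set_option backward.isDefEq.respectTransparency false
set_option linter.style.haveILetI false
set_option linter.unusedSectionVars false

namespace Groth.Agent.H44Cyc

open Groth.Agent.AModX Groth.Agent.InvX Groth.Agent.H44LogNCD

theorem d_pow {X S : Scheme.{u}} {f : X ⟶ S} {Ω : X.Modules} (d : OmegaSh.Der f Ω) {U : X.Opens}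
    (a : Γ(X, U)) (n : ℕ) : a • d.app U (a ^ n) = ((n : Γ(X, U)) * a ^ n) • d.app U a := by
  induction n with
  | zero => simp [H44LogNCD.d_app_one]
  | succ n ih =>
    rw [pow_succ, Synt29.OmegaStalk.app_mul, smul_add, smul_smul, smul_smul, mul_comm a (a : Γ(X, U))]
    rw [← smul_smul a a, ih, smul_smul, ← add_smul]
    congr 1
    push_cast
    ring

variable {k : Type u} [Field k] [IsAlgClosed k] {X Y : Scheme.{u}} [IsIntegral X] {r : ℕ}
  {D : Fin r → X.IdealSheafData} {φ : X ⟶ Spec (CommRingCat.of k)} {π : Y ⟶ X} [IsAffineHom π] {α : Fin r → ℕ}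
  {ΩX : X.Modules} {dX : OmegaSh.Der φ ΩX} {ΩY : Y.Modules} {dY : OmegaSh.Der (π ≫ φ) ΩY}

/-- Equations of larger ideals act regularly on the log forms upstairs. -/
theorem pullReg_of_le (hΔ : LogNCD.IsNCD (fun j : Fin r => ((D j).comap π).radical) (π ≫ φ))
    (ΛY : LogNCD.LogMod dY (fun j : Fin r => ((D j).comap π).radical)) {D' : Fin r → X.IdealSheafData}
    (hle : ∀ j, D j ≤ D' j) : PullReg ΛY (D := D') := by
  classical
  intro U g hg W hW z hz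
  refine eq_of_locally _ _ fun y hy => ?_
  obtain ⟨V, gY, hyV, hVW, hgY⟩ := exists_principal _ (π ≫ φ) hΔ (show y ∈ π ⁻¹ᵁ W from hy)
  have hVU : V.1 ≤ π ⁻¹ᵁ U.1 := hVW.trans (π.preimage_mono hW)
  let γ : Γ(X, U.1) →+* Γ(Y, V.1) := (resR hVU).comp (π.app U.1).hom
  have hn : ∀ i, ∃ (n : ℕ) (c : Γ(Y, V.1)), gY i ^ n = c * γ (g i) := fun i => by
    have h1 : gY i ∈ (((D i).comap π).radical).ideal V := hgY i ▸ Ideal.mem_span_singleton_self _
    rw [Scheme.IdealSheafData.radical_ideal, HTopCov.ideal_comap_appLE π (D i) U V hVU] at h1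
    replace h1 := Ideal.radical_mono (Ideal.map_mono (hle i U)) h1
    rw [hg i, Ideal.map_span, Set.image_singleton] at h1
    obtain ⟨n, hn⟩ := h1
    obtain ⟨c, hc⟩ := Ideal.mem_span_singleton'.1 hn
    refine ⟨n, c, hc.symm.trans (congrArg (c * ·) ?_)⟩
    exact congr($(Scheme.Hom.appLE π U.1 V.1 hVU |> fun _ => (rfl : π.appLE U.1 V.1 hVU = π.app U.1 ≫ Y.presheaf.map (homOfLE hVU).op)) (g i))
  choose n c hc using hn
  let M := ∑ i, n i
  have hz' : γ (∏ i, g i) • res ΛY.L hVW z = 0 := by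
    have e : γ (∏ i, g i) = resR hVW (π.app W (resR hW (∏ i, g i))) := by
      show _ = resR hVW ((π.app W).hom (resR hW (∏ i, g i)))
      rw [← res_app hW, resR_resR]
      rfl
    rw [e, ← res_smul, hz, map_zero]
  have hM : ∀ j : ℕ, (∏ i, gY i) ^ j • res ΛY.L hVW z = 0 → res ΛY.L hVW z = 0 := fun j hj => by
    induction j with
    | zero => rwa [pow_zero, one_smul] at hj
    | succ j ih =>
      rw [pow_succ', mul_smul] at hj
      exact ih ((rule' ΛY hgY).1 _ hj)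
  refine ⟨V.1, hVW, hyV, (hM M ?_).trans (map_zero _).symm⟩
  have hp : ∀ i, gY i ^ M = gY i ^ (M - n i) * c i * γ (g i) := fun i => by
    rw [mul_assoc, ← hc, ← pow_add,
      Nat.sub_add_cancel (Finset.single_le_sum (fun l _ => Nat.zero_le (n l)) (Finset.mem_univ i))]
  rw [← Finset.prod_pow, Finset.prod_congr rfl fun i _ => hp i, Finset.prod_mul_distrib, ← map_prod, mul_smul,
    hz', smul_zero]

/-- The pulled back equations of a normal crossing divisor act regularly on the log forms upstairs. -/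
theorem pullReg (hΔ : LogNCD.IsNCD (fun j : Fin r => ((D j).comap π).radical) (π ≫ φ))
    (ΛY : LogNCD.LogMod dY (fun j : Fin r => ((D j).comap π).radical)) : PullReg ΛY (D := D) :=
  pullReg_of_le hΔ ΛY fun _ => le_rfl

variable {ΛX : LogNCD.LogMod dX D} {U : X.affineOpens} (c : LogCh π α ΛX U)
  {ΛY : LogNCD.LogMod dY (fun j : Fin r => ((D j).comap π).radical)}

theorem LogCh.rule_gY :
    ∃ dlY : Fin r → Γ(ΛY.L, π ⁻¹ᵁ U.1),
      (∀ i, c.gY i • dlY i = ΛY.ι.app (π ⁻¹ᵁ U.1) (dY.app (π ⁻¹ᵁ U.1) (c.gY i))) ∧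
      ∀ z : Γ(ΛY.L, π ⁻¹ᵁ U.1), ∃ (ω : Γ(ΩY, π ⁻¹ᵁ U.1)) (a : Fin r → Γ(Y, π ⁻¹ᵁ U.1)),
        z = ΛY.ι.app (π ⁻¹ᵁ U.1) ω + ∑ i, a i • dlY i := by
  obtain ⟨-, dlY, h1, h2, -⟩ := rule' ΛY (U := ⟨π ⁻¹ᵁ U.1, U.2.preimage π⟩) c.spanY
  exact ⟨dlY, h1, h2⟩

theorem LogCh.dh_eq {dl : Γ(ΛY.L, π ⁻¹ᵁ U.1)} (hdl : c.S • dl = ΛY.ι.app _ (dY.app _ c.S)) {vi : Γ(Y, π ⁻¹ᵁ U.1)}
    (hvi : vi * c.v = 1) :
    (π.app U.1).hom c.h • ((c.m : Γ(Y, π ⁻¹ᵁ U.1)) • dl + vi • ΛY.ι.app _ (dY.app _ c.v)) =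
      ΛY.ι.app _ (dY.app _ ((π.app U.1).hom c.h)) := by
  have hpow : ∀ n : ℕ, ΛY.ι.app _ (dY.app _ (c.S ^ n)) = ((n : Γ(Y, π ⁻¹ᵁ U.1)) * c.S ^ n) • dl := fun n => by
    induction n with
    | zero => simp [H44LogNCD.d_app_one]
    | succ n ih =>
      rw [pow_succ, Synt29.OmegaStalk.app_mul, map_add, Scheme.Modules.Hom.app_smul, Scheme.Modules.Hom.app_smul,
        ih, ← hdl, smul_smul, smul_smul, ← add_smul]
      congr 1
      push_cast
      ring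
  rw [c.h_eq, Synt29.OmegaStalk.app_mul, map_add, Scheme.Modules.Hom.app_smul, Scheme.Modules.Hom.app_smul,
    hpow, smul_add, smul_smul, smul_smul, smul_smul]
  congr 1
  · congr 1; ring
  · congr 1; linear_combination c.S ^ c.m * hvi

include c in
/-- The chart is good for the pull-back. -/
theorem LogCh.pullGood : PullGood ΛY (D := D) U := by
  obtain ⟨dlY, hdl, -⟩ := c.rule_gY (ΛY := ΛY)
  obtain ⟨vi, hvi⟩ := c.v_unit.exists_left_inv
  refine ⟨c.g, c.span, fun i => ?_⟩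
  rcases c.gY_eq i with ⟨h1, h2⟩ | ⟨h1, -⟩
  · exact ⟨_, by rw [h1]; exact c.dh_eq (h2 ▸ hdl i) hvi⟩
  · exact ⟨0, by rw [h1, map_one, H44LogNCD.d_app_one, map_zero, smul_zero]⟩

variable {β : ΩX ⟶ (Scheme.Modules.pushforward π).obj ΩY}

/-- The pull-backs of a frame of forms are independent. -/
theorem LogCh.linearIndependent_pull (hdX : OmegaSh.IsUniversal dX) (hdY : OmegaSh.IsUniversal dY)
    (hβ : ∀ (W : X.Opens) (a : Γ(X, W)), pullAt β W (dX.app W a) = dY.app (π ⁻¹ᵁ W) (π.app W a)) :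
    LinearIndependent Γ(Y, π ⁻¹ᵁ U.1) (fun l => pullAt β U.1 (c.b l)) := by
  let R₀ := Γ(Spec (CommRingCat.of k), ⊤)
  let eA : U.1 ≤ φ ⁻¹ᵁ ⊤ := le_top
  let eB : π ⁻¹ᵁ U.1 ≤ (π ≫ φ) ⁻¹ᵁ ⊤ := le_top
  letI : Algebra R₀ Γ(X, U.1) := (φ.appLE ⊤ U.1 eA).hom.toAlgebra
  letI : Algebra R₀ Γ(Y, π ⁻¹ᵁ U.1) := ((π ≫ φ).appLE ⊤ (π ⁻¹ᵁ U.1) eB).hom.toAlgebra
  letI : Algebra Γ(X, U.1) Γ(Y, π ⁻¹ᵁ U.1) := (π.app U.1).hom.toAlgebra
  have hVU : π ⁻¹ᵁ X.basicOpen c.h ≤ π ⁻¹ᵁ U.1 := π.preimage_mono (X.basicOpen_le c.h)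
  let E := Γ(Y, π ⁻¹ᵁ X.basicOpen c.h)
  letI : Algebra Γ(Y, π ⁻¹ᵁ U.1) E := (resR hVU).toAlgebra
  letI algAE : Algebra Γ(X, U.1) E := ((π.app (X.basicOpen c.h)).hom.comp (resR (X.basicOpen_le c.h))).toAlgebra
  haveI : Algebra.FormallyEtale Γ(X, U.1) E := c.etale
  letI : Algebra R₀ E := ((algebraMap Γ(X, U.1) E).comp (algebraMap R₀ Γ(X, U.1))).toAlgebra
  haveI t1 : IsScalarTower R₀ Γ(X, U.1) E := IsScalarTower.of_algebraMap_eq fun _ => rfl
  haveI t2 : IsScalarTower Γ(X, U.1) Γ(Y, π ⁻¹ᵁ U.1) E := IsScalarTower.of_algebraMap_eq fun a =>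
    (res_app (X.basicOpen_le c.h) a).symm
  haveI t3 : IsScalarTower R₀ Γ(X, U.1) Γ(Y, π ⁻¹ᵁ U.1) := IsScalarTower.of_algebraMap_eq fun a => by
    show (π ≫ φ).appLE ⊤ (π ⁻¹ᵁ U.1) eB a = π.app U.1 (φ.appLE ⊤ U.1 eA a)
    rw [← Scheme.Hom.appLE_comp_appLE π φ ⊤ U.1 (π ⁻¹ᵁ U.1) eA le_rfl, Scheme.Hom.app_eq_appLE]
    rfl
  haveI t4 : IsScalarTower R₀ Γ(Y, π ⁻¹ᵁ U.1) E := IsScalarTower.of_algebraMap_eq fun a => by
    show algebraMap Γ(X, U.1) E (algebraMap R₀ Γ(X, U.1) a) = _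
    rw [IsScalarTower.algebraMap_apply Γ(X, U.1) Γ(Y, π ⁻¹ᵁ U.1) E, ← IsScalarTower.algebraMap_apply R₀]
  have hinj : Function.Injective (algebraMap Γ(Y, π ⁻¹ᵁ U.1) E) := by
    rw [injective_iff_map_eq_zero]
    intro z hz
    have hle : Y.basicOpen ((π.app U.1).hom c.h) ≤ π ⁻¹ᵁ X.basicOpen c.h :=
      (Scheme.preimage_basicOpen π c.h).ge
    have hz' : z |_ Y.basicOpen ((π.app U.1).hom c.h) = 0 := by
      have := congrArg (resR hle) (show resR hVU z = 0 from hz)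
      rwa [map_zero, resR_resR] at this
    obtain ⟨n, hn⟩ := AlgebraicGeometry.exists_pow_mul_eq_zero_of_res_basicOpen_eq_zero_of_isAffineOpen Y
      (U.2.preimage π) z ((π.app U.1).hom c.h) hz'
    rw [← map_pow] at hn
    exact c.nzd _ (pow_ne_zero _ c.h_ne) z hn
  obtain ⟨EA, hEA⟩ := exists_omega_equiv hdX U.2 (isAffineOpen_top _) eA
  obtain ⟨EB, hEB⟩ := exists_omega_equiv hdY (U.2.preimage π) (isAffineOpen_top _) eB
  have hcomp : ∀ z, EB (pullAt β U.1 (EA.symm z)) =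
      KaehlerDifferential.map R₀ R₀ Γ(X, U.1) Γ(Y, π ⁻¹ᵁ U.1) z := by
    intro z
    have hz : z ∈ Submodule.span Γ(X, U.1) (Set.range (KaehlerDifferential.D R₀ Γ(X, U.1))) := by
      rw [KaehlerDifferential.span_range_derivation]; trivial
    induction hz using Submodule.span_induction with
    | mem y hy =>
      obtain ⟨a, rfl⟩ := hy
      rw [show EA.symm (KaehlerDifferential.D R₀ Γ(X, U.1) a) = dX.app U.1 a from
        (LinearEquiv.symm_apply_eq _).2 (hEA a).symm, hβ, hEB, KaehlerDifferential.map_D]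
      rfl
    | zero =>
      rw [map_zero, map_zero, ← map_zero EB]
      exact congrArg EB (map_zero (β.app U.1).hom)
    | add a b _ _ ha hb => rw [map_add, pullAt_add, map_add, map_add, ha, hb]
    | smul t a _ ha =>
      rw [map_smul EA.symm, pullAt_smul, map_smul EB, ha, map_smul (KaehlerDifferential.map R₀ R₀ Γ(X, U.1) _)]
      exact (IsScalarTower.algebraMap_smul Γ(Y, π ⁻¹ᵁ U.1) t _)
  have hli := li_map_of_formallyEtale (R := R₀) hinj (c.b.map EA)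
  refine LinearIndependent.of_comp EB.toLinearMap ?_
  convert! hli using 1
  funext l
  show EB (pullAt β U.1 (c.b l)) = _
  rw [← hcomp]
  exact congrArg (fun z => EB (pullAt β U.1 z)) (EA.symm_apply_apply (c.b l)).symm

/-- The pull-back of an adapted frame is a frame. -/
theorem LogCh.exists_basis (hdX : OmegaSh.IsUniversal dX) (hdY : OmegaSh.IsUniversal dY)
    (hβ : ∀ (W : X.Opens) (a : Γ(X, W)), pullAt β W (dX.app W a) = dY.app (π ⁻¹ᵁ W) (π.app W a))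
    (hreg : PullReg ΛY (D := D)) (Φ : ΛX.L ⟶ (Scheme.Modules.pushforward π).obj ΛY.L)
    (hΦ : ∀ (U : X.affineOpens) (g : Fin r → Γ(X, U.1)), PullGood ΛY (D := D) U →
      (∀ i, (D i).ideal U = Ideal.span {g i}) → ∀ z, PRel ΛX ΛY β U.1 g z (Φ.app U.1 z)) :
    ∃ BY : Module.Basis (Fin c.n) Γ(Y, π ⁻¹ᵁ U.1) Γ(ΛY.L, π ⁻¹ᵁ U.1),
      ∀ l, BY l = (show Γ(ΛY.L, π ⁻¹ᵁ U.1) from Φ.app U.1 (c.BX l)) := by
  classical
  let P : Γ(ΛX.L, U.1) → Γ(ΛY.L, π ⁻¹ᵁ U.1) := fun z => Φ.app U.1 z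
  have hPsmul : ∀ a z, P (a • z) = (π.app U.1).hom a • P z := fun a z => Scheme.Modules.Hom.app_smul Φ a z
  have hPadd : ∀ z z', P (z + z') = P z + P z' := fun z z' => map_add _ _ _
  have hPι : ∀ ω, P (ΛX.ι.app U.1 ω) = ΛY.ι.app _ (pullAt β U.1 ω) := fun ω => by
    refine prel_unique hreg c.span (hΦ U c.g c.pullGood c.span (ΛX.ι.app U.1 ω))
      ⟨(∏ i, c.g i) • ω, by rw [Scheme.Modules.Hom.app_smul], ?_⟩
    rw [pullAt_smul, Scheme.Modules.Hom.app_smul]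
  obtain ⟨dlY, hdlY, hgenY⟩ := c.rule_gY (ΛY := ΛY)
  obtain ⟨-, dlX, hdlX, -, -⟩ := rule' ΛX c.span
  let T : Submodule Γ(Y, π ⁻¹ᵁ U.1) Γ(ΛY.L, π ⁻¹ᵁ U.1) := Submodule.span _ (Set.range fun l => P (c.BX l))
  have hPT : ∀ z, P z ∈ T := fun z => by
    have hz : z ∈ Submodule.span Γ(X, U.1) (Set.range c.BX) := by rw [c.BX.span_eq]; trivial
    induction hz using Submodule.span_induction with
    | mem y hy => obtain ⟨l, rfl⟩ := hy; exact Submodule.subset_span ⟨l, rfl⟩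
    | zero => rw [show P 0 = 0 from map_zero _]; exact T.zero_mem
    | add a b _ _ ha hb => rw [hPadd]; exact T.add_mem ha hb
    | smul t a _ ha => rw [hPsmul]; exact T.smul_mem _ ha
  let p : Γ(Y, π ⁻¹ᵁ U.1) → Prop := fun b => ΛY.ι.app _ (dY.app _ b) ∈ T
  have padd : ∀ a b, p a → p b → p (a + b) := fun a b ha hb => by
    show ΛY.ι.app _ (dY.app _ (a + b)) ∈ T
    rw [map_add, map_add]; exact T.add_mem ha hb
  have pmul : ∀ a b, p a → p b → p (a * b) := fun a b ha hb => by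
    show ΛY.ι.app _ (dY.app _ (a * b)) ∈ T
    rw [Synt29.OmegaStalk.app_mul, map_add, Scheme.Modules.Hom.app_smul, Scheme.Modules.Hom.app_smul]
    exact T.add_mem (T.smul_mem _ hb) (T.smul_mem _ ha)
  have pA : ∀ a, p ((π.app U.1).hom a) := fun a => by
    show ΛY.ι.app _ (dY.app _ _) ∈ T
    rw [← hβ, ← hPι]
    exact hPT _
  have pW : p c.W := by
    have h1 := congrArg (fun z => ΛY.ι.app _ z) (d_pow dY c.W c.g₀)
    simp only [Scheme.Modules.Hom.app_smul] at h1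
    refine (Submodule.smul_mem_iff_of_isUnit T (c.g₀_unit.mul (c.W_unit.pow c.g₀))).1 ?_
    rw [← h1, c.W_pow]
    exact T.smul_mem _ (pA _)
  have pv : p c.v := c.v_gen p pmul pA pW
  obtain ⟨vi, hvi⟩ := c.v_unit.exists_left_inv
  have hdlT : ∀ i, dlY i ∈ T := fun i => by
    rcases c.gY_eq i with ⟨h1, h2⟩ | ⟨-, h2⟩
    · have e : P (dlX i) = (c.m : Γ(Y, π ⁻¹ᵁ U.1)) • dlY i + vi • ΛY.ι.app _ (dY.app _ c.v) := by
        refine sub_eq_zero.1 (hreg U c.g c.span U.1 le_rfl _ ?_)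
        rw [resR_self, ← Finset.mul_prod_erase _ _ (Finset.mem_univ i), mul_comm, map_mul, mul_smul, smul_sub, h1,
          c.dh_eq (h2 ▸ hdlY i) hvi, ← hPsmul, show c.h • dlX i = ΛX.ι.app U.1 (dX.app U.1 c.h) from h1 ▸ hdlX i,
          hPι, hβ]
        simp
      refine (Submodule.smul_mem_iff_of_isUnit T c.m_unit).1 ?_
      rw [eq_sub_of_add_eq e.symm]
      exact T.sub_mem (hPT _) (T.smul_mem _ pv)
    · have h0 := hdlY i
      rw [h2, one_smul, H44LogNCD.d_app_one, map_zero] at h0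
      rw [h0]
      exact T.zero_mem
  have pS : p c.S := by
    rcases c.S_cases with ⟨i, -, h2⟩ | ⟨h1, -⟩
    · show ΛY.ι.app _ (dY.app _ c.S) ∈ T
      rw [← h2, ← hdlY]
      exact T.smul_mem _ (hdlT i)
    · have h2 : c.v * c.S ^ c.m = 1 := by rw [← c.h_eq, h1, map_one]
      have hS : IsUnit (c.S ^ c.m) := IsUnit.of_mul_eq_one_right _ h2
      have h3 : (c.v * ((c.m : Γ(Y, π ⁻¹ᵁ U.1)) * c.S ^ c.m)) • ΛY.ι.app _ (dY.app _ c.S) +
          (c.S * c.S ^ c.m) • ΛY.ι.app _ (dY.app _ c.v) = 0 := by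
        have h4 := congrArg (fun z => c.S • ΛY.ι.app _ (dY.app _ z)) h2
        have h5 := congrArg (fun z => ΛY.ι.app _ z) (d_pow dY c.S c.m)
        simp only [Scheme.Modules.Hom.app_smul] at h5
        simp only [Synt29.OmegaStalk.app_mul, map_add, Scheme.Modules.Hom.app_smul, smul_add,
          H44LogNCD.d_app_one, map_zero, smul_zero] at h4
        rw [smul_comm, h5, smul_smul, smul_smul] at h4
        exact h4
      refine (Submodule.smul_mem_iff_of_isUnit T (c.v_unit.mul (c.m_unit.mul hS))).1 ?_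
      rw [eq_neg_of_add_eq_zero_left h3]
      exact T.neg_mem (T.smul_mem _ pv)
  have hpall : ∀ b, p b := c.gen p padd pmul pA pW pS
  have hωT : ∀ ω, ΛY.ι.app (π ⁻¹ᵁ U.1) ω ∈ T := by
    let eB : π ⁻¹ᵁ U.1 ≤ (π ≫ φ) ⁻¹ᵁ ⊤ := le_top
    letI : Algebra Γ(Spec (CommRingCat.of k), ⊤) Γ(Y, π ⁻¹ᵁ U.1) :=
      ((π ≫ φ).appLE ⊤ (π ⁻¹ᵁ U.1) eB).hom.toAlgebra
    obtain ⟨EB, hEB⟩ := exists_omega_equiv hdY (U.2.preimage π) (isAffineOpen_top _) eB
    intro ω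
    obtain ⟨z, rfl⟩ := EB.symm.surjective ω
    have hz : z ∈ Submodule.span Γ(Y, π ⁻¹ᵁ U.1)
        (Set.range (KaehlerDifferential.D Γ(Spec (CommRingCat.of k), ⊤) Γ(Y, π ⁻¹ᵁ U.1))) := by
      rw [KaehlerDifferential.span_range_derivation]; trivial
    induction hz using Submodule.span_induction with
    | mem y hy =>
      obtain ⟨a, rfl⟩ := hy
      rw [(LinearEquiv.symm_apply_eq _).2 (hEB a).symm]
      exact hpall a
    | zero => rw [map_zero, map_zero]; exact T.zero_mem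
    | add a b _ _ ha hb => rw [map_add, map_add]; exact T.add_mem ha hb
    | smul t a _ ha => rw [map_smul, Scheme.Modules.Hom.app_smul]; exact T.smul_mem _ ha
  have hli : LinearIndependent Γ(Y, π ⁻¹ᵁ U.1) (fun l => P (c.BX l)) := by
    rw [Fintype.linearIndependent_iff]
    intro a ha l
    let w' : Fin c.n → Γ(Y, π ⁻¹ᵁ U.1) := fun j => (π.app U.1).hom (c.w j)
    have hwP : ∀ j, w' j • P (c.BX j) = ΛY.ι.app _ (pullAt β U.1 (c.b j)) := fun j => by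
      rw [← hPι, ← c.w_smul, hPsmul]
    have h1 : ΛY.ι.app _ (∑ j, (a j * ∏ l ∈ Finset.univ.erase j, w' l) • pullAt β U.1 (c.b j)) = 0 := by
      rw [map_sum, ← smul_zero (∏ l, w' l), ← ha, Finset.smul_sum]
      refine Finset.sum_congr rfl fun j _ => ?_
      rw [Scheme.Modules.Hom.app_smul, ← hwP, smul_smul, smul_smul, ← Finset.mul_prod_erase _ _ (Finset.mem_univ j)]
      congr 1
      ring
    haveI := ΛY.mono
    have h2 := Fintype.linearIndependent_iff.1 (c.linearIndependent_pull hdX hdY hβ) _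
      (QCoh.app_injective ΛY.ι _ (h1.trans (map_zero _).symm)) l
    refine c.nzd (∏ j ∈ Finset.univ.erase l, c.w j) ?_ (a l) (by rw [map_prod, mul_comm]; exact h2)
    haveI : Nontrivial Γ(X, U.1) := ⟨⟨c.h, 0, c.h_ne⟩⟩
    haveI : Nonempty U.1 := by
      by_contra hne
      exact c.h_ne ((basicOpen_eq_bot_iff c.h).1
        (eq_bot_iff.2 fun y hy => absurd ⟨⟨y, X.basicOpen_le c.h hy⟩⟩ hne))
    exact Finset.prod_ne_zero_iff.2 fun j _ => by
      rcases c.w_eq j with hj | hj <;> rw [hj]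
      · exact c.h_ne
      · haveI : Nontrivial Γ(X, U.1) := ⟨⟨c.h, 0, c.h_ne⟩⟩
        exact one_ne_zero
  refine ⟨Module.Basis.mk hli fun z _ => ?_, fun l => Module.Basis.mk_apply _ _ _⟩
  obtain ⟨ω, a, rfl⟩ := hgenY z
  exact T.add_mem (hωT ω) (T.sum_mem fun i _ => T.smul_mem _ (hdlT i))

end Groth.Agent.H44Cyc
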