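import Groth.Agent.H44Adj.Forms
import Groth.Agent.H23.TensorDesc
import Groth.Agent.VBCurvesLib.Dual
import Groth.Agent.LimitsH94.GlueHom
import Groth.Agent.RelTildeX.SheafCrit
import Groth.Agent.QCoh.TensorSections

/-! # Exterior powers and tensor products against an affine direct image -/

universe u

open CategoryTheory CategoryTheory.Limits AlgebraicGeometry TopologicalSpace Opposite exteriorPower
open scoped TensorProduct

set_option linter.style.haveILetI false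
set_option backward.isDefEq.respectTransparency false
set_option backward.isDefEq.respectTransparency.types false

namespace Groth.Agent.H44Cyc

open Groth.Agent.AModX Groth.Agent.H44Adj
open Groth.Agent.H44Hyper (extLoc extLoc_ιMulti)

variable {X Y : Scheme.{u}} (π : Y ⟶ X)

/-- The affine preimage. -/
noncomputable abbrev preA [IsAffineHom π] (U : X.affineOpens) : Y.affineOpens := ⟨π ⁻¹ᵁ U.1, U.2.preimage π⟩

variable {π} [IsAffineHom π] {E : X.Modules} {F : Y.Modules} (φ : E ⟶ (Scheme.Modules.pushforward π).obj F)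

/-- The value of the map as a section upstairs. -/
noncomputable def upVal (W : X.Opens) (z : Γ(E, W)) : Γ(F, π ⁻¹ᵁ W) := φ.app W z

theorem upVal_add (W : X.Opens) (z z' : Γ(E, W)) : upVal φ W (z + z') = upVal φ W z + upVal φ W z' :=
  map_add _ _ _

theorem upVal_smul (W : X.Opens) (t : Γ(X, W)) (z : Γ(E, W)) :
    upVal φ W (t • z) = (π.app W).hom t • upVal φ W z :=
  Scheme.Modules.Hom.app_smul φ t z

theorem upVal_res {W W' : X.Opens} (h : W' ≤ W) (z : Γ(E, W)) :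
    upVal φ W' (res E h z) = res F (π.preimage_mono h) (upVal φ W z) :=
  AModX.app_res φ h z

/-- The map on exterior powers. -/
noncomputable def PF (c : ℕ) (U : X.affineOpens) : EM E c U →+ EM F c (preA π U) :=
  letI := (π.app U.1).hom.toAlgebra
  letI : Module Γ(X, U.1) Γ(F, π ⁻¹ᵁ U.1) := Module.compHom _ (π.app U.1).hom
  haveI : IsScalarTower Γ(X, U.1) Γ(Y, π ⁻¹ᵁ U.1) Γ(F, π ⁻¹ᵁ U.1) :=
    ⟨fun a b x => mul_smul ((π.app U.1).hom a) b x⟩
  (extLoc Γ(Y, π ⁻¹ᵁ U.1)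
    ({ toFun := upVal φ U.1, map_add' := upVal_add φ U.1, map_smul' := upVal_smul φ U.1 } :
      Γ(E, U.1) →ₗ[Γ(X, U.1)] Γ(F, π ⁻¹ᵁ U.1)) c).toAddMonoidHom

theorem PF_ιMulti {c : ℕ} {U : X.affineOpens} (e : Fin c → Γ(E, U.1)) :
    PF φ c U (ιMulti _ c e) = ιMulti _ c fun j => upVal φ U.1 (e j) := by
  letI := (π.app U.1).hom.toAlgebra
  letI : Module Γ(X, U.1) Γ(F, π ⁻¹ᵁ U.1) := Module.compHom _ (π.app U.1).hom
  haveI : IsScalarTower Γ(X, U.1) Γ(Y, π ⁻¹ᵁ U.1) Γ(F, π ⁻¹ᵁ U.1) :=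
    ⟨fun a b x => mul_smul ((π.app U.1).hom a) b x⟩
  exact extLoc_ιMulti _ c e

theorem PF_smul {c : ℕ} {U : X.affineOpens} (t : Γ(X, U.1)) (z : EM E c U) :
    PF φ c U (t • z) = (π.app U.1).hom t • PF φ c U z := by
  letI := (π.app U.1).hom.toAlgebra
  letI : Module Γ(X, U.1) Γ(F, π ⁻¹ᵁ U.1) := Module.compHom _ (π.app U.1).hom
  haveI : IsScalarTower Γ(X, U.1) Γ(Y, π ⁻¹ᵁ U.1) Γ(F, π ⁻¹ᵁ U.1) :=
    ⟨fun a b x => mul_smul ((π.app U.1).hom a) b x⟩
  show extLoc Γ(Y, π ⁻¹ᵁ U.1) _ c (t • z) = _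
  rw [map_smul, ← algebraMap_smul Γ(Y, π ⁻¹ᵁ U.1) t]
  rfl

theorem PF_rMap {c : ℕ} {U V : X.affineOpens} (h : V.1 ≤ U.1) (z : EM E c U) :
    rMap F c (V' := preA π V) (π.preimage_mono h : (preA π V).1 ≤ (preA π U).1) (PF φ c U z) =
      PF φ c V (rMap E c h z) := by
  refine extHom_ext ((rMap F c (V' := preA π V) (π.preimage_mono h : (preA π V).1 ≤ (preA π U).1)).comp (PF φ c U))
    ((PF φ c V).comp (rMap E c h)) (fun t => (π.app V.1).hom (resR h t))
    (fun t z => ?_) (fun t z => ?_) (fun e => ?_) z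
  · rw [AddMonoidHom.comp_apply, PF_smul, rMap_smul]
    congr 1
    exact congr($(π.naturality (homOfLE h).op) t).symm
  · rw [AddMonoidHom.comp_apply, rMap_smul, PF_smul]
    rfl
  · rw [AddMonoidHom.comp_apply, AddMonoidHom.comp_apply, PF_ιMulti, rMap_ιMulti, rMap_ιMulti, PF_ιMulti]
    congr 1
    funext j
    exact (upVal_res φ h (e j)).symm

/-- The induced map of exterior powers. -/
theorem exists_extPush {c : ℕ} {Le : X.Modules} {Lf : Y.Modules} (φE : EP c E Le) (φF : EP c F Lf) :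
    ∃ r : Le ⟶ (Scheme.Modules.pushforward π).obj Lf, ∀ (U : X.affineOpens) (z : Γ(Le, U.1)),
      (show Γ(Lf, π ⁻¹ᵁ U.1) from r.app U.1 z) = (φF.φ (preA π U)).symm (PF φ c U (φE.φ U z)) := by
  obtain ⟨r, hr⟩ := LimitsH94.GlueHom.exists_hom_of_basis (M := Le)
    (N := (Scheme.Modules.pushforward π).obj Lf) (fun _ => True) (fun _ _ _ h => h)
    (fun x => by
      obtain ⟨V, hV, hx, -⟩ := exists_isAffineOpen_mem_and_subset (x := x) (U := ⊤) trivial
      exact ⟨⟨V, hV⟩, trivial, hx⟩)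
    (fun U _ => { toFun := fun z => (φF.φ (preA π U)).symm (PF φ c U (φE.φ U z))
                  map_add' := fun a b => by rw [map_add, map_add, map_add]
                  map_smul' := fun a b => by rw [map_smul, PF_smul, map_smul, RingHom.id_apply]; rfl })
    (fun U W _ _ h z => by
      show res Lf (π.preimage_mono h) ((φF.φ (preA π U)).symm (PF φ c U (φE.φ U z))) =
        (φF.φ (preA π W)).symm (PF φ c W (φE.φ W (res Le h z)))
      rw [show res Lf (π.preimage_mono h) ((φF.φ (preA π U)).symm (PF φ c U (φE.φ U z))) =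
        (φF.φ (preA π W)).symm (rMap F c (π.preimage_mono h : (preA π W).1 ≤ (preA π U).1) (PF φ c U (φE.φ U z)))
        from φF.res_symm (preA π U) (preA π W) (π.preimage_mono h) _, PF_rMap φ h]
      congr 2
      have := φE.res_symm U W h (φE.φ U z)
      rw [LinearEquiv.symm_apply_apply] at this
      rw [this, LinearEquiv.apply_symm_apply])
  exact ⟨r, fun U z => hr U trivial z⟩

theorem isIso_of_good {M N : X.Modules} (c : M ⟶ N)
    (h : ∀ (x : X) (O : X.Opens), x ∈ O → ∃ U : X.Opens, x ∈ U ∧ U ≤ O ∧ Function.Bijective (c.app U)) :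
    IsIso c := by
  haveI : Mono c := by
    refine ⟨fun {Z} g g' hg => Scheme.Modules.hom_ext _ _ fun W => ?_⟩
    ext z
    refine eq_of_locally _ _ fun p hp => ?_
    obtain ⟨U, hpU, hUW, hb⟩ := h p W hp
    refine ⟨U, hUW, hpU, hb.1 ?_⟩
    rw [AModX.app_res, AModX.app_res]
    exact congrArg (res N hUW) (congrArg (fun ψ : Z ⟶ N => ψ.app W z) hg)
  haveI : Epi c := by
    refine RelTildeX.epi_of_locally c fun W z x hx => ?_
    obtain ⟨U, hxU, hUW, hb⟩ := h x W hx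
    exact ⟨U, hUW, hxU, hb.2 _⟩
  exact isIso_of_mono_of_epi c

variable {Le : X.Modules} {Lf : Y.Modules} (r : Le ⟶ (Scheme.Modules.pushforward π).obj Lf)

/-- Multiplication of a pulled back section by a function upstairs. -/
noncomputable def pairing : H23.TensorDesc.Bilin Le ((Scheme.Modules.pushforward π).obj (Coh.structureModule Y))
    ((Scheme.Modules.pushforward π).obj Lf) where
  b U m n := (OmegaSh.fnSect Y (π ⁻¹ᵁ U) n • upVal r U m : Γ(Lf, π ⁻¹ᵁ U))
  add_left U m m' n := by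
    let fn : Γ(Y, π ⁻¹ᵁ U) := OmegaSh.fnSect Y (π ⁻¹ᵁ U) n
    show (fn • upVal r U (m + m') : Γ(Lf, π ⁻¹ᵁ U)) =
      (fn • upVal r U m : Γ(Lf, π ⁻¹ᵁ U)) + (fn • upVal r U m' : Γ(Lf, π ⁻¹ᵁ U))
    rw [upVal_add, smul_add]
  smul_left U t m n := by
    let fn : Γ(Y, π ⁻¹ᵁ U) := OmegaSh.fnSect Y (π ⁻¹ᵁ U) n
    show (fn • upVal r U (t • m) : Γ(Lf, π ⁻¹ᵁ U)) =
      (π.app U).hom t • (fn • upVal r U m : Γ(Lf, π ⁻¹ᵁ U))
    rw [upVal_smul, smul_comm]
  add_right U m n n' := by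
    show (OmegaSh.fnSect Y (π ⁻¹ᵁ U) (show Γ(Coh.structureModule Y, π ⁻¹ᵁ U) from n) +
        OmegaSh.fnSect Y (π ⁻¹ᵁ U) (show Γ(Coh.structureModule Y, π ⁻¹ᵁ U) from n')) • upVal r U m =
      (OmegaSh.fnSect Y (π ⁻¹ᵁ U) n • upVal r U m : Γ(Lf, π ⁻¹ᵁ U)) +
        (OmegaSh.fnSect Y (π ⁻¹ᵁ U) n' • upVal r U m : Γ(Lf, π ⁻¹ᵁ U))
    rw [add_smul]
  smul_right U t m n := by
    show ((π.app U).hom t * OmegaSh.fnSect Y (π ⁻¹ᵁ U) (show Γ(Coh.structureModule Y, π ⁻¹ᵁ U) from n)) • upVal r U m =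
      (π.app U).hom t • (OmegaSh.fnSect Y (π ⁻¹ᵁ U) n • upVal r U m : Γ(Lf, π ⁻¹ᵁ U))
    rw [mul_smul]
  res {U V} h m n := by
    show res Lf (π.preimage_mono h) (_ • upVal r U m) = _ • upVal r V _
    rw [res_smul, ← upVal_res]
    rfl

/-- The map out of the tensor product with the direct image of the functions. -/
noncomputable def pushMul : CohB1.tensorMod Le ((Scheme.Modules.pushforward π).obj (Coh.structureModule Y)) ⟶
    (Scheme.Modules.pushforward π).obj Lf := H23.TensorDesc.desc (pairing r)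

theorem pushMul_app {U : X.Opens} (m : Γ(Le, U))
    (n : Γ((Scheme.Modules.pushforward π).obj (Coh.structureModule Y), U)) :
    (show Γ(Lf, π ⁻¹ᵁ U) from (pushMul r).app U (InvX.tmul m n)) =
      OmegaSh.fnSect Y (π ⁻¹ᵁ U) n • upVal r U m :=
  VBCurvesLib.desc_app (pairing r) U m n

theorem bijective_pushMul (hLe : Coh.IsQCoh Le)
    (hP : Coh.IsQCoh ((Scheme.Modules.pushforward π).obj (Coh.structureModule Y))) {U : X.Opens}
    (hU : IsAffineOpen U) {ι : Type*} [Fintype ι] (e : Module.Basis ι Γ(X, U) Γ(Le, U))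
    (eY : Module.Basis ι Γ(Y, π ⁻¹ᵁ U) Γ(Lf, π ⁻¹ᵁ U)) (he : ∀ i, eY i = upVal r U (e i)) :
    Function.Bijective ((pushMul r).app U) := by
  classical
  let P := (Scheme.Modules.pushforward π).obj (Coh.structureModule Y)
  let T : Γ(CohB1.tensorMod Le P, U) → Γ(Lf, π ⁻¹ᵁ U) := fun z => (pushMul r).app U z
  have hT0 : T 0 = 0 := map_zero _
  have hTadd : ∀ a b, T (a + b) = T a + T b := fun a b => map_add _ _ _
  have hb := QCoh.bijective_tmLin hLe hP hU
  have hform : ∀ t : Γ(Le, U) ⊗[Γ(X, U)] Γ(P, U), ∃ n : ι → Γ(P, U), t = ∑ i, e i ⊗ₜ[Γ(X, U)] n i := by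
    intro t
    induction t using TensorProduct.induction_on with
    | zero => exact ⟨0, by simp⟩
    | tmul m n =>
      refine ⟨fun i => e.repr m i • n, ?_⟩
      conv_lhs => rw [← e.sum_repr m, TensorProduct.sum_tmul]
      exact Finset.sum_congr rfl fun i _ => TensorProduct.smul_tmul _ _ _
    | add a b ha hb =>
      obtain ⟨n, rfl⟩ := ha
      obtain ⟨n', rfl⟩ := hb
      exact ⟨n + n', by simp [TensorProduct.tmul_add, Finset.sum_add_distrib]⟩
  have hval : ∀ n : ι → Γ(P, U), T (QCoh.tmLin Le P U (∑ i, e i ⊗ₜ[Γ(X, U)] n i)) =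
      ∑ i, OmegaSh.fnSect Y (π ⁻¹ᵁ U) (n i) • eY i := fun n => by
    rw [map_sum]
    refine (map_sum (AddMonoidHom.mk' T hTadd) _ _).trans (Finset.sum_congr rfl fun i _ => ?_)
    rw [he]
    exact pushMul_app r (e i) (n i)
  refine ⟨fun z z' hzz => ?_, fun y => ?_⟩
  · obtain ⟨t, ht⟩ := hb.2 (z - z')
    obtain ⟨n, rfl⟩ := hform t
    have h0 : T (z - z') = 0 := by
      have h1 : T (z - z') + T z' = T z := by rw [← hTadd, sub_add_cancel]
      rw [show T z = T z' from hzz] at h1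
      exact add_eq_right.1 h1
    rw [← ht] at h0
    erw [hval] at h0
    have hn : ∀ i, n i = 0 := Fintype.linearIndependent_iff.1 eY.linearIndependent _ h0
    rw [← sub_eq_zero, ← ht]
    simp only [hn, TensorProduct.tmul_zero, Finset.sum_const_zero]
    exact map_zero _
  · refine ⟨QCoh.tmLin Le P U (∑ i, e i ⊗ₜ[Γ(X, U)]
      (OmegaSh.strSect Y (π ⁻¹ᵁ U) (eY.repr y i) : Γ(P, U))), ?_⟩
    exact (hval _).trans (eY.sum_repr y)

end Groth.Agent.H44Cyc
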