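import Groth.Agent.H44Cyc.LogFrame
import Groth.Agent.H44Cyc.PushTensor
import Groth.Agent.S17102
import Groth.Agent.QCoh.Extension
import Groth.Agent.Coh32.CechTerm

/-! # Logarithmic forms of the cover -/

universe u

open CategoryTheory CategoryTheory.Limits AlgebraicGeometry TopologicalSpace Opposite exteriorPower

set_option backward.isDefEq.respectTransparency false
set_option linter.style.haveILetI false
set_option linter.unusedSectionVars false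

namespace Groth.Agent.H44Cyc

open Groth.Agent.AModX Groth.Agent.InvX Groth.Agent.H44LogNCD

theorem isQCoh_logMod {X S : Scheme.{u}} {f : X ⟶ S} [Smooth f] {Ω' : X.Modules} {d : OmegaSh.Der f Ω'}
    (hd : OmegaSh.IsUniversal d) {r : ℕ} {D : Fin r → X.IdealSheafData} (hD : LogNCD.IsNCD D f)
    (Λ : LogNCD.LogMod d D) : Coh.IsQCoh Λ.L := by
  have h0 : Λ.ι ≫ Pi.lift Λ.res = 0 := Limits.Pi.hom_ext _ _ fun i => by
    rw [Category.assoc, Pi.lift_π, Λ.res_ι, zero_comp]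
  have hS := S17102.result f d hd D hD Λ h0
  have hq : ∀ i, Coh.IsQCoh (ClSub.quotMod (D i)) := fun i =>
    QCoh.isQCoh_pushforward (D i).subschemeι QCoh.isQCoh_structureModule
  have hP : Coh.IsQCoh (∏ᶜ fun i => ClSub.quotMod (D i)) := by
    refine (QCoh.isQCoh_iff_iso (?_ : (∏ᶜ fun i => ClSub.quotMod (D i)) ≅
      ∏ᶜ fun i : ULift.{u} (Fin r) => ClSub.quotMod (D i.down))).2
      (Coh32.isQCoh_pi (fun i : ULift.{u} (Fin r) => ClSub.quotMod (D i.down)) fun i => hq _)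
    exact (Pi.whiskerEquiv Equiv.ulift fun _ => Iso.refl _).symm
  exact QCoh.isQCoh_X₂ hS (Synt29.OmegaStalk.isQCoh_of_isUniversal hd) hP

variable {k : Type u} [Field k] [IsAlgClosed k] {X Y : Scheme.{u}} [IsIntegral X] {r : ℕ}
  {D : Fin r → X.IdealSheafData} {φ : X ⟶ Spec (CommRingCat.of k)} [Smooth φ] {π : Y ⟶ X} [IsAffineHom π]
  {α : Fin r → ℕ} {L : X.Modules} {N : ℕ} {s : Coh.structureModule X ⟶ CohB1.tensorPow L N}
  {R : CycCov.Root L N s π}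
  {ΩX : X.Modules} {dX : OmegaSh.Der φ ΩX} {ΩY : Y.Modules} {dY : OmegaSh.Der (π ≫ φ) ΩY}
  (ΛX : LogNCD.LogMod dX D) (ΛY : LogNCD.LogMod dY (fun j : Fin r => ((D j).comap π).radical))

/-- The pull-back of log forms is a frame on charts. -/
theorem exists_pullLog_frame (hL : PicF.IsInvertible L) (hN : 0 < N) (hNk : (N : k) ≠ 0) (hD : LogNCD.IsNCD D φ)
    (hs : CycCov.IsZeroDiv (CohB1.tensorPow L N) s (CycCov.divIdeal D α)) (hR : CycCov.IsCover R)
    (hdisj : ∀ (x : X) (j j' : Fin r), x ∈ (D j).support → x ∈ (D j').support → j = j')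
    (hdX : OmegaSh.IsUniversal dX) (hdY : OmegaSh.IsUniversal dY)
    (hΔ : LogNCD.IsNCD (fun j : Fin r => ((D j).comap π).radical) (π ≫ φ)) :
    ∃ (β : ΩX ⟶ (Scheme.Modules.pushforward π).obj ΩY) (Φ : ΛX.L ⟶ (Scheme.Modules.pushforward π).obj ΛY.L),
      (∀ (W : X.Opens) (a : Γ(X, W)), pullAt β W (dX.app W a) = dY.app (π ⁻¹ᵁ W) (π.app W a)) ∧
      (∀ (U : X.affineOpens) (g : Fin r → Γ(X, U.1)), PullGood ΛY (D := D) U →
        (∀ i, (D i).ideal U = Ideal.span {g i}) → ∀ z, PRel ΛX ΛY β U.1 g z (Φ.app U.1 z)) ∧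
      ∀ (x : X) (O : X.Opens), x ∈ O → ∃ (U : X.affineOpens) (c : LogCh π α ΛX U)
        (BY : Module.Basis (Fin c.n) Γ(Y, π ⁻¹ᵁ U.1) Γ(ΛY.L, π ⁻¹ᵁ U.1)),
        x ∈ U.1 ∧ U.1 ≤ O ∧ ∀ l, BY l = upVal Φ U.1 (c.BX l) := by
  obtain ⟨β, hβ⟩ := exists_pullΩ π dY hdX
  have hreg := pullReg hΔ ΛY
  have hch := fun (x : X) (O : X.Opens) (hx : x ∈ O) =>
    exists_logCh φ hL hN hNk hD hs hR hdisj hdX ΛX hx
  obtain ⟨Φ, hΦ⟩ := exists_pullLog (ΛX := ΛX) (ΛY := ΛY) (α := β) hβ hreg fun x => by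
    obtain ⟨U, hxU, -, ⟨c⟩⟩ := hch x ⊤ trivial
    exact ⟨U, c.pullGood, hxU⟩
  refine ⟨β, Φ, hβ, hΦ, fun x O hx => ?_⟩
  obtain ⟨U, hxU, hUO, ⟨c⟩⟩ := hch x O hx
  obtain ⟨BY, hBY⟩ := c.exists_basis hdX hdY hβ hreg Φ hΦ
  exact ⟨U, c, BY, hxU, hUO, hBY⟩

theorem nonempty_pushforward_iso (hL : PicF.IsInvertible L) (hN : 0 < N) (hNk : (N : k) ≠ 0) (hD : LogNCD.IsNCD D φ)
    (hs : CycCov.IsZeroDiv (CohB1.tensorPow L N) s (CycCov.divIdeal D α)) (hR : CycCov.IsCover R)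
    (hdisj : ∀ (x : X) (j j' : Fin r), x ∈ (D j).support → x ∈ (D j').support → j = j')
    (hdX : OmegaSh.IsUniversal dX) (hdY : OmegaSh.IsUniversal dY)
    (hΔ : LogNCD.IsNCD (fun j : Fin r => ((D j).comap π).radical) (π ≫ φ))
    {b : ℕ} {LbX : X.Modules} (hLbX : ExtPow.IsExtPow b ΛX.L LbX) {LbY : Y.Modules}
    (hLbY : ExtPow.IsExtPow b ΛY.L LbY) :
    Nonempty ((Scheme.Modules.pushforward π).obj LbY ≅
      CohB1.tensorMod LbX ((Scheme.Modules.pushforward π).obj (Coh.structureModule Y))) := by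
  classical
  obtain ⟨β, Φ, -, -, hfr⟩ := exists_pullLog_frame ΛX ΛY hL hN hNk hD hs hR hdisj hdX hdY hΔ
  obtain ⟨φE⟩ := H44Adj.exists_ep hLbX
  obtain ⟨φF⟩ := H44Adj.exists_ep hLbY
  obtain ⟨r', hr⟩ := exists_extPush Φ φE φF
  have hq := H44Adj.isQCoh_ep (isQCoh_logMod hdX hD ΛX) hLbX
  have hP : Coh.IsQCoh ((Scheme.Modules.pushforward π).obj (Coh.structureModule Y)) :=
    QCoh.isQCoh_pushforward π QCoh.isQCoh_structureModule
  haveI : IsIso (pushMul r') := isIso_of_good _ fun x O hx => by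
    obtain ⟨U, c, BY, hxU, hUO, hBY⟩ := hfr x O hx
    let e := (c.BX.exteriorPower b).map (φE.φ U).symm
    let eY := (BY.exteriorPower b).map (φF.φ (preA π U)).symm
    refine ⟨U.1, hxU, hUO, bijective_pushMul r' hq hP U.2 e eY fun I => ?_⟩
    show _ = (show Γ(LbY, π ⁻¹ᵁ U.1) from r'.app U.1 (e I))
    rw [hr, Module.Basis.map_apply, Module.Basis.map_apply, LinearEquiv.apply_symm_apply,
      exteriorPower.basis_apply, exteriorPower.basis_apply]
    congr 1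
    rw [exteriorPower.ιMulti_family, exteriorPower.ιMulti_family, PF_ιMulti]
    congr 1
    funext j
    exact hBY _
  exact ⟨(asIso (pushMul r')).symm⟩

end Groth.Agent.H44Cyc
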