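import Groth.Agent.H44Cyc.BranchScheme
import Groth.Agent.H44Cyc.EtaleChart

/-! # The reduced preimage of a normal crossing divisor with smooth branch locus -/

universe u

open CategoryTheory AlgebraicGeometry TopologicalSpace Opposite

set_option backward.isDefEq.respectTransparency false
set_option linter.style.haveILetI false
set_option linter.unusedSectionVars false

namespace Groth.Agent.H44Cyc

open Groth.Agent.AModX Groth.Agent.InvX

/-- A chart from an étale map of rings. -/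
theorem etale_homOfVector {R : CommRingCat.{u}} {Z : Scheme.{u}} [IsAffine Z] {σ : Type u}
    (a : Z ⟶ Spec R) (c : σ → Γ(Z, ⊤)) (ψ : MvPolynomial σ R →+* Γ(Z, ⊤)) (hψ : ψ.Etale)
    (hC : ∀ x, ψ (MvPolynomial.C x) = a.appTop ((Scheme.ΓSpecIso R).inv x)) (hX : ∀ j, ψ (MvPolynomial.X j) = c j) :
    Etale (AffineSpace.homOfVector a c) := by
  let ψc : CommRingCat.of (MvPolynomial σ R) ⟶ Γ(Z, ⊤) := CommRingCat.ofHom ψ
  have h2 : AffineSpace.homOfVector a c = Z.isoSpec.hom ≫ Spec.map ψc ≫ (AffineSpace.SpecIso _ R).inv := by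
    refine AffineSpace.hom_ext ?_ fun j => ?_
    · rw [AffineSpace.homOfVector_over, Category.assoc, Category.assoc, AffineSpace.SpecIso_inv_over, ← Spec.map_comp,
        show CommRingCat.ofHom MvPolynomial.C ≫ ψc = (Scheme.ΓSpecIso R).inv ≫ a.appTop from
          CommRingCat.hom_ext (RingHom.ext hC), Spec.map_comp, Scheme.isoSpec_hom_naturality_assoc]
      simp [Scheme.isoSpec_Spec_hom, ← Spec.map_comp]
    · rw [AffineSpace.homOfVector_appTop_coord, Scheme.Hom.comp_appTop, Scheme.Hom.comp_appTop,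
        CommRingCat.comp_apply, CommRingCat.comp_apply, AffineSpace.SpecIso_inv_appTop_coord,
        show (Spec.map ψc).appTop ((Scheme.ΓSpecIso (CommRingCat.of (MvPolynomial σ R))).inv (MvPolynomial.X j)) =
          (Scheme.ΓSpecIso Γ(Z, ⊤)).inv (ψ (MvPolynomial.X j)) from
          (ConcreteCategory.congr_hom (Scheme.ΓSpecIso_inv_naturality ψc) (MvPolynomial.X j)).symm]
      show c j = Z.isoSpec.hom.appTop ((Scheme.ΓSpecIso Γ(Z, ⊤)).inv (ψ (MvPolynomial.X j)))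
      rw [hX, Scheme.isoSpec_hom, Scheme.toSpecΓ_appTop, Iso.inv_hom_id_apply]
  haveI : Etale (Spec.map ψc) := (HasRingHomProperty.Spec_iff (P := @Etale)).2 hψ
  rw [h2]
  infer_instance

variable {k : Type u} [Field k] [IsAlgClosed k] {X : Scheme.{u}}

/-- The canonical map of the field to the functions. -/
noncomputable def kHom (φ : X ⟶ Spec (CommRingCat.of k)) (U : X.Opens) : k →+* Γ(X, U) :=
  ((φ.appLE ⊤ U le_top).hom).comp (Scheme.ΓSpecIso (CommRingCat.of k)).inv.hom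

/-- A chart of the divisor with its étale coordinates and the frame of the differentials. -/
theorem exists_coord_chart_le {r : ℕ} (φ : X ⟶ Spec (CommRingCat.of k)) (D : Fin r → X.IdealSheafData)
    (hD : LogNCD.IsNCD D φ) {L : X.Modules} (hL : PicF.IsInvertible L) {x : X}
    (hth : Nonempty (LogNCD.Through D x)) {O : X.Opens} (hxO : x ∈ O) :
    ∃ (U : X.affineOpens) (e : Γ(L, U.1)) (n : ℕ) (ψ : MvPolynomial (ULift.{u} (Fin n)) k →+* Γ(X, U.1))
      (en : LogNCD.Through D x → Fin n), x ∈ U.1 ∧ U.1 ≤ O ∧ IsFrame e ∧ ψ.Etale ∧ Function.Injective en ∧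
      (∀ a, ψ (MvPolynomial.C a) = kHom φ U.1 a) ∧
      (∀ i : LogNCD.Through D x, (D i.1).ideal U = Ideal.span {ψ (MvPolynomial.X (ULift.up (en i)))}) ∧
      (∀ i, x ∉ (D i).support → (D i).ideal U = ⊤) ∧
      ∀ {Ω' : X.Modules} {d : OmegaSh.Der φ Ω'}, OmegaSh.IsUniversal d →
        ∃ b : Module.Basis (Fin n) Γ(X, U.1) Γ(Ω', U.1),
          ∀ j, b j = d.app U.1 (ψ (MvPolynomial.X (ULift.up j))) := by
  obtain ⟨W, hxW, n, v, en, heinj, het, hin, hout⟩ := hD x hth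
  obtain ⟨W₁, hxW₁, e₁, he₁⟩ := InvX.exists_frame hL x
  obtain ⟨U₁, hU₁, hxU, hle⟩ := Opens.isBasis_iff_nbhd.mp X.isBasis_affineOpens
    (show x ∈ W ⊓ W₁ ⊓ O from ⟨⟨hxW, hxW₁⟩, hxO⟩)
  let U : X.affineOpens := ⟨U₁, hU₁⟩
  have hUW : U.1 ≤ W := (hle.trans inf_le_left).trans inf_le_left
  let e : Γ(L, U.1) := res L ((hle.trans inf_le_left).trans inf_le_right) e₁
  have he : IsFrame e := he₁.res _
  let S := Spec (CommRingCat.of k)
  have hV : IsAffineOpen (⊤ : S.Opens) := isAffineOpen_top S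
  letI := (φ.appLE ⊤ U.1 le_top).hom.toAlgebra
  have he0 := H44LogNCD.etale_aeval het U.2 hUW hV le_top
  let ι₀ : k ≃+* Γ(S, ⊤) := (Scheme.ΓSpecIso (CommRingCat.of k)).symm.commRingCatIsoToRingEquiv
  have hX : ∀ j, ((MvPolynomial.aeval (R := Γ(S, ⊤)) fun j => LogNCD.sectOn W hUW (v j)).toRingHom.comp
      (MvPolynomial.mapEquiv _ ι₀).toRingHom) (MvPolynomial.X j) = LogNCD.sectOn W hUW (v j) := fun j => by
    simp
  refine ⟨U, e, n, (MvPolynomial.aeval (R := Γ(S, ⊤)) fun j => LogNCD.sectOn W hUW (v j)).toRingHom.comp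
    (MvPolynomial.mapEquiv _ ι₀).toRingHom, en, hxU, hle.trans inf_le_right, he,
    RingHom.Etale.stableUnderComposition _ _
      (RingHom.Etale.of_bijective (MvPolynomial.mapEquiv _ ι₀).bijective) he0, heinj, fun a => ?_,
    fun i => ?_, fun i hi => hout i hi U hUW, fun {Ω' d} hd => ?_⟩
  · simp only [RingHom.comp_apply, RingEquiv.toRingHom_eq_coe, RingHom.coe_coe, MvPolynomial.mapEquiv_apply,
      MvPolynomial.map_C, AlgHom.toRingHom_eq_coe, MvPolynomial.aeval_C]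
    rfl
  · rw [hin i U hUW, hX]
  · obtain ⟨b, hb⟩ := (H44LogNCD.exists_basis_of_etale het hd U.2 hUW hV le_top).1
    exact ⟨b, fun j => by rw [hb, hX]⟩

/-- A chart of the divisor with its étale coordinates. -/
theorem exists_coord_chart {r : ℕ} (φ : X ⟶ Spec (CommRingCat.of k)) (D : Fin r → X.IdealSheafData)
    (hD : LogNCD.IsNCD D φ) {L : X.Modules} (hL : PicF.IsInvertible L) {x : X}
    (hth : Nonempty (LogNCD.Through D x)) :
    ∃ (U : X.affineOpens) (e : Γ(L, U.1)) (n : ℕ) (ψ : MvPolynomial (ULift.{u} (Fin n)) k →+* Γ(X, U.1))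
      (en : LogNCD.Through D x → Fin n), x ∈ U.1 ∧ IsFrame e ∧ ψ.Etale ∧ Function.Injective en ∧
      (∀ a, ψ (MvPolynomial.C a) = kHom φ U.1 a) ∧
      (∀ i : LogNCD.Through D x, (D i.1).ideal U = Ideal.span {ψ (MvPolynomial.X (ULift.up (en i)))}) ∧
      ∀ i, x ∉ (D i).support → (D i).ideal U = ⊤ := by
  obtain ⟨U, e, n, ψ, en, h1, -, h2, h3, h4, h5, h6, h7, -⟩ :=
    exists_coord_chart_le φ D hD hL hth (O := ⊤) trivial
  exact ⟨U, e, n, ψ, en, h1, h2, h3, h4, h5, h6, h7⟩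

variable [IsIntegral X] {Y : Scheme.{u}} {L : X.Modules} {N : ℕ}
  {s : Coh.structureModule X ⟶ CohB1.tensorPow L N} {π : Y ⟶ X} {R : CycCov.Root L N s π} {r : ℕ}
  {D : Fin r → X.IdealSheafData} {α : Fin r → ℕ}

theorem isNCD_radical_comap (φ : X ⟶ Spec (CommRingCat.of k)) [Smooth φ] (hL : PicF.IsInvertible L) (hN : 0 < N)
    (hNk : (N : k) ≠ 0) (hD : LogNCD.IsNCD D φ)
    (hs : CycCov.IsZeroDiv (CohB1.tensorPow L N) s (CycCov.divIdeal D α)) (hR : CycCov.IsCover R)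
    (hdisj : ∀ (x : X) (j j' : Fin r), 0 < α j → 0 < α j' → x ∈ (D j).support → x ∈ (D j').support → j = j') :
    LogNCD.IsNCD (fun j : Fin r => ((D j).comap π).radical) (π ≫ φ) := by
  classical
  haveI := hR.1
  intro y hy
  have hsupp : ∀ i, y ∈ (((D i).comap π).radical).support ↔ π y ∈ (D i).support := fun i => by
    rw [Scheme.IdealSheafData.support_radical, Scheme.IdealSheafData.support_comap]
    rfl
  have hth : Nonempty (LogNCD.Through D (π y)) := hy.map fun i => ⟨i.1, (hsupp i.1).1 i.2⟩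
  obtain ⟨U, e, n, ψ, en, hxU, he, hψ, heinj, hψC, hin, hout⟩ := exists_coord_chart φ D hD hL hth
  haveI : Nonempty U.1 := ⟨⟨π y, hxU⟩⟩
  obtain ⟨hNA, ζ, hζ⟩ := exists_primitiveRoot φ hNk U.1
  haveI := isIntegrallyClosed_sections φ U.2
  haveI := isRegularRing_sections φ U.2
  obtain ⟨-, hreg⟩ := regular_of_etale ψ hψ
  -- the equations
  let g : Fin r → Γ(X, U.1) := fun l =>
    if hl : π y ∈ (D l).support then ψ (MvPolynomial.X (ULift.up (en ⟨l, hl⟩))) else 1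
  have gpos : ∀ l (hl : π y ∈ (D l).support), g l = ψ (MvPolynomial.X (ULift.up (en ⟨l, hl⟩))) :=
    fun l hl => dif_pos hl
  have gneg : ∀ l, π y ∉ (D l).support → g l = 1 := fun l hl => dif_neg hl
  have gspan : ∀ l, (D l).ideal U = Ideal.span {g l} := fun l => by
    by_cases hl : π y ∈ (D l).support
    · rw [gpos l hl]; exact hin ⟨l, hl⟩
    · rw [gneg l hl, Ideal.span_singleton_one]; exact hout l hl
  have gne : ∀ l, g l ≠ 0 := fun l => by
    by_cases hl : π y ∈ (D l).support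
    · rw [gpos l hl]
      intro h0
      have h1 := (hreg (ULift.up (en ⟨l, hl⟩))).1
        (show ψ _ • (1 : Γ(X, U.1)) = ψ _ • (0 : Γ(X, U.1)) by rw [h0, zero_smul, zero_smul])
      exact one_ne_zero h1
    · rw [gneg l hl]; exact one_ne_zero
  obtain ⟨j₀, hj₀, hbr⟩ : ∃ j₀, π y ∈ (D j₀).support ∧ ∀ l, l ≠ j₀ → g l ^ α l = 1 := by
    by_cases hex : ∃ j₀, 0 < α j₀ ∧ π y ∈ (D j₀).support
    · obtain ⟨j₀, hα, hj₀⟩ := hex
      refine ⟨j₀, hj₀, fun l hl => ?_⟩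
      rcases Nat.eq_zero_or_pos (α l) with h0 | h0
      · rw [h0, pow_zero]
      · rw [gneg l fun hm => hl (hdisj _ l j₀ h0 hα hm hj₀), one_pow]
    · push Not at hex
      obtain ⟨⟨j₀, hj₀⟩⟩ := hth
      refine ⟨j₀, hj₀, fun l _ => ?_⟩
      rcases Nat.eq_zero_or_pos (α l) with h0 | h0
      · rw [h0, pow_zero]
      · rw [gneg l (hex l h0), one_pow]
  obtain ⟨f, hf⟩ := exists_coord_val s he
  have hc := covData hL hN hR U he hf
  obtain ⟨w, hw⟩ := Ideal.span_singleton_eq_span_singleton.1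
    ((span_coord hs he hf).symm.trans (ideal_divIdeal_span D α gspan)).symm
  have hfw : f = (w : Γ(X, U.1)) * g j₀ ^ α j₀ := by
    rw [← hw, mul_comm, Finset.prod_eq_single j₀ (fun l _ hl => hbr l hl) (fun h => absurd (Finset.mem_univ _) h)]
  let e0 : ULift.{u} (Fin n) := ULift.up (en ⟨j₀, hj₀⟩)
  have hg0' : g j₀ = ψ (MvPolynomial.X e0) := gpos j₀ hj₀
  rw [hg0'] at hfw
  haveI : IsRegularRing (Γ(X, U.1) ⧸ Ideal.span {ψ (MvPolynomial.X e0)}) := (hreg e0).2.1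
  have hne0 : ψ (MvPolynomial.X e0) ≠ 0 := hg0' ▸ gne j₀
  have hspan0 : (D j₀).ideal U = Ideal.span {ψ (MvPolynomial.X e0)} := hin ⟨j₀, hj₀⟩
  have hcomp : Comp (fun _ : Fin 1 => D j₀) U fun _ => ψ (MvPolynomial.X e0) :=
    ⟨fun _ => hspan0, fun _ => hne0, fun _ => inferInstance, fun i j hij => absurd (Subsingleton.elim i j) hij⟩
  have hmax : ∀ (j : Fin N) (a b : Γ(X, U.1)), b ≠ 0 → b ^ N ∣ a ^ N * f ^ (j : ℕ) →
      b ∣ a * ψ (MvPolynomial.X e0) ^ ((j : ℕ) * α j₀ / N) := fun j a b hb hdvd => by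
    have h1 := hcomp.max_div φ (le_refl U.1) (fun _ => α j₀) w.isUnit hN j (a := a) hb
      (by simpa [resR_self, ← hfw] using hdvd)
    simpa [resR_self] using h1
  obtain ⟨gg, m, i₀, hNgm, -, hg0, hm0, ρ, hρ⟩ := hc.exists_model_equiv hN hNA hζ hne0 w hfw hmax
  have hgA : IsUnit (gg : Γ(X, U.1)) := isUnit_of_dvd_unit ⟨(m : Γ(X, U.1)), by rw [hNgm, Nat.cast_mul]⟩ hNA
  -- the prime of the point
  have hπU : IsAffineOpen (π ⁻¹ᵁ U.1) := U.2.preimage π
  let P : Ideal Γ(Y, π ⁻¹ᵁ U.1) := (hπU.primeIdealOf ⟨y, hxU⟩).asIdeal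
  let q : Ideal (CycCovLib.DD gg w m i₀ (ψ (MvPolynomial.X e0))) := P.comap ρ.toRingHom
  have hmemq : ∀ b : Γ(Y, π ⁻¹ᵁ U.1), b ∉ P ↔ y ∈ Y.basicOpen b := fun b => by
    letI : Algebra Γ(Y, π ⁻¹ᵁ U.1) (Y.presheaf.stalk y) := (Y.presheaf.germ _ y hxU).hom.toAlgebra
    haveI : IsLocalization.AtPrime (Y.presheaf.stalk y) P := hπU.isLocalization_stalk ⟨y, hxU⟩
    rw [Scheme.mem_basicOpen _ _ y hxU]
    exact (IsLocalization.AtPrime.isUnit_to_map_iff (Y.presheaf.stalk y) P b).symm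
  have hhq : (π.app U.1).hom (ψ (MvPolynomial.X e0)) ∈ P := by
    by_contra hb
    rw [hmemq, ← Scheme.preimage_basicOpen] at hb
    have hx' := (Scheme.IdealSheafData.mem_support_iff_of_mem hxU).1 hj₀
    rw [hspan0, Scheme.mem_zeroLocus_iff] at hx'
    exact hx' _ (Ideal.mem_span_singleton_self _) hb
  have hq : algebraMap Γ(X, U.1) _ (ψ (MvPolynomial.X e0)) ∈ q := by
    show ρ (algebraMap _ _ (ψ (MvPolynomial.X e0))) ∈ P
    rw [hρ]; exact hhq
  obtain ⟨δ, hδq, hchart⟩ := exists_etale_chart ψ hψ e0 hg0 hgA w hm0 q hq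
  -- the chart upstairs
  let V : Y.Opens := Y.basicOpen (ρ δ)
  have hV : IsAffineOpen V := hπU.basicOpen (ρ δ)
  have hyV : y ∈ V := (hmemq _).1 hδq
  have hVU : V ≤ π ⁻¹ᵁ U.1 := Y.basicOpen_le _
  haveI : IsAffine V.toScheme := hV
  let θ : Γ(Y, π ⁻¹ᵁ U.1) →+* Γ(V.toScheme, ⊤) := V.topIso.inv.hom.comp (resR hVU)
  letI : Algebra (CycCovLib.DD gg w m i₀ (ψ (MvPolynomial.X e0))) Γ(V.toScheme, ⊤) := (θ.comp ρ.toRingHom).toAlgebra
  haveI : IsLocalization.Away δ Γ(V.toScheme, ⊤) := by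
    letI : Algebra Γ(Y, π ⁻¹ᵁ U.1) Γ(Y, V) := (resR hVU).toAlgebra
    haveI : IsLocalization.Away (ρ δ) Γ(Y, V) := hπU.isLocalization_basicOpen (ρ δ)
    letI : Algebra Γ(Y, π ⁻¹ᵁ U.1) Γ(V.toScheme, ⊤) := θ.toAlgebra
    haveI : IsLocalization.Away (ρ δ) Γ(V.toScheme, ⊤) :=
      IsLocalization.isLocalization_of_algEquiv (Submonoid.powers (ρ δ))
        (AlgEquiv.ofRingEquiv (f := V.topIso.symm.commRingCatIsoToRingEquiv) fun _ => rfl)
    refine IsLocalization.isLocalization_of_base_ringEquiv (Submonoid.powers (ρ δ)) Γ(V.toScheme, ⊤) ρ.symm |> fun h => ?_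
    rw [Submonoid.map_powers, show ρ.symm (ρ δ) = δ from ρ.symm_apply_apply δ] at h
    exact h
  let v' : ULift.{u} (Fin n) → Γ(V.toScheme, ⊤) := fun j =>
    if j = e0 then θ (ρ (CycCovLib.S gg w m i₀ (ψ (MvPolynomial.X e0)))) else θ ((π.app U.1).hom (ψ (MvPolynomial.X j)))
  let ψ' : MvPolynomial (ULift.{u} (Fin n)) k →+* Γ(V.toScheme, ⊤) :=
    MvPolynomial.eval₂Hom ((θ.comp (π.app U.1).hom).comp (kHom φ U.1)) v'
  have hψ'X : ∀ j, ψ' (MvPolynomial.X j) = v' j := fun j => MvPolynomial.eval₂Hom_X' _ _ j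
  have hψ'C : ∀ a, ψ' (MvPolynomial.C a) = θ ((π.app U.1).hom (kHom φ U.1 a)) := fun a => MvPolynomial.eval₂Hom_C _ _ a
  have hψ' : ψ'.Etale := by
    refine hchart Γ(V.toScheme, ⊤) ψ' (fun a => ?_) ?_ fun j hj => ?_
    · rw [hψ'C]
      show _ = θ (ρ _)
      rw [hρ, hψC]
    · rw [hψ'X]; exact if_pos rfl
    · rw [hψ'X]
      show _ = θ (ρ _)
      rw [hρ]
      exact if_neg hj
  refine ⟨V, hyV, n, v', fun i => en ⟨i.1, (hsupp i.1).1 i.2⟩,
    fun a b hab => Subtype.ext (congrArg Subtype.val (heinj hab) :), ?_, fun i Z hZ => ?_, fun i hi Z hZ => ?_⟩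
  · refine etale_homOfVector _ _ ψ' hψ' (fun a => ?_) hψ'X
    rw [hψ'C]
    let c₀ : Γ(Spec (CommRingCat.of k), ⊤) := (Scheme.ΓSpecIso (CommRingCat.of k)).inv a
    show V.topIso.inv (resR hVU ((π.app U.1).hom (resR (le_top : U.1 ≤ φ ⁻¹ᵁ ⊤) (φ.appTop c₀)))) =
      V.ι.appTop (π.appTop (φ.appTop c₀))
    rw [← res_app (π := π) (le_top : U.1 ≤ φ ⁻¹ᵁ ⊤), resR_resR, Scheme.Opens.ι_appTop]
    show Y.presheaf.map _ (Y.presheaf.map _ _) = Y.presheaf.map _ _
    rw [← CommRingCat.comp_apply, ← Functor.map_comp]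
    rfl
  -- the ideals
  · have htop : ∀ z, LogNCD.sectOn V (le_refl V) z = V.topIso.hom z := fun z => resR_self _
    have hθ : ∀ b, LogNCD.sectOn V (le_refl V) (θ b) = resR hVU b := fun b => by
      rw [htop]
      exact V.topIso.inv_hom_id_apply (resR hVU b)
    have hsect : ∀ (z : Γ(V.toScheme, ⊤)),
        resR hZ (LogNCD.sectOn V (le_refl V) z) = LogNCD.sectOn V hZ z := fun z => by
      simp [LogNCD.sectOn, resR, ← CommRingCat.comp_apply, ← Functor.map_comp]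
    have hVrad : (((D i.1).comap π).radical).ideal ⟨V, hV⟩ =
        Ideal.span {LogNCD.sectOn V (le_refl V) (v' (ULift.up (en ⟨i.1, (hsupp i.1).1 i.2⟩)))} := by
      obtain ⟨-, hreg'⟩ := regular_of_etale ψ' hψ'
      let jj : ULift.{u} (Fin n) := ULift.up (en ⟨i.1, (hsupp i.1).1 i.2⟩)
      haveI : IsRegularRing (Γ(V.toScheme, ⊤) ⧸ Ideal.span {v' jj}) := hψ'X jj ▸ (hreg' jj).2.1
      haveI := CycCovLib.isReduced_of_isRegularRing (Γ(V.toScheme, ⊤) ⧸ Ideal.span {v' jj})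
      let ι : Γ(V.toScheme, ⊤) ≃+* Γ(Y, V) := V.topIso.commRingCatIsoToRingEquiv
      have hsv : ∀ z, LogNCD.sectOn V (le_refl V) z = ι z := htop
      have hrad : (Ideal.span {LogNCD.sectOn V (le_refl V) (v' jj)}).IsRadical := by
        have h1 : (Ideal.span {v' jj}).IsRadical := (Ideal.isRadical_iff_quotient_reduced _).2 inferInstance
        intro z hz
        obtain ⟨N', hz⟩ := hz
        obtain ⟨c, hc'⟩ := Ideal.mem_span_singleton.1 hz
        obtain ⟨z, rfl⟩ := ι.surjective z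
        obtain ⟨c, rfl⟩ := ι.surjective c
        rw [hsv, ← map_pow ι, ← map_mul ι] at hc'
        obtain ⟨d, hd⟩ := Ideal.mem_span_singleton.1 (h1 ⟨N', Ideal.mem_span_singleton.2 ⟨c, ι.injective hc'⟩⟩)
        exact Ideal.mem_span_singleton.2 ⟨ι d, by rw [hsv, hd, map_mul ι]⟩
      rw [Scheme.IdealSheafData.radical_ideal,
        ← Scheme.IdealSheafData.map_ideal _ (U := ⟨V, hV⟩) (V := ⟨π ⁻¹ᵁ U.1, hπU⟩) hVU,
        ideal_comap_preimage, gspan i.1, Ideal.map_span, Set.image_singleton, Ideal.map_span, Set.image_singleton,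
        gpos i.1 ((hsupp i.1).1 i.2)]
      show (Ideal.span {resR hVU ((π.app U.1).hom (ψ (MvPolynomial.X jj)))}).radical = _
      by_cases hjj : jj = e0
      · have hv : v' jj = θ (ρ (CycCovLib.S gg w m i₀ (ψ (MvPolynomial.X e0)))) := if_pos hjj
        have hu : IsUnit (ρ (CycCovLib.W gg w m i₀ (ψ (MvPolynomial.X e0)))) :=
          ((CycCovLib.isUnit_root hg0).map _).map ρ
        rw [hv, hθ] at hrad ⊢
        rw [hjj, ← hρ]
        have hS := congrArg (fun z => resR hVU (ρ z)) (CycCovLib.S_pow gg w m i₀ (ψ (MvPolynomial.X e0)))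
        simp only [map_pow, map_mul] at hS
        rw [← Ideal.span_singleton_mul_left_unit ((hu.map (resR hVU)).pow i₀), ← hS, ← Ideal.span_singleton_pow,
          Ideal.radical_pow _ hm0.ne', hrad.radical]
      · rw [show v' jj = θ ((π.app U.1).hom (ψ (MvPolynomial.X jj))) from if_neg hjj, hθ] at hrad ⊢
        exact hrad.radical
    rw [← Scheme.IdealSheafData.map_ideal _ (U := Z) (V := ⟨V, hV⟩) hZ, hVrad, Ideal.map_span, Set.image_singleton]
    exact congrArg (fun z => Ideal.span {z}) (hsect _)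
  · rw [← Scheme.IdealSheafData.map_ideal _ (U := Z) (V := ⟨π ⁻¹ᵁ U.1, hπU⟩) (hZ.trans hVU),
      Scheme.IdealSheafData.radical_ideal, ideal_comap_preimage, hout i fun h => hi ((hsupp i).2 h),
      Ideal.map_top, Ideal.radical_top, Ideal.map_top]

end Groth.Agent.H44Cyc
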