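import Groth.Agent.H44Cyc.OmegaFrame
import Groth.Agent.H44Cyc.EigenAlg
import Groth.Agent.H44Cyc.Eigen
import Groth.Agent.H44Adj.ExtExists
import Groth.Agent.H44Adj.Twist
import Groth.Agent.S17127
import Mathlib.CategoryTheory.Abelian.Basic

/-! # The decomposition of the forms of a cyclic cover -/

universe u

open CategoryTheory CategoryTheory.Limits AlgebraicGeometry TopologicalSpace Opposite exteriorPower

set_option backward.isDefEq.respectTransparency false
set_option linter.style.haveILetI false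
set_option linter.unusedSectionVars false

namespace Groth.Agent.H44Cyc

open Groth.Agent.AModX Groth.Agent.InvX Groth.Agent.H44LogNCD Groth.Agent.H44Adj

theorem exists_extMap {Y : Scheme.{u}} {E F Le Lf : Y.Modules} (φ : E ⟶ F) {c : ℕ} (φE : EP c E Le)
    (φF : EP c F Lf) :
    ∃ j : Le ⟶ Lf, ∀ (V : Y.affineOpens) (z : Γ(Le, V.1)),
      j.app V.1 z = (φF.φ V).symm (exteriorPower.map c
        ({ toFun := fun e => φ.app V.1 e, map_add' := map_add _, map_smul' := Scheme.Modules.Hom.app_smul φ } :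
          Γ(E, V.1) →ₗ[Γ(Y, V.1)] Γ(F, V.1)) (φE.φ V z)) := by
  let lin : ∀ V : Y.affineOpens, Γ(E, V.1) →ₗ[Γ(Y, V.1)] Γ(F, V.1) := fun V =>
    { toFun := fun e => φ.app V.1 e, map_add' := map_add _, map_smul' := Scheme.Modules.Hom.app_smul φ }
  have hnat : ∀ (U W : Y.affineOpens) (h : W.1 ≤ U.1) (z : EM E c U),
      rMap F c h (exteriorPower.map c (lin U) z) = exteriorPower.map c (lin W) (rMap E c h z) := fun U W h z => by
    refine extHom_ext ((rMap F c h).comp (exteriorPower.map c (lin U)).toAddMonoidHom)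
      ((exteriorPower.map c (lin W)).toAddMonoidHom.comp (rMap E c h)) (resR h) (fun t z => ?_) (fun t z => ?_)
      (fun e => ?_) z
    · show rMap F c h (exteriorPower.map c (lin U) (t • z)) = resR h t • rMap F c h (exteriorPower.map c (lin U) z)
      rw [map_smul, rMap_smul]
    · show exteriorPower.map c (lin W) (rMap E c h (t • z)) = resR h t • exteriorPower.map c (lin W) (rMap E c h z)
      rw [rMap_smul, map_smul]
    · show rMap F c h (exteriorPower.map c (lin U) (ιMulti _ c e)) = exteriorPower.map c (lin W) (rMap E c h (ιMulti _ c e))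
      rw [map_apply_ιMulti, rMap_ιMulti, rMap_ιMulti, map_apply_ιMulti]
      congr 1
      funext i
      exact (AModX.app_res φ h (e i)).symm
  obtain ⟨j, hj⟩ := LimitsH94.GlueHom.exists_hom_of_basis (M := Le) (N := Lf) (fun _ => True) (fun _ _ _ h => h)
    (fun x => by
      obtain ⟨V, hV, hx, -⟩ := exists_isAffineOpen_mem_and_subset (x := x) (U := ⊤) trivial
      exact ⟨⟨V, hV⟩, trivial, hx⟩)
    (fun U _ => ((φF.φ U).symm.toLinearMap.comp (exteriorPower.map c (lin U))).comp (φE.φ U).toLinearMap)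
    (fun U W _ _ h z => by
      show res Lf h ((φF.φ U).symm (exteriorPower.map c (lin U) (φE.φ U z))) =
        (φF.φ W).symm (exteriorPower.map c (lin W) (φE.φ W (res Le h z)))
      rw [φF.res_symm U W h, hnat U W h]
      congr 2
      have := φE.res_symm U W h (φE.φ U z)
      rw [LinearEquiv.symm_apply_apply] at this
      rw [this, LinearEquiv.apply_symm_apply])
  exact ⟨j, fun V z => hj V trivial z⟩

theorem ιMulti_family_smul {A M : Type*} [CommRing A] [AddCommGroup M] [Module A M] {n c : ℕ}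
    (a : Fin n → A) (e : Fin n → M) (I : Set.powersetCard (Fin n) c) :
    ιMulti_family A c (fun l => a l • e l) I =
      (∏ j, a (Set.powersetCard.ofFinEmbEquiv.symm I j)) • ιMulti_family A c e I :=
  AlternatingMap.map_smul_univ _ _ _

/-- A product over a wedge with at most one non-trivial factor. -/
theorem prod_one_factor {A : Type*} [CommMonoid A] {n c : ℕ} (a : Fin n → A) (I : Set.powersetCard (Fin n) c)
    (bad : Fin n → Prop) (hgood : ∀ l, ¬ bad l → a l = 1) (huniq : ∀ l l', bad l → bad l' → l = l')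
    {j : Fin c} (hj : bad (Set.powersetCard.ofFinEmbEquiv.symm I j)) :
    ∏ i, a (Set.powersetCard.ofFinEmbEquiv.symm I i) = a (Set.powersetCard.ofFinEmbEquiv.symm I j) := by
  refine Finset.prod_eq_single j (fun i _ hi => hgood _ fun hb => hi ?_) fun h => absurd (Finset.mem_univ _) h
  exact (Set.powersetCard.ofFinEmbEquiv.symm I).injective (huniq _ _ hb hj)

theorem div_add_div_le (α N i j : ℕ) :
    i * α / N + j * α / N ≤ (i + j) / N * α + (i + j) % N * α / N := by
  rcases Nat.eq_zero_or_pos N with rfl | hN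
  · simp
  have h1 := Nat.div_add_mod (i + j) N
  have h2 : (i + j) / N * α + (i + j) % N * α / N = (i * α + j * α) / N := by
    rw [show i * α + j * α = N * ((i + j) / N * α) + (i + j) % N * α by
      rw [← Nat.add_mul]; conv_lhs => rw [← h1]
      ring, Nat.mul_add_div hN]
  rw [h2]
  exact Nat.add_div_le_add_div _ _ _

theorem div_add_div_eq {α N i j : ℕ} (hi : N ∣ i * α) (hij : (i + j) % N = 0) :
    i * α / N + j * α / N = (i + j) / N * α + (i + j) % N * α / N := by
  rw [hij, zero_mul, Nat.zero_div, add_zero, ← Nat.add_div_of_dvd_right hi, ← Nat.add_mul,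
    ← Nat.div_mul_right_comm (Nat.dvd_of_mod_eq_zero hij)]

variable {k : Type u} [Field k] [IsAlgClosed k] {X Y : Scheme.{u}} [IsIntegral X] {r : ℕ}
  {D : Fin r → X.IdealSheafData} {φ : X ⟶ Spec (CommRingCat.of k)} [Smooth φ] {π : Y ⟶ X} [IsAffineHom π]
  {α : Fin r → ℕ} {L : X.Modules} {N : ℕ} [NeZero N] {s : Coh.structureModule X ⟶ CohB1.tensorPow L N}
  {R : CycCov.Root L N s π}
  {ΩX : X.Modules} {dX : OmegaSh.Der φ ΩX} {ΩY : Y.Modules} {dY : OmegaSh.Der (π ≫ φ) ΩY}
  {ΛX : LogNCD.LogMod dX D}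

section Alg

variable {U : X.affineOpens} (c : LogCh π α ΛX U) {E : Fin N → Γ(Y, π ⁻¹ᵁ U.1)} {t : Γ(Y, π ⁻¹ᵁ U.1)}
  {w : Γ(X, U.1)} (hw : IsUnit w) (ht : t ^ N = (π.app U.1).hom (w * ∏ l, c.g l ^ α l))
  (hE : ∀ i : Fin N, (π.app U.1).hom (∏ l, c.g l ^ ((i : ℕ) * α l / N)) * E i = t ^ (i : ℕ))

/-- Where the summand `i` has no poles. -/
def LogCh.NoPole (i : Fin N) : Prop := ∀ l, c.g l = 1 ∨ N ∣ (i : ℕ) * α l

include hE in
theorem LogCh.E_zero : E 0 = 1 := by
  have h := hE 0
  simpa using h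

include hw ht hE in
theorem LogCh.E_mul (i j : Fin N) : ∃ a : Γ(X, U.1), E i * E j = (π.app U.1).hom a * E (i + j) ∧
    (c.NoPole i → ((i : ℕ) + (j : ℕ)) % N = 0 → IsUnit a) := by
  let q := ((i : ℕ) + (j : ℕ)) / N
  have hk : ((i + j : Fin N) : ℕ) = ((i : ℕ) + (j : ℕ)) % N := Fin.val_add i j
  let ei : Fin r → ℕ := fun l => (i : ℕ) * α l / N
  let ej : Fin r → ℕ := fun l => (j : ℕ) * α l / N
  let ek : Fin r → ℕ := fun l => ((i + j : Fin N) : ℕ) * α l / N
  have hle : ∀ l, ei l + ej l ≤ q * α l + ek l := fun l => by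
    simp only [ei, ej, ek, q, hk]; exact div_add_div_le _ _ _ _
  refine ⟨w ^ q * ∏ l, c.g l ^ (q * α l + ek l - (ei l + ej l)), ?_, fun hP hij => ?_⟩
  · haveI := c.nonempty
    have hG : (∏ l, c.g l ^ ei l) * ∏ l, c.g l ^ ej l ≠ 0 := by
      rw [← Finset.prod_mul_distrib]
      refine Finset.prod_ne_zero_iff.2 fun l _ => ?_
      rw [← pow_add]
      refine pow_ne_zero _ ?_
      rcases c.g_eq l with h | h <;> rw [h]
      · exact c.h_ne
      · exact one_ne_zero
    refine sub_eq_zero.1 (c.nzd _ hG _ ?_)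
    rw [mul_sub, sub_eq_zero]
    have hi := hE i; have hj := hE j; have hk' := hE (i + j)
    have e1 : (π.app U.1).hom ((∏ l, c.g l ^ ei l) * ∏ l, c.g l ^ ej l) * (E i * E j) =
        t ^ ((i : ℕ) + (j : ℕ)) := by
      rw [map_mul, pow_add, ← hi, ← hj]
      simp only [ei, ej]
      ring
    rw [e1, ← mul_assoc, ← map_mul,
      show (i : ℕ) + (j : ℕ) = N * q + ((i + j : Fin N) : ℕ) by rw [hk]; exact (Nat.div_add_mod _ _).symm,
      pow_add, pow_mul, ht, ← map_pow, ← hk', ← mul_assoc, ← map_mul]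
    congr 2
    simp only [← mul_assoc, mul_comm _ (w ^ q), mul_pow, ← Finset.prod_pow, ← pow_mul]
    rw [mul_assoc, mul_assoc, mul_assoc]
    congr 1
    simp only [← Finset.prod_mul_distrib, ← pow_add]
    refine Finset.prod_congr rfl fun l _ => ?_
    congr 1
    have := hle l
    show α l * q + ek l = ei l + (ej l + (q * α l + ek l - (ei l + ej l)))
    rw [mul_comm (α l) q]
    omega
  · refine (hw.pow q).mul (IsUnit.prod_iff.2 fun l _ => ?_)
    rcases hP l with h | h
    · rw [h, one_pow]; exact isUnit_one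
    · have : ei l + ej l = q * α l + ek l := by
        simp only [ei, ej, ek, q, hk]; exact div_add_div_eq h hij
      rw [this, Nat.sub_self, pow_zero]; exact isUnit_one

include ht hE in
theorem LogCh.S_dvd_E (i : Fin N) (hi : ¬ c.NoPole i) : c.S ∣ E i := by
  simp only [LogCh.NoPole, not_forall, not_or] at hi
  obtain ⟨l, hl, hdvd⟩ := hi
  rcases c.cases with ⟨i₀, -, hg₀, hgY₀, hg1, -⟩ | ⟨hg1, -⟩
  swap
  · exact absurd (hg1 l) hl
  have hl₀ : l = i₀ := not_not.1 fun hne => hl (hg1 l hne)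
  subst hl₀
  have hrad : (Ideal.span {c.S}).IsRadical := by
    rw [← hgY₀, ← c.spanY l, Scheme.IdealSheafData.radical_ideal]
    exact Ideal.radical_isRadical _
  haveI := c.nonempty
  have hG : (∏ l, c.g l ^ ((i : ℕ) * α l / N)) ^ N ≠ 0 := by
    refine pow_ne_zero _ (Finset.prod_ne_zero_iff.2 fun m _ => pow_ne_zero _ ?_)
    rcases c.g_eq m with h | h <;> rw [h]
    · exact c.h_ne
    · exact one_ne_zero
  have hEN : E i ^ N = (π.app U.1).hom (w ^ (i : ℕ) * ∏ m, c.g m ^ ((i : ℕ) * α m % N)) := by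
    refine sub_eq_zero.1 (c.nzd _ hG _ ?_)
    rw [mul_sub, sub_eq_zero, map_pow, ← mul_pow, hE i, ← pow_mul, mul_comm _ N, pow_mul, ht, ← map_pow,
      ← map_pow, ← map_mul, mul_pow, ← Finset.prod_pow, ← Finset.prod_pow, mul_left_comm,
      ← Finset.prod_mul_distrib]
    refine congrArg (π.app U.1).hom (congrArg (w ^ (i : ℕ) * ·) (Finset.prod_congr rfl fun m _ => ?_))
    rw [← pow_mul, ← pow_mul, ← pow_add, mul_comm (α m) (i : ℕ), mul_comm _ N]
    congr 1
    exact (Nat.div_add_mod _ _).symm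
  refine Ideal.mem_span_singleton.1 (hrad ⟨N, Ideal.mem_span_singleton.2 ?_⟩)
  have hpos : (i : ℕ) * α l % N ≠ 0 := fun h0 => hdvd (Nat.dvd_of_mod_eq_zero h0)
  rw [hEN, map_mul, map_prod]
  refine dvd_mul_of_dvd_right (dvd_trans ?_ (Finset.dvd_prod_of_mem _ (Finset.mem_univ l))) _
  rw [map_pow, hg₀, c.h_eq]
  exact dvd_trans (dvd_mul_of_dvd_right (dvd_pow_self _ c.m_pos.ne') _) (dvd_pow_self _ hpos)

end Alg

theorem exists_decomp_omega (hL : PicF.IsInvertible L) (hNk : (N : k) ≠ 0) (hD : LogNCD.IsNCD D φ)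
    (hs : CycCov.IsZeroDiv (CohB1.tensorPow L N) s (CycCov.divIdeal D α)) (hR : CycCov.IsCover R)
    (hdisj : ∀ (x : X) (j j' : Fin r), x ∈ (D j).support → x ∈ (D j').support → j = j')
    (hdX : OmegaSh.IsUniversal dX) (hdY : OmegaSh.IsUniversal dY) (ΛX : LogNCD.LogMod dX D)
    (ΛY : LogNCD.LogMod dY (fun j : Fin r => ((D j).comap π).radical))
    (hΔ : LogNCD.IsNCD (fun j : Fin r => ((D j).comap π).radical) (π ≫ φ))
    {b : ℕ} {LbY : Y.Modules} (hLbY : ExtPow.IsExtPow b ΩY LbY) {Llog : Y.Modules}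
    (hLlog : ExtPow.IsExtPow b ΛY.L Llog) (M : Fin N → X.Modules)
    (hM : ∀ i : Fin N, ClSub.IsInverseOf (CycCov.intPart L D α N i) (M i))
    (Λ : ∀ i : Fin N, LogNCD.LogMod dX (CycCov.poleDiv D α N i))
    (Lb : Fin N → X.Modules) (hLb : ∀ i : Fin N, ExtPow.IsExtPow b (Λ i).L (Lb i)) :
    ∃ c : ∀ i : Fin N, CohB1.tensorMod (Lb i) (M i) ⟶ (Scheme.Modules.pushforward π).obj LbY,
      Nonempty (IsColimit (Cofan.mk ((Scheme.Modules.pushforward π).obj LbY) c)) := by
  classical
  have hN : 0 < N := Nat.pos_of_ne_zero (NeZero.ne N)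
  obtain ⟨c₀, -, hdec⟩ := exists_decomp_local (R := R) φ hL hN hNk α hD hs hR M hM
  obtain ⟨β, Φ, hβ, hΦ, hfr⟩ := exists_pullLog_frame ΛX ΛY hL hN hNk hD hs hR hdisj hdX hdY hΔ
  have hreg := pullReg hΔ ΛY
  have hpole : ∀ (i : Fin N) j, CycCov.poleDiv D α N i j = if N ∣ (i : ℕ) * α j then ⊤ else D j := fun _ _ => rfl
  have hreg' : ∀ i : Fin N, PullReg ΛY (D := CycCov.poleDiv D α N i) := fun i =>
    pullReg_of_le hΔ ΛY fun j => by rw [hpole]; split_ifs <;> [exact le_top; exact le_rfl]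
  have hsub : ∀ i : Fin N, ∃ Φ' : (Λ i).L ⟶ (Scheme.Modules.pushforward π).obj ΛY.L,
      ∀ (U : X.affineOpens) (g : Fin r → Γ(X, U.1)), PullGood ΛY (D := CycCov.poleDiv D α N i) U →
        (∀ j, (CycCov.poleDiv D α N i j).ideal U = Ideal.span {g j}) →
          ∀ z, PRel (Λ i) ΛY β U.1 g z (Φ'.app U.1 z) := fun i => by
    refine exists_pullLog (ΛX := Λ i) (ΛY := ΛY) (α := β) hβ (hreg' i) fun x => ?_
    obtain ⟨U, c, -, hxU, -, -⟩ := hfr x ⊤ trivial
    refine ⟨U, c.pullGood_of (fun j => if N ∣ (i : ℕ) * α j then 1 else c.g j) (fun j => ?_) (fun j => ?_), hxU⟩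
    · by_cases hj : N ∣ (i : ℕ) * α j
      · simp only [hpole, if_pos hj, Ideal.span_singleton_one]; rfl
      · simp only [hpole, if_neg hj]; exact c.span j
    · by_cases hj : N ∣ (i : ℕ) * α j <;> simp [hj]
  choose Φ' hΦ' using hsub
  obtain ⟨φY⟩ := exists_ep hLbY
  obtain ⟨φlog⟩ := exists_ep hLlog
  have φi := fun i => exists_ep (hLb i)
  choose rr hrr using fun i => exists_extPush (Φ' i) (φi i).some φlog
  obtain ⟨jY, hjY⟩ := exists_extMap ΛY.ι φY φlog
  let J : (Scheme.Modules.pushforward π).obj LbY ⟶ (Scheme.Modules.pushforward π).obj Llog :=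
    (Scheme.Modules.pushforward π).map jY
  let C : ∀ i, CohB1.tensorMod (Lb i) (M i) ⟶ (Scheme.Modules.pushforward π).obj Llog := fun i =>
    (DCoh.tensorBi.obj (Lb i)).map (c₀ i) ≫ pushMul (rr i)
  have hCapp : ∀ i (U : X.Opens) (m : Γ(Lb i, U)) (n : Γ(M i, U)),
      (show Γ(Llog, π ⁻¹ᵁ U) from (C i).app U (InvX.tmul m n)) =
        OmegaSh.fnSect Y (π ⁻¹ᵁ U) ((c₀ i).app U n) • upVal (rr i) U m := fun i U m n => by
    refine Eq.trans ?_ (pushMul_app (rr i) m ((c₀ i).app U n))
    exact congrArg (fun z => (pushMul (rr i)).app U z) (VBCurvesLib.app_map_tmul (c₀ i) U m n)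
  -- the local computation
  have key : ∀ (x : X) (O : X.Opens), x ∈ O → ∃ U : X.affineOpens, x ∈ U.1 ∧ U.1 ≤ O ∧
      Function.Injective (fun y : Γ(LbY, π ⁻¹ᵁ U.1) => jY.app (π ⁻¹ᵁ U.1) y) ∧
      ∃ T : (∀ i, Γ(CohB1.tensorMod (Lb i) (M i), U.1)) → Γ(LbY, π ⁻¹ᵁ U.1), Function.Bijective T ∧
        ∀ z, jY.app (π ⁻¹ᵁ U.1) (T z) = ∑ i, (show Γ(Llog, π ⁻¹ᵁ U.1) from (C i).app U.1 (z i)) := by
    intro x O hx
    obtain ⟨O₁, hxO₁, hO₁⟩ := hdec x
    obtain ⟨U, c, BY, hxU, hUO, hBY⟩ := hfr x (O ⊓ O₁) ⟨hx, hxO₁⟩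
    refine ⟨U, hxU, hUO.trans inf_le_left, ?_⟩
    obtain ⟨μ, E, t, w, hw, hμ, hcE, ht, hE, hbij⟩ :=
      hO₁ U (hUO.trans inf_le_right) c.nonempty c.g c.span
    obtain ⟨η, hη⟩ := c.exists_omega_frame BY hdY hβ hreg Φ hΦ hBY
    choose Bi hBi using fun i : Fin N => c.exists_sub_frame BY Φ hreg hΦ hBY (Λ := Λ i) (hreg' i)
      (fun j => N ∣ (i : ℕ) * α j) (fun j => hpole i j) (Φ' i) (hΦ' i)
    let eY := (BY.exteriorPower b).map (φlog.φ (preA π U)).symm
    let ηI := (η.exteriorPower b).map (φY.φ (preA π U)).symm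
    let eI := fun i => ((Bi i).exteriorPower b).map ((φi i).some.φ U).symm
    let sI : Set.powersetCard (Fin c.n) b → Γ(Y, π ⁻¹ᵁ U.1) := fun I =>
      ∏ j, c.sc (Set.powersetCard.ofFinEmbEquiv.symm I j)
    let τ : Fin N → Set.powersetCard (Fin c.n) b → Γ(Y, π ⁻¹ᵁ U.1) := fun i I =>
      ∏ j, (if c.NoPole i then (π.app U.1).hom (c.w (Set.powersetCard.ofFinEmbEquiv.symm I j)) else 1)
    have hjη : ∀ I, jY.app (π ⁻¹ᵁ U.1) (ηI I) = sI I • eY I := fun I => by
      refine (hjY (preA π U) (ηI I)).trans ?_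
      rw [Module.Basis.map_apply, LinearEquiv.apply_symm_apply, exteriorPower.basis_apply,
        exteriorPower.ιMulti_family, exteriorPower.map_apply_ιMulti, Module.Basis.map_apply, exteriorPower.basis_apply,
        ← map_smul, ← ιMulti_family_smul, exteriorPower.ιMulti_family]
      congr 2
      funext j
      exact hη _
    have hre : ∀ i I, upVal (rr i) U.1 (eI i I) = τ i I • eY I := fun i I => by
      show (show Γ(Llog, π ⁻¹ᵁ U.1) from (rr i).app U.1 (eI i I)) = _
      rw [hrr, Module.Basis.map_apply, LinearEquiv.apply_symm_apply, exteriorPower.basis_apply,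
        exteriorPower.ιMulti_family, PF_ιMulti, Module.Basis.map_apply, exteriorPower.basis_apply, ← map_smul,
        ← ιMulti_family_smul (fun l => if c.NoPole i then (π.app U.1).hom (c.w l) else 1),
        exteriorPower.ιMulti_family]
      congr 2
      funext j
      simp only [Function.comp_apply]
      refine (hBi i _).trans ?_
      congr 1
      exact if_congr Iff.rfl rfl rfl
    letI : Algebra Γ(X, U.1) Γ(Y, π ⁻¹ᵁ U.1) := (π.app U.1).hom.toAlgebra
    let Eb : Module.Basis (Fin N) Γ(X, U.1) Γ(Y, π ⁻¹ᵁ U.1) :=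
      (Module.Basis.ofEquivFun (LinearEquiv.ofBijective
        ({ toFun := fun a : Fin N → Γ(X, U.1) => ∑ i, (π.app U.1).hom (a i) * E i
           map_add' := fun a a' => by simp [add_mul, Finset.sum_add_distrib]
           map_smul' := fun t a => by
             simp only [Pi.smul_apply, smul_eq_mul, map_mul, RingHom.id_apply, Algebra.smul_def, Finset.mul_sum,
               mul_assoc]
             rfl } : (Fin N → Γ(X, U.1)) →ₗ[Γ(X, U.1)] Γ(Y, π ⁻¹ᵁ U.1)) hbij).symm)
    have hEb : ∀ i, Eb i = E i := fun i => by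
      rw [Module.Basis.coe_ofEquivFun, LinearEquiv.symm_symm]
      show ∑ l, (π.app U.1).hom (Function.update (0 : Fin N → Γ(X, U.1)) i 1 l) * E l = E i
      rw [Finset.sum_eq_single i (fun l _ hl => by simp [hl]) (fun h => absurd (Finset.mem_univ _) h)]
      simp
    -- the coefficients for each wedge
    have hF : ∀ I, ∃ F : (Fin N → Γ(X, U.1)) → Γ(Y, π ⁻¹ᵁ U.1), Function.Bijective F ∧
        (∀ y, sI I * y = 0 → y = 0) ∧ ∀ a, sI I * F a = ∑ i, (π.app U.1).hom (a i) * τ i I * E i := fun I => by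
      by_cases hhit : ∃ j, c.w (Set.powersetCard.ofFinEmbEquiv.symm I j) ≠ 1
      · obtain ⟨j₀, hj₀⟩ := hhit
        have huniq : ∀ l l', c.w l ≠ 1 → c.w l' ≠ 1 → l = l' := fun l l' hl hl' => by
          rcases c.cases with ⟨_, l₀, -, -, -, -, -, hw1⟩ | ⟨-, hw1⟩
          · rw [not_not.1 fun h => hl (hw1 l h), not_not.1 fun h => hl' (hw1 l' h)]
          · exact absurd (hw1 l) hl
        have hsI : sI I = c.S :=
          (prod_one_factor _ I (fun l => c.w l ≠ 1) (fun l hl => if_pos (not_not.1 hl)) huniq hj₀).trans (if_neg hj₀)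
        have hτ : ∀ i, τ i I = (π.app U.1).hom (sigma c.NoPole c.h i) := fun i => by
          refine (prod_one_factor (fun l => if c.NoPole i then (π.app U.1).hom (c.w l) else 1) I
            (fun l => c.w l ≠ 1) (fun l hl => by rw [not_not.1 hl, map_one, ite_self]) huniq hj₀).trans ?_
          simp only [sigma]
          split_ifs <;> simp [(c.w_eq _).resolve_right hj₀]
        haveI := c.nonempty
        obtain ⟨hNA, -⟩ := exists_primitiveRoot φ hNk U.1
        obtain ⟨F, hF, hFeq⟩ := exists_coordEquiv Eb c.NoPole (h := c.h) (S := c.S) (v := c.v) (m := c.m)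
          (by rw [hEb]; exact c.E_zero hE)
          (fun i j => by
            obtain ⟨a, ha, -⟩ := c.E_mul hw ht hE i j
            exact ⟨a, by rw [hEb, hEb, hEb, Algebra.smul_def]; exact ha⟩)
          hNA c.h_rad c.h_ne c.m_pos c.v_unit c.h_eq c.S_regular
          (fun i hi => by
            obtain ⟨a, ha, hu⟩ := c.E_mul hw ht hE i (-i)
            refine ⟨a, hu hi ?_, ?_⟩
            · have h0 := Fin.val_add i (-i)
              rw [add_neg_cancel] at h0
              exact h0.symm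
            · rw [hEb, hEb, Algebra.smul_def, ha, add_neg_cancel, c.E_zero hE]
              rfl)
          (fun i hi => by rw [hEb]; exact c.S_dvd_E ht hE i hi)
        refine ⟨F, hF, by rw [hsI]; exact c.S_regular, fun a => ?_⟩
        rw [hsI, hFeq]
        refine Finset.sum_congr rfl fun i _ => ?_
        rw [hEb, hτ]
        exact congrArg (· * E i) (map_mul (π.app U.1).hom _ _)
      · push Not at hhit
        have hsI : sI I = 1 := Finset.prod_eq_one fun j _ => if_pos (hhit j)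
        refine ⟨_, hbij, fun y hy => by rwa [hsI, one_mul] at hy, fun a => ?_⟩
        rw [hsI, one_mul]
        refine Finset.sum_congr rfl fun i _ => ?_
        rw [show τ i I = 1 from Finset.prod_eq_one fun j _ => by rw [hhit j, map_one, ite_self], mul_one]
    choose F hF hsreg hFeq using hF
    have hjsum : ∀ y : Set.powersetCard (Fin c.n) b → Γ(Y, π ⁻¹ᵁ U.1),
        jY.app (π ⁻¹ᵁ U.1) (∑ I, y I • ηI I) = ∑ I, (sI I * y I) • eY I := fun y => by
      rw [map_sum]
      refine Finset.sum_congr rfl fun I _ => ?_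
      rw [Scheme.Modules.Hom.app_smul, hjη, smul_smul, mul_comm]
    have hjinj : Function.Injective (fun y : Γ(LbY, π ⁻¹ᵁ U.1) => jY.app (π ⁻¹ᵁ U.1) y) := by
      intro y y' hyy
      refine sub_eq_zero.1 ?_
      have h1 : jY.app (π ⁻¹ᵁ U.1) (y - y') = 0 := by rw [map_sub, sub_eq_zero]; exact hyy
      rw [← ηI.sum_repr (y - y'), hjsum] at h1
      have h2 := Fintype.linearIndependent_iff.1 eY.linearIndependent _ h1
      rw [← ηI.sum_repr (y - y')]
      exact Finset.sum_eq_zero fun I _ => by rw [hsreg I _ (h2 I), zero_smul]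
    refine ⟨hjinj, ?_⟩
    let Ψ : (Set.powersetCard (Fin c.n) b → Fin N → Γ(X, U.1)) → ∀ i, Γ(CohB1.tensorMod (Lb i) (M i), U.1) :=
      fun a i => InvX.tmul (∑ I, a I i • eI i I) (μ i)
    have hΨ : Function.Bijective Ψ :=
      (Function.Bijective.piMap (f := fun i (a : Set.powersetCard (Fin c.n) b → Γ(X, U.1)) =>
          InvX.tmul (∑ I, a I • eI i I) (μ i)) fun i => by
        have h1 : Function.Bijective fun a : Set.powersetCard (Fin c.n) b → Γ(X, U.1) => ∑ I, a I • eI i I :=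
          (funext fun a => ((eI i).equivFun_symm_apply a).symm :
            (fun a : Set.powersetCard (Fin c.n) b → Γ(X, U.1) => ∑ I, a I • eI i I) = _) ▸
            (eI i).equivFun.symm.bijective
        exact (Groth.Agent.H44Adj.tmul_frame_bijective (E := Lb i) (hμ i)).comp h1).comp
        (⟨fun _ _ h => funext fun I => funext fun i => congrFun (congrFun h i) I,
          fun g => ⟨fun I i => g i I, rfl⟩⟩ : Function.Bijective fun (a : Set.powersetCard (Fin c.n) b → Fin N → Γ(X, U.1)) i I => a I i)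
    let G : (Set.powersetCard (Fin c.n) b → Fin N → Γ(X, U.1)) → Γ(LbY, π ⁻¹ᵁ U.1) :=
      fun a => ηI.equivFun.symm fun I => F I (a I)
    have hG : Function.Bijective G :=
      ηI.equivFun.symm.bijective.comp (Function.Bijective.piMap (f := F) hF)
    refine ⟨G ∘ (Equiv.ofBijective Ψ hΨ).symm, hG.comp (Equiv.ofBijective Ψ hΨ).symm.bijective, fun z => ?_⟩
    obtain ⟨a, rfl⟩ := hΨ.2 z
    rw [Function.comp_apply, Equiv.ofBijective_symm_apply_apply]
    show jY.app (π ⁻¹ᵁ U.1) (ηI.equivFun.symm _) = _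
    rw [Module.Basis.equivFun_symm_apply, hjsum]
    simp only [Ψ, hCapp, hcE, hFeq]
    have hexp : ∀ i, upVal (rr i) U.1 (∑ I, a I i • eI i I) = ∑ I, ((π.app U.1).hom (a I i) * τ i I) • eY I :=
      fun i => by
      refine (map_sum (AddMonoidHom.mk' (upVal (rr i) U.1) (upVal_add (rr i) U.1)) _ _).trans
        (Finset.sum_congr rfl fun I _ => ?_)
      show upVal (rr i) U.1 (a I i • eI i I) = _
      rw [upVal_smul, hre, smul_smul]
    simp only [hexp, Finset.smul_sum, smul_smul, Finset.sum_smul]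
    rw [Finset.sum_comm]
    exact Finset.sum_congr rfl fun i _ => Finset.sum_congr rfl fun I _ => by rw [mul_comm (E i)]
  -- the factorisation
  haveI : Mono J := by
    refine ⟨fun {Z} g g' hg => Scheme.Modules.hom_ext _ _ fun W => ?_⟩
    ext z
    refine eq_of_locally _ _ fun p hp => ?_
    obtain ⟨U, hpU, hUW, hinj, -⟩ := key p W hp
    refine ⟨U.1, hUW, hpU, hinj ?_⟩
    show J.app U.1 _ = J.app U.1 _
    rw [AModX.app_res, AModX.app_res]
    exact congrArg (res _ hUW) (congrArg (fun ψ : Z ⟶ _ => ψ.app W z) hg)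
  have hfac : ∀ i, C i ≫ cokernel.π J = 0 := fun i => by
    refine Scheme.Modules.hom_ext _ _ fun W => ?_
    ext z
    show (cokernel.π J).app W ((C i).app W z) = 0
    refine eq_of_locally _ _ fun p hp => ?_
    obtain ⟨U, hpU, hUW, -, T, -, hT⟩ := key p W hp
    refine ⟨U.1, hUW, hpU, ?_⟩
    rw [map_zero, ← AModX.app_res, ← AModX.app_res]
    have hsingle := hT (Pi.single i (res _ hUW z))
    rw [Finset.sum_eq_single i (fun l _ hl => by rw [Pi.single_eq_of_ne hl]; exact map_zero _)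
      (fun h => absurd (Finset.mem_univ _) h), Pi.single_eq_same] at hsingle
    rw [show (C i).app U.1 (res _ hUW z) = J.app U.1 (T (Pi.single i (res _ hUW z))) from hsingle.symm]
    exact congrArg (fun ψ : _ ⟶ cokernel J => ψ.app U.1 (T (Pi.single i (res _ hUW z)))) (cokernel.condition J)
  let C' : ∀ i, CohB1.tensorMod (Lb i) (M i) ⟶ (Scheme.Modules.pushforward π).obj LbY := fun i =>
    Abelian.monoLift J (C i) (hfac i)
  refine ⟨C', exists_isColimit_of_basis C' fun p V hp => ?_⟩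
  obtain ⟨U, hpU, hUV, hinj, T, hTb, hT⟩ := key p V hp
  refine ⟨U, hpU, hUV, ?_⟩
  rw [show sumApp C' U.1 = T from funext fun z => hinj ?_]
  · exact hTb
  · show J.app U.1 (sumApp C' U.1 z) = _
    rw [sumApp, map_sum]
    refine Eq.trans (Finset.sum_congr rfl fun i _ => ?_) (hT z).symm
    exact congrArg (fun ψ : _ ⟶ (Scheme.Modules.pushforward π).obj Llog => ψ.app U.1 (z i))
      (Abelian.monoLift_comp J (C i) (hfac i))

end Groth.Agent.H44Cyc
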