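import Groth.Agent.H44Cyc.LogPush

/-! # Frames of the forms without poles and of the sub-divisors -/

universe u

open CategoryTheory AlgebraicGeometry TopologicalSpace Opposite

set_option backward.isDefEq.respectTransparency false
set_option linter.style.haveILetI false
set_option linter.unusedSectionVars false

namespace Groth.Agent.H44LogNCD

open Groth.Agent.AModX

variable {X Y S : Scheme.{u}} {π : Y ⟶ X} {f : X ⟶ S} {r s : ℕ}
  {ΩX : X.Modules} {dX : OmegaSh.Der f ΩX} {ΩY : Y.Modules} {dY : OmegaSh.Der (π ≫ f) ΩY}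
  {D : Fin r → X.IdealSheafData} {Δ : Fin s → Y.IdealSheafData}
  {ΛX : LogNCD.LogMod dX D} {ΛY : LogNCD.LogMod dY Δ}
  {α : ΩX ⟶ (Scheme.Modules.pushforward π).obj ΩY}

theorem pullLog_ι (hreg : PullReg ΛY (D := D)) {U : X.affineOpens} {g : Fin r → Γ(X, U.1)}
    (hg : ∀ i, (D i).ideal U = Ideal.span {g i}) {Φ : ΛX.L ⟶ (Scheme.Modules.pushforward π).obj ΛY.L}
    (hΦ : ∀ z, PRel ΛX ΛY α U.1 g z (Φ.app U.1 z)) (ω : Γ(ΩX, U.1)) :
    (show Γ(ΛY.L, π ⁻¹ᵁ U.1) from Φ.app U.1 (ΛX.ι.app U.1 ω)) = ΛY.ι.app _ (pullAt α U.1 ω) := by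
  refine prel_unique hreg hg (hΦ (ΛX.ι.app U.1 ω)) ⟨(∏ i, g i) • ω, by rw [Scheme.Modules.Hom.app_smul], ?_⟩
  rw [pullAt_smul, Scheme.Modules.Hom.app_smul]

end Groth.Agent.H44LogNCD

namespace Groth.Agent.H44Cyc

open Groth.Agent.AModX Groth.Agent.InvX Groth.Agent.H44LogNCD

variable {k : Type u} [Field k] [IsAlgClosed k] {X Y : Scheme.{u}} [IsIntegral X] {r : ℕ}
  {D : Fin r → X.IdealSheafData} {φ : X ⟶ Spec (CommRingCat.of k)} {π : Y ⟶ X} [IsAffineHom π] {α : Fin r → ℕ}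
  {ΩX : X.Modules} {dX : OmegaSh.Der φ ΩX} {ΩY : Y.Modules} {dY : OmegaSh.Der (π ≫ φ) ΩY}
  {ΛX : LogNCD.LogMod dX D} {U : X.affineOpens} (c : LogCh π α ΛX U)
  {ΛY : LogNCD.LogMod dY (fun j : Fin r => ((D j).comap π).radical)}

include c in
theorem LogCh.pullGood_of {D' : Fin r → X.IdealSheafData} (g : Fin r → Γ(X, U.1))
    (hg : ∀ i, (D' i).ideal U = Ideal.span {g i}) (hg' : ∀ i, g i = 1 ∨ g i = c.g i) :
    PullGood ΛY (D := D') U := by
  obtain ⟨dlY, hdl, -⟩ := c.rule_gY (ΛY := ΛY)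
  obtain ⟨vi, hvi⟩ := c.v_unit.exists_left_inv
  refine ⟨g, hg, fun i => ?_⟩
  rcases hg' i with h0 | h0
  · exact ⟨0, by rw [h0, map_one, H44LogNCD.d_app_one, map_zero, smul_zero]⟩
  rcases c.gY_eq i with ⟨h1, h2⟩ | ⟨h1, -⟩
  · exact ⟨_, by rw [h0, h1]; exact c.dh_eq (h2 ▸ hdl i) hvi⟩
  · exact ⟨0, by rw [h0, h1, map_one, H44LogNCD.d_app_one, map_zero, smul_zero]⟩

include c in
theorem LogCh.nonempty : Nonempty U.1 := by
  by_contra hne
  exact c.h_ne ((basicOpen_eq_bot_iff c.h).1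
    (eq_bot_iff.2 fun y hy => absurd ⟨⟨y, X.basicOpen_le c.h hy⟩⟩ hne))

theorem LogCh.w_ne (l : Fin c.n) : c.w l ≠ 0 := by
  haveI := c.nonempty
  rcases c.w_eq l with h | h <;> rw [h]
  · exact c.h_ne
  · exact one_ne_zero

/-- A multiple by `S` of a function is zero only if it is zero. -/
theorem LogCh.S_regular (y : Γ(Y, π ⁻¹ᵁ U.1)) (hy : c.S * y = 0) : y = 0 := by
  refine c.nzd c.h c.h_ne y ?_
  rw [c.h_eq, ← Nat.sub_add_cancel c.m_pos, pow_succ, mul_assoc, mul_assoc, hy, mul_zero, mul_zero]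

variable (BY : Module.Basis (Fin c.n) Γ(Y, π ⁻¹ᵁ U.1) Γ(ΛY.L, π ⁻¹ᵁ U.1))

include c BY in
/-- Multiplication by an element of the base is injective on a free module upstairs. -/
theorem LogCh.smul_cancel {a : Γ(X, U.1)} (ha : a ≠ 0) {z z' : Γ(ΛY.L, π ⁻¹ᵁ U.1)}
    (hz : (π.app U.1).hom a • z = (π.app U.1).hom a • z') : z = z' := by
  refine BY.repr.injective (Finsupp.ext fun l => sub_eq_zero.1 (c.nzd a ha _ ?_))
  rw [mul_sub, sub_eq_zero]
  have := congrArg (fun q => BY.repr q l) hz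
  simpa using this

/-- The scaling of the frame of log forms giving the forms without poles. -/
noncomputable def LogCh.sc (l : Fin c.n) : Γ(Y, π ⁻¹ᵁ U.1) :=
  letI := Classical.propDecidable
  if c.w l = 1 then 1 else c.S

theorem LogCh.exists_omega_frame (hdY : OmegaSh.IsUniversal dY)
    {β : ΩX ⟶ (Scheme.Modules.pushforward π).obj ΩY}
    (hβ : ∀ (W : X.Opens) (a : Γ(X, W)), pullAt β W (dX.app W a) = dY.app (π ⁻¹ᵁ W) (π.app W a))
    (hreg : PullReg ΛY (D := D)) (Φ : ΛX.L ⟶ (Scheme.Modules.pushforward π).obj ΛY.L)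
    (hΦ : ∀ (U : X.affineOpens) (g : Fin r → Γ(X, U.1)), PullGood ΛY (D := D) U →
      (∀ i, (D i).ideal U = Ideal.span {g i}) → ∀ z, PRel ΛX ΛY β U.1 g z (Φ.app U.1 z))
    (hb : ∀ l, BY l = upVal Φ U.1 (c.BX l)) :
    ∃ η : Module.Basis (Fin c.n) Γ(Y, π ⁻¹ᵁ U.1) Γ(ΩY, π ⁻¹ᵁ U.1),
      ∀ l, ΛY.ι.app _ (η l) = c.sc l • BY l := by
  classical
  have hPι : ∀ ω, upVal Φ U.1 (ΛX.ι.app U.1 ω) = ΛY.ι.app _ (pullAt β U.1 ω) := fun ω =>
    pullLog_ι hreg c.span (hΦ U c.g c.pullGood c.span) ω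
  obtain ⟨dlY, hdlY, hgenY⟩ := c.rule_gY (ΛY := ΛY)
  haveI := ΛY.mono
  -- the scaled frame consists of forms without poles
  have hex : ∀ l, ∃ η : Γ(ΩY, π ⁻¹ᵁ U.1), ΛY.ι.app _ η = c.sc l • BY l := fun l => by
    unfold LogCh.sc
    split_ifs with hl
    · exact ⟨pullAt β U.1 (c.b l), by rw [one_smul, ← hPι, hb, ← c.w_smul, hl, one_smul]⟩
    rcases c.cases with ⟨i₀, l₀, -, hgY₀, hg1, -, -, hw1⟩ | ⟨-, hw1⟩
    · obtain ⟨ω, a, hz⟩ := hgenY (BY l)
      refine ⟨c.S • ω + a i₀ • dY.app _ c.S, ?_⟩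
      rw [hz, smul_add, map_add, Scheme.Modules.Hom.app_smul, Scheme.Modules.Hom.app_smul, Finset.smul_sum,
        Finset.sum_eq_single i₀ (fun i _ hi => ?_) (fun hh => absurd (Finset.mem_univ _) hh), ← hgY₀, ← hdlY i₀,
        smul_comm]
      have hi' : c.gY i = 1 := by
        rcases c.gY_eq i with ⟨hh, hS⟩ | ⟨-, h'⟩
        · have hh1 : c.h = 1 := hh.symm.trans (hg1 i hi)
          have hspan := c.spanY i
          rw [Scheme.IdealSheafData.radical_ideal, ideal_comap_preimage, c.span i, hg1 i hi, Ideal.map_span,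
            Set.image_singleton, map_one, Ideal.span_singleton_one, Ideal.radical_top] at hspan
          have h0 := hdlY i
          exact (hl (by rcases c.w_eq l with h | h <;> [rw [h, hh1]; exact h])).elim
        · exact h'
      have h0 := hdlY i
      rw [hi', one_smul, H44LogNCD.d_app_one, map_zero] at h0
      rw [h0, smul_zero, smul_zero]
    · exact absurd (hw1 l) hl
  choose η hη using hex
  let T : Submodule Γ(Y, π ⁻¹ᵁ U.1) Γ(ΛY.L, π ⁻¹ᵁ U.1) := Submodule.span _ (Set.range fun l => c.sc l • BY l)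
  have hsc : ∀ l, c.sc l ∣ (π.app U.1).hom (c.w l) ∧ c.sc l ∣ c.S := fun l => by
    unfold LogCh.sc
    split_ifs with hl
    · exact ⟨one_dvd _, one_dvd _⟩
    · rw [(c.w_eq l).resolve_right hl, c.h_eq]
      exact ⟨dvd_mul_of_dvd_right (dvd_pow_self _ c.m_pos.ne') _, dvd_rfl⟩
  have hST : ∀ z, c.S • z ∈ T := fun z => by
    rw [← BY.sum_repr z, Finset.smul_sum]
    refine T.sum_mem fun l _ => ?_
    obtain ⟨q, hq⟩ := (hsc l).2
    rw [smul_comm, hq, mul_comm, mul_smul]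
    exact T.smul_mem _ (T.smul_mem _ (Submodule.subset_span ⟨l, rfl⟩))
  have hAT : ∀ ω, ΛY.ι.app _ (pullAt β U.1 ω) ∈ T := fun ω => by
    rw [← hPι, ← c.b.sum_repr ω, map_sum]
    refine (congrArg (· ∈ T) (map_sum (AddMonoidHom.mk' (upVal Φ U.1) (upVal_add Φ U.1)) _ _)).mpr
      (T.sum_mem fun l _ => ?_)
    show upVal Φ U.1 (ΛX.ι.app U.1 (c.b.repr ω l • c.b l)) ∈ T
    rw [Scheme.Modules.Hom.app_smul, ← c.w_smul, upVal_smul, upVal_smul, ← hb]
    obtain ⟨q, hq⟩ := (hsc l).1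
    rw [hq, mul_comm, mul_smul]
    exact T.smul_mem _ (T.smul_mem _ (Submodule.subset_span ⟨l, rfl⟩))
  let p : Γ(Y, π ⁻¹ᵁ U.1) → Prop := fun x => ΛY.ι.app _ (dY.app _ x) ∈ T
  have padd : ∀ x y, p x → p y → p (x + y) := fun x y hx hy => by
    show ΛY.ι.app _ (dY.app _ (x + y)) ∈ T
    rw [map_add, map_add]; exact T.add_mem hx hy
  have pmul : ∀ x y, p x → p y → p (x * y) := fun x y hx hy => by
    show ΛY.ι.app _ (dY.app _ (x * y)) ∈ T
    rw [Synt29.OmegaStalk.app_mul, map_add, Scheme.Modules.Hom.app_smul, Scheme.Modules.Hom.app_smul]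
    exact T.add_mem (T.smul_mem _ hy) (T.smul_mem _ hx)
  have pA : ∀ a, p ((π.app U.1).hom a) := fun a => by
    show ΛY.ι.app _ (dY.app _ _) ∈ T
    rw [← hβ]
    exact hAT _
  have pW : p c.W := by
    have h1 := congrArg (fun z => ΛY.ι.app _ z) (d_pow dY c.W c.g₀)
    simp only [Scheme.Modules.Hom.app_smul] at h1
    refine (Submodule.smul_mem_iff_of_isUnit T (c.g₀_unit.mul (c.W_unit.pow c.g₀))).1 ?_
    rw [← h1, c.W_pow]
    exact T.smul_mem _ (pA _)
  have pS : p c.S := by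
    show ΛY.ι.app _ (dY.app _ c.S) ∈ T
    rcases c.cases with ⟨i₀, l₀, -, hgY₀, -⟩ | ⟨-, hw1⟩
    · rw [← hgY₀, ← hdlY, hgY₀]
      exact hST _
    · have : T = ⊤ := by
        rw [eq_top_iff, ← BY.span_eq]
        refine Submodule.span_mono (Set.range_subset_iff.2 fun l => ⟨l, ?_⟩)
        show c.sc l • BY l = BY l
        rw [LogCh.sc, if_pos (hw1 l), one_smul]
      rw [this]; trivial
  have hpall : ∀ x, p x := c.gen p padd pmul pA pW pS
  let eB : π ⁻¹ᵁ U.1 ≤ (π ≫ φ) ⁻¹ᵁ ⊤ := le_top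
  letI : Algebra Γ(Spec (CommRingCat.of k), ⊤) Γ(Y, π ⁻¹ᵁ U.1) :=
    ((π ≫ φ).appLE ⊤ (π ⁻¹ᵁ U.1) eB).hom.toAlgebra
  obtain ⟨EB, hEB⟩ := exists_omega_equiv hdY (U.2.preimage π) (isAffineOpen_top _) eB
  have hωT : ∀ ω, ΛY.ι.app (π ⁻¹ᵁ U.1) ω ∈ T := by
    intro ω
    obtain ⟨z, rfl⟩ := EB.symm.surjective ω
    have hz : z ∈ Submodule.span Γ(Y, π ⁻¹ᵁ U.1)
        (Set.range (KaehlerDifferential.D Γ(Spec (CommRingCat.of k), ⊤) Γ(Y, π ⁻¹ᵁ U.1))) := by
      rw [KaehlerDifferential.span_range_derivation]; trivial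
    induction hz using Submodule.span_induction with
    | mem y hy =>
      obtain ⟨a, rfl⟩ := hy
      rw [(LinearEquiv.symm_apply_eq _).2 (hEB a).symm]
      exact hpall a
    | zero => rw [map_zero, map_zero]; exact T.zero_mem
    | add a BY _ _ ha hb => rw [map_add, map_add]; exact T.add_mem ha hb
    | smul t a _ ha => rw [map_smul, Scheme.Modules.Hom.app_smul]; exact T.smul_mem _ ha
  have hscreg : ∀ l y, c.sc l * y = 0 → y = 0 := fun l y hy => by
    unfold LogCh.sc at hy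
    split_ifs at hy
    · rwa [one_mul] at hy
    · exact c.S_regular y hy
  refine ⟨Module.Basis.mk (v := η) ?_ ?_, fun l => by rw [Module.Basis.mk_apply]; exact hη l⟩
  · rw [Fintype.linearIndependent_iff]
    intro a ha l
    have h1 := congrArg (fun z => ΛY.ι.app _ z) ha
    simp only [map_sum, Scheme.Modules.Hom.app_smul, hη, smul_smul, map_zero] at h1
    exact hscreg l _ (by rw [mul_comm]; exact Fintype.linearIndependent_iff.1 BY.linearIndependent _ h1 l)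
  · intro ω _
    obtain ⟨a, ha⟩ := (Submodule.mem_span_range_iff_exists_fun _).1 (hωT ω)
    refine (Submodule.mem_span_range_iff_exists_fun _).2 ⟨a, QCoh.app_injective ΛY.ι _ ?_⟩
    rw [map_sum, ← ha]
    exact Finset.sum_congr rfl fun l _ => by rw [Scheme.Modules.Hom.app_smul, hη]

open Classical in
/-- A frame of the log forms of the part of the divisor where `P` fails. -/
theorem LogCh.exists_sub_frame {β : ΩX ⟶ (Scheme.Modules.pushforward π).obj ΩY}
    (Φ : ΛX.L ⟶ (Scheme.Modules.pushforward π).obj ΛY.L) (hreg : PullReg ΛY (D := D))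
    (hΦ : ∀ (U : X.affineOpens) (g : Fin r → Γ(X, U.1)), PullGood ΛY (D := D) U →
      (∀ i, (D i).ideal U = Ideal.span {g i}) → ∀ z, PRel ΛX ΛY β U.1 g z (Φ.app U.1 z))
    (hb : ∀ l, BY l = upVal Φ U.1 (c.BX l))
    {D' : Fin r → X.IdealSheafData} {Λ : LogNCD.LogMod dX D'} (hreg' : PullReg ΛY (D := D')) (P : Fin r → Prop)
    [DecidablePred P] (hD' : ∀ j, D' j = if P j then ⊤ else D j)
    (Φ' : Λ.L ⟶ (Scheme.Modules.pushforward π).obj ΛY.L)
    (hΦ' : ∀ (U : X.affineOpens) (g : Fin r → Γ(X, U.1)), PullGood ΛY (D := D') U →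
      (∀ i, (D' i).ideal U = Ideal.span {g i}) → ∀ z, PRel Λ ΛY β U.1 g z (Φ'.app U.1 z)) :
    ∃ B : Module.Basis (Fin c.n) Γ(X, U.1) Γ(Λ.L, U.1), ∀ l,
      upVal Φ' U.1 (B l) =
        (if ∀ i, c.g i = 1 ∨ P i then (π.app U.1).hom (c.w l) else 1) • BY l := by
  classical
  let g' : Fin r → Γ(X, U.1) := fun i => if P i then 1 else c.g i
  have hg' : ∀ i, (D' i).ideal U = Ideal.span {g' i} := fun i => by
    by_cases hi : P i
    · simp only [hD', g', if_pos hi, Ideal.span_singleton_one]; rfl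
    · simp only [hD', g', if_neg hi]; exact c.span i
  have hgood : PullGood ΛY (D := D') U := c.pullGood_of g' hg' fun i => by
    by_cases hi : P i <;> simp [g', hi]
  have hPι : ∀ ω, upVal Φ U.1 (ΛX.ι.app U.1 ω) = ΛY.ι.app _ (pullAt β U.1 ω) := fun ω =>
    pullLog_ι hreg c.span (hΦ U c.g c.pullGood c.span) ω
  have hPι' : ∀ ω, upVal Φ' U.1 (Λ.ι.app U.1 ω) = ΛY.ι.app _ (pullAt β U.1 ω) := fun ω =>
    pullLog_ι hreg' hg' (hΦ' U g' hgood hg') ω
  by_cases hall : ∀ i, c.g i = 1 ∨ P i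
  · obtain ⟨B, w', hw', -, hw1⟩ := exists_log_basis_smul Λ hg' c.b (T := PEmpty.{1}) PEmpty.elim PEmpty.elim
      (fun t => t.elim) (fun t => t.elim) (fun t => t.elim)
      fun i _ => by rcases hall i with hi | hi <;> by_cases h' : P i <;> simp [g', h', hi] at hi ⊢ <;> exact hi
    refine ⟨B, fun l => ?_⟩
    have h1 := hw' l
    rw [hw1 l fun t => t.elim, one_smul] at h1
    rw [if_pos hall, h1, hPι', hb, ← upVal_smul, c.w_smul, hPι]
  · push Not at hall
    obtain ⟨i₁, hi₁, hP₁⟩ := hall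
    rcases c.cases with ⟨i₀, l₀, hg₀, -, hg1, hw₀, hb₀, hw1⟩ | ⟨hg1, -⟩
    · have h01 : i₁ = i₀ := not_not.1 fun hne => hi₁ (hg1 i₁ hne)
      subst h01
      have hne : ¬ ∀ i, c.g i = 1 ∨ P i := fun hh => (hh i₁).elim hi₁ hP₁
      haveI := c.nonempty
      obtain ⟨B, w', hw', hwt, hw'1⟩ := exists_log_basis_smul Λ hg' c.b (T := Unit) (fun _ => i₁) (fun _ => l₀)
        (fun _ _ _ => rfl) (fun _ => by simp only [g', if_neg hP₁]; rw [hg₀, hb₀])
        (fun _ => by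
          simp only [g', if_neg hP₁, hg₀]
          exact fun x y hxy => mul_left_cancel₀ c.h_ne hxy)
        fun i hi => by
          have := hg1 i fun e => hi () e.symm
          by_cases h' : P i <;> simp [g', h', this]
      refine ⟨B, fun l => c.smul_cancel BY (c.w_ne l) ?_⟩
      have hwl : w' l = c.w l := by
        by_cases hl : l₀ = l
        · subst hl; rw [hwt (), hw₀]; simp [g', hP₁, hg₀]
        · rw [hw'1 l fun _ => hl, hw1 l (Ne.symm hl)]
      rw [if_neg hne, one_smul, hb, ← upVal_smul, ← upVal_smul, c.w_smul, ← hwl, hw', hPι, hPι']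
    · exact absurd (hg1 i₁) hi₁

end Groth.Agent.H44Cyc
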